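import Cfsg.Agent.H44.StdHalf

/-!
The Levi isometries `diag(A, A⁻ᵀ)` and the swap of the two standard halves of the hyperbolic form.
-/

set_option autoImplicit false

namespace H44

open H43 Matrix

variable {F : Type*} [Field F] {m : ℕ}

/-- `diag(A, A⁻ᵀ)` as an isometry of the hyperbolic form. -/
theorem exists_blockOrth (A : Matrix (Fin m) (Fin m) F) (hA : A.det ≠ 0) :
    ∃ g : orthGroup (qPlus m F), ∀ x, g.1 x = fromBlocks A 0 0 (A⁻¹)ᵀ *ᵥ x := by
  have hu : IsUnit A.det := isUnit_iff_ne_zero.2 hA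
  let M := fromBlocks A 0 0 (A⁻¹)ᵀ
  have hiso : ∀ x, qPlus m F (Matrix.toLin' M x) = qPlus m F x := by
    intro x
    rw [Matrix.toLin'_apply]
    simp only [coe_qPlus, Cfsg.quadFormPlus, M, fromBlocks_mulVec, Sum.elim_inl, Sum.elim_inr,
      zero_mulVec, add_zero, zero_add]
    show (A *ᵥ (x ∘ Sum.inl)) ⬝ᵥ ((A⁻¹)ᵀ *ᵥ (x ∘ Sum.inr)) = (x ∘ Sum.inl) ⬝ᵥ (x ∘ Sum.inr)
    rw [dotProduct_mulVec, vecMul_transpose, mulVec_mulVec, nonsing_inv_mul _ hu, one_mulVec]
  exact ⟨ofIsometry (qPlus_nondeg m) (Matrix.toLin' M) hiso,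
    fun x => by rw [ofIsometry_apply]; exact Matrix.toLin'_apply M x⟩

theorem blockOrth_preserves {g : orthGroup (qPlus m F)} {A D : Matrix (Fin m) (Fin m) F}
    (hg : ∀ x, g.1 x = fromBlocks A 0 0 D *ᵥ x) :
    (LinearMap.ker (LinearMap.funLeft F F (Sum.inr : Fin m → Fin m ⊕ Fin m))).map
      (g.1 : (Fin m ⊕ Fin m → F) →ₗ[F] (Fin m ⊕ Fin m → F)) =
      LinearMap.ker (LinearMap.funLeft F F (Sum.inr : Fin m → Fin m ⊕ Fin m)) := by
  refine Submodule.eq_of_le_of_finrank_eq ?_ (finrank_map_orth g _)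
  rintro x ⟨a, ha, rfl⟩
  have h : a ∘ Sum.inr = 0 := LinearMap.mem_ker.1 ha
  rw [LinearMap.mem_ker]
  funext i
  show g.1 a (Sum.inr i) = 0
  rw [hg, fromBlocks_mulVec, h]
  simp

theorem blockOrth_dickson [Finite F] (hgen : ReflGenerates F (Fin m ⊕ Fin m → F))
    {g : orthGroup (qPlus m F)} {A D : Matrix (Fin m) (Fin m) F}
    (hg : ∀ x, g.1 x = fromBlocks A 0 0 D *ᵥ x) : dickson g = 1 := by
  have h := even_inf_map_iff (qPlus_nondeg m) hgen (finrank_qPlus m) g (plus_half_singular m)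
    (plus_half_singular m) (plus_half_finrank m) (plus_half_finrank m)
  rw [blockOrth_preserves hg, inf_idem, plus_half_finrank, Nat.sub_self] at h
  simpa using h

theorem blockOrth_mul {g h k : orthGroup (qPlus m F)} {A B : Matrix (Fin m) (Fin m) F}
    (hg : ∀ x, g.1 x = fromBlocks A 0 0 (A⁻¹)ᵀ *ᵥ x) (hh : ∀ x, h.1 x = fromBlocks B 0 0 (B⁻¹)ᵀ *ᵥ x)
    (hk : ∀ x, k.1 x = fromBlocks (A * B) 0 0 ((A * B)⁻¹)ᵀ *ᵥ x) : k = g * h := by
  apply orth_ext
  intro x
  rw [orth_mul_apply, hg, hh, mulVec_mulVec, fromBlocks_multiply, hk, Matrix.mul_inv_rev, transpose_mul]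
  simp

theorem sqc_prod {ι : Type*} (s : Finset ι) (d : ι → F) (hd : ∀ i ∈ s, d i ≠ 0) :
    sqc (∏ i ∈ s, d i) = ∏ i ∈ s, sqc (d i) := by
  classical
  induction s using Finset.induction_on with
  | empty => simp [sqc_one]
  | insert a t ha ih =>
    rw [Finset.prod_insert ha, Finset.prod_insert ha, sqc_mul (hd a (Finset.mem_insert_self a t))
      (Finset.prod_ne_zero_iff.2 (fun i hi => hd i (Finset.mem_insert_of_mem hi))),
      ih (fun i hi => hd i (Finset.mem_insert_of_mem hi))]

/-- The spinor norm of `diag(A, A⁻ᵀ)` is the class of `det A`. -/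
theorem blockOrth_spinor [Finite F] (hgen : ReflGenerates F (Fin m ⊕ Fin m → F))
    (A : Matrix (Fin m) (Fin m) F) (hA : A.det ≠ 0) :
    ∀ g : orthGroup (qPlus m F), (∀ x, g.1 x = fromBlocks A 0 0 (A⁻¹)ᵀ *ᵥ x) →
      spinor g = sqc A.det := by
  classical
  have hnd := qPlus_nondeg (F := F) m
  refine Matrix.diagonal_transvection_induction_of_det_ne_zero
    (fun M => ∀ g : orthGroup (qPlus m F), (∀ x, g.1 x = fromBlocks M 0 0 (M⁻¹)ᵀ *ᵥ x) →
      spinor g = sqc M.det) A hA ?_ ?_ ?_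
  · intro d hd
    rw [det_diagonal, Finset.prod_ne_zero_iff] at hd
    have hd' : ∀ i, d i ≠ 0 := fun i => hd i (Finset.mem_univ i)
    -- build the diagonal isometry one coordinate at a time
    have key : ∀ s : Finset (Fin m), ∃ g : orthGroup (qPlus m F),
        spinor g = ∏ i ∈ s, sqc (d i) ∧ ∀ x : Fin m ⊕ Fin m → F,
          g.1 x = Sum.elim (fun i => if i ∈ s then d i * x (Sum.inl i) else x (Sum.inl i))
            (fun i => if i ∈ s then (d i)⁻¹ * x (Sum.inr i) else x (Sum.inr i)) := by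
      intro s
      induction s using Finset.induction_on with
      | empty => exact ⟨1, by simp [spinor_one hnd], fun x => by ext (i | i) <;> simp [orth_one_apply]⟩
      | insert a t ha ih =>
        obtain ⟨g, hgs, hgx⟩ := ih
        have hp : HypPair (qPlus m F) (Pi.single (Sum.inl a) 1) (Pi.single (Sum.inr a) 1) :=
          ⟨by simp [coe_qPlus, Cfsg.quadFormPlus, Pi.single_apply],
            by simp [coe_qPlus, Cfsg.quadFormPlus, Pi.single_apply],
            by simp [polB_qPlus, Pi.single_apply]⟩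
        refine ⟨hscale (qPlus m F) (Pi.single (Sum.inl a) 1) (Pi.single (Sum.inr a) 1) (d a) * g, ?_, fun x => ?_⟩
        · rw [spinor_mul hnd hgen, (hscale_invariants hnd hgen hp (hd' a)).2, hgs, Finset.prod_insert ha]
        · rw [orth_mul_apply, hscale_apply hp (hd' a), hgx]
          ext (i | i) <;> by_cases hi : i = a <;>
            simp [polB_qPlus, Pi.single_apply, hi, ha] <;> ring
    obtain ⟨g₀, hg₀, hgx⟩ := key Finset.univ
    intro g hg
    rw [det_diagonal, sqc_prod _ d hd, ← hg₀]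
    congr 1
    apply orth_ext
    intro x
    rw [hg, hgx]
    have hinv : (diagonal d)⁻¹ = diagonal (fun i => (d i)⁻¹) :=
      inv_eq_right_inv (by rw [diagonal_mul_diagonal, ← diagonal_one]; congr 1; funext i; exact mul_inv_cancel₀ (hd' i))
    rw [hinv, diagonal_transpose, fromBlocks_diagonal]
    ext (i | i) <;> simp [mulVec_diagonal]
  · intro t g hg
    rw [TransvectionStruct.det, sqc_one]
    by_cases h2 : (2 : F) = 0
    · exact sqc_eq_one_of_two_eq_zero h2 _
    haveI : NeZero (2 : F) := ⟨h2⟩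
    have hsq : t.toMatrix = Matrix.transvection t.i t.j (t.c / 2) * Matrix.transvection t.i t.j (t.c / 2) := by
      rw [Matrix.transvection_mul_transvection_same t.i t.j t.hij, add_halves]
      rfl
    have hdet : (Matrix.transvection t.i t.j (t.c / 2)).det ≠ 0 := by
      rw [det_transvection_of_ne t.i t.j t.hij]; exact one_ne_zero
    obtain ⟨h, hh⟩ := exists_blockOrth _ hdet
    have e : g = h * h := blockOrth_mul hh hh (by rw [← hsq]; exact hg)
    rw [e, spinor_mul hnd hgen, sqClass_mul_self]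
  · intro M N hM hN ihM ihN g hg
    obtain ⟨a, ha⟩ := exists_blockOrth M hM
    obtain ⟨b, hb⟩ := exists_blockOrth N hN
    rw [blockOrth_mul ha hb hg, spinor_mul hnd hgen, ihM a ha, ihN b hb, det_mul, sqc_mul hM hN]

/-- The exchange of the two standard halves. -/
theorem exists_swapHalves [Finite F] (hgen : ReflGenerates F (Fin m ⊕ Fin m → F)) :
    ∃ g : orthGroup (qPlus m F), dickson g = Multiplicative.ofAdd (m : ZMod 2) ∧
      spinor g = sqc ((-1 : F) ^ m) ∧ ∀ x, g.1 x = fun k => x k.swap := by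
  classical
  have hnd := qPlus_nondeg (F := F) m
  have key : ∀ s : Finset (Fin m), ∃ g : orthGroup (qPlus m F),
      dickson g = Multiplicative.ofAdd (s.card : ZMod 2) ∧ spinor g = sqc ((-1 : F) ^ s.card) ∧
      ∀ x : Fin m ⊕ Fin m → F, g.1 x = Sum.elim (fun i => if i ∈ s then x (Sum.inr i) else x (Sum.inl i))
        (fun i => if i ∈ s then x (Sum.inl i) else x (Sum.inr i)) := by
    intro s
    induction s using Finset.induction_on with
    | empty =>
      exact ⟨1, by simp [dickson_one], by simp [spinor_one hnd, sqc_one],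
        fun x => by ext (i | i) <;> simp [orth_one_apply]⟩
    | insert a t ha ih =>
      obtain ⟨g, hgd, hgs, hgx⟩ := ih
      set v : Fin m ⊕ Fin m → F := Pi.single (Sum.inl a) 1 - Pi.single (Sum.inr a) 1 with hv
      have hQv : qPlus m F v = -1 := by
        rw [hv, qmap_sub, polB_qPlus]
        simp [coe_qPlus, Cfsg.quadFormPlus, Pi.single_apply]
      have hv0 : qPlus m F v ≠ 0 := by rw [hQv]; exact neg_ne_zero.2 one_ne_zero
      refine ⟨refl (qPlus m F) v * g, ?_, ?_, fun x => ?_⟩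
      · rw [dickson_refl_mul hnd g hv0, hgd, Finset.card_insert_of_notMem ha, ← ofAdd_add]
        congr 1; push_cast; ring
      · rw [spinor_mul hnd hgen, spinor_refl hnd hv0, hgs, hQv, Finset.card_insert_of_notMem ha,
          sqc_pow_succ (neg_ne_zero.2 one_ne_zero)]
      · rw [orth_mul_apply, refl_apply, hgx, hQv, hv, polB_qPlus]
        ext (i | i) <;> by_cases hi : i = a <;>
          simp [Pi.single_apply, hi, ha, mul_sub, Finset.sum_add_distrib] <;> ring
  obtain ⟨g, h1, h2, h3⟩ := key Finset.univ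
  rw [Finset.card_univ, Fintype.card_fin] at h1 h2
  exact ⟨g, h1, h2, fun x => by rw [h3]; ext (i | i) <;> simp⟩

end H44
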