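import Cfsg.Agent.H44.BCRealise

/-!
Orders `2r` in `Ω_{2n+1}` and `PSp_{2n}` for an odd prime `r` other than the characteristic.
-/

set_option autoImplicit false

namespace H44

open H43 Matrix

variable {F : Type*} [Field F] {V : Type*} [AddCommGroup V] [Module F V]

/-- The symplectic group as linear automorphisms. -/
def spLin (n : ℕ) : Matrix.symplecticGroup (Fin n) F →* ((Fin n ⊕ Fin n → F) ≃ₗ[F] (Fin n ⊕ Fin n → F)) :=
  MonoidHom.mk' (fun g =>
    { toFun := fun v => g • v
      map_add' := smul_add g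
      map_smul' := fun a v => Matrix.mulVec_smul _ a v
      invFun := fun v => g⁻¹ • v
      left_inv := inv_smul_smul g
      right_inv := smul_inv_smul g }) fun a b => LinearEquiv.ext fun v => mul_smul a b v

theorem spLin_apply {n : ℕ} (g : Matrix.symplecticGroup (Fin n) F) (v : Fin n ⊕ Fin n → F) :
    spLin n g v = g • v := rfl

theorem spLin_injective (n : ℕ) : Function.Injective (spLin (F := F) n) := fun a b h =>
  H48.sp_ext fun v => LinearEquiv.congr_fun h v

theorem spLin_mem {n : ℕ} (g : Matrix.symplecticGroup (Fin n) F) :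
    spLin n g ∈ bIso (H48.sf (l := Fin n) (F := F)) := H48.sf_smul_smul g

theorem sf_nondegenerate (n : ℕ) : (H48.sf (l := Fin n) (F := F)).Nondegenerate :=
  ⟨fun _ h => H48.eq_zero_of_sf h, fun u h => H48.eq_zero_of_sf fun v => H48.sf_eq_zero_comm (h v)⟩

theorem sf_formKind (n : ℕ) : FormKind (H48.sf (l := Fin n) (F := F)) := Or.inl fun v => H48.sf_self v

/-- The orthogonal group as linear automorphisms preserving the polar form. -/
theorem orth_mem_bIso {Q : QuadraticForm F V} (g : orthGroup Q) : g.1 ∈ bIso (polB Q) := fun x y =>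
  orth_polB_map g x y

theorem polB_formKind (Q : QuadraticForm F V) : FormKind (polB Q) := Or.inr fun u v => polB_comm u v

variable [Fintype F]

/-- The determinant of a non-degenerate alternating form is a square. -/
theorem isSquare_det_alt (hodd : Odd (Fintype.card F)) {k : ℕ} {f : LinearMap.BilinForm F (Fin k → F)}
    (hf : f.IsAlt) (hnd : f.Nondegenerate) : IsSquare (LinearMap.BilinForm.toMatrix' f).det := by
  classical
  set A := LinearMap.BilinForm.toMatrix' f
  have h2 := two_ne_zero_of_odd_card hodd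
  have hA := alt_skew hf
  have hA0 := det_toMatrix'_ne_zero f hnd
  obtain ⟨d, hd⟩ := H55.even_card_of_skew h2 hA hA0
  rw [Fintype.card_fin, ← two_mul] at hd
  obtain ⟨P, P', c, hc, h1, h2', hJ⟩ := H55.congr_J_of_skew hodd hA hA0 (m := d) (by simpa using hd)
  let e : Fin d ⊕ Fin d ≃ Fin k := finSumFinEquiv.trans (finCongr (by omega))
  have hP : (P.submatrix id e) * (A.submatrix e e) * (P.submatrix id e)ᵀ = P * A * Pᵀ := by
    rw [transpose_submatrix, Matrix.submatrix_mul_equiv, Matrix.submatrix_mul_equiv, Matrix.submatrix_id_id]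
  have hdetJ : (Matrix.J (Fin d) F).det = 1 := by
    have h : Matrix.fromBlocks (0 : Matrix (Fin d) (Fin d) F) 1 1 0 * Matrix.fromBlocks 1 0 0 (-1) =
        Matrix.J (Fin d) F := by
      rw [Matrix.fromBlocks_multiply]; simp [Matrix.J]
    rw [← h, Matrix.det_mul, det_swap_blocks, Matrix.det_fromBlocks_zero₂₁, Matrix.det_one, one_mul,
      Matrix.det_neg, Matrix.det_one, mul_one, Fintype.card_fin, ← mul_pow, neg_one_mul, neg_neg, one_pow]
  rw [hJ, ← hP, Matrix.det_smul, Matrix.det_mul, Matrix.det_mul, Matrix.det_transpose,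
    Matrix.det_submatrix_equiv_self, Fintype.card_sum, Fintype.card_fin, pow_add] at hdetJ
  refine ⟨(c ^ d * (P.submatrix id e).det)⁻¹, ?_⟩
  rw [← mul_inv]
  refine eq_inv_of_mul_eq_one_left ?_
  linear_combination hdetJ

/-- A commuting involution other than `±1` leaves room. -/
theorem small_of_split (hodd : Odd (Fintype.card F)) {n k : ℕ} (hk : k ≤ 2 * n)
    {f : LinearMap.BilinForm F (Fin k → F)} (hf : f.IsAlt) (hnd : f.Nondegenerate) {r : ℕ} (hr : r.Prime)
    (hr2 : r ≠ 2) (hr0 : (r : F) ≠ 0) {s t : (Fin k → F) ≃ₗ[F] (Fin k → F)} (hs : s ∈ bIso f) (ht : t ∈ bIso f)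
    (hsr : s ^ r = 1) (hfix : ∀ x, s x = x → x = 0) (hc : Commute t s) (htt : t * t = 1)
    (h1 : ∃ x, t x ≠ x) (hneg : ∃ x, t x ≠ -x) : ∃ k', k' + 2 ≤ 2 * n ∧ Core F r k' := by
  have h2 := two_ne_zero_of_odd_card hodd
  have hT : ∀ x, t (t x) = x := fun x => LinearEquiv.congr_fun htt x
  let P : (Fin k → F) →ₗ[F] (Fin k → F) := (2 : F)⁻¹ • (LinearMap.id + (t : (Fin k → F) →ₗ[F] (Fin k → F)))
  have hP : ∀ x, P x = (2 : F)⁻¹ • (x + t x) := fun x => rfl
  have hPt : ∀ x, t (P x) = P x := fun x => by rw [hP, map_smul, map_add, hT, add_comm]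
  have hPfix : ∀ x, t x = x → P x = x := fun x hx => by
    rw [hP, hx, ← two_smul F, inv_smul_smul₀ h2]
  have hPP : ∀ x, P (P x) = P x := fun x => hPfix _ (hPt x)
  have hcomm : ∀ (e : (Fin k → F) ≃ₗ[F] (Fin k → F)), Commute t e → ∀ x, P (e x) = e (P x) := fun e he x => by
    rw [hP, hP, commute_apply he, map_smul, map_add]
  have hres : ∀ x, t (x - P x) = -(x - P x) := fun x => by
    rw [map_sub, hPt, hP]
    match_scalars <;> field_simp [h2] <;> ring
  have hzero : ∀ a b, t a = a → t b = -b → f a b = 0 ∧ f b a = 0 := fun a b ha hb => by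
    have e1 := mem_bIso.1 ht a b
    have e2 := mem_bIso.1 ht b a
    rw [ha, hb, map_neg] at e1
    rw [ha, hb, map_neg, LinearMap.neg_apply] at e2
    exact ⟨(mul_eq_zero.1 (show (2 : F) * f a b = 0 by linear_combination -e1)).resolve_left h2,
      (mul_eq_zero.1 (show (2 : F) * f b a = 0 by linear_combination -e2)).resolve_left h2⟩
  let mk : ((Fin k → F) ≃ₗ[F] (Fin k → F)) → (Fin k → F) →ₗ[F] (Fin k → F) := fun e =>
    (e : (Fin k → F) →ₗ[F] (Fin k → F)) ∘ₗ P + (LinearMap.id - P)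
  have hmk : ∀ e x, mk e x = e (P x) + (x - P x) := fun e x => rfl
  have hci : Commute t s⁻¹ := hc.inv_right
  have hPsub : ∀ x, P (x - P x) = 0 := fun x => by rw [map_sub, hPP, sub_self]
  have hcomp : ∀ e e', Commute t e → ∀ x, mk e' (mk e x) = mk (e' * e) x := fun e e' he x => by
    rw [hmk, hmk, hmk, map_add, hPsub, add_zero, hcomm e he, hPP]
    show e' (e (P x)) + (e (P x) + (x - P x) - e (P x)) = e' (e (P x)) + (x - P x)
    rw [add_sub_cancel_left]
  have hone : ∀ x, mk 1 x = x := fun x => by rw [hmk]; exact add_sub_cancel _ _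
  let u : (Fin k → F) ≃ₗ[F] (Fin k → F) := LinearEquiv.ofLinearMap (mk s) (mk s⁻¹)
    (LinearMap.ext fun x => by rw [LinearMap.comp_apply, hcomp _ _ hci, mul_inv_cancel, hone]; rfl)
    (LinearMap.ext fun x => by rw [LinearMap.comp_apply, hcomp _ _ hc, inv_mul_cancel, hone]; rfl)
  have hu : ∀ x, u x = mk s x := fun x => rfl
  have huf : u ∈ bIso f := fun x y => by
    have sP : ∀ z, t (s (P z)) = s (P z) := fun z => by rw [commute_apply hc, hPt]
    conv_rhs => rw [← add_sub_cancel (P x) x, ← add_sub_cancel (P y) y]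
    rw [hu, hu, hmk, hmk]
    simp only [map_add, LinearMap.add_apply]
    rw [mem_bIso.1 hs, (hzero _ _ (sP x) (hres y)).1, (hzero _ _ (sP y) (hres x)).2,
      (hzero _ _ (hPt x) (hres y)).1, (hzero _ _ (hPt y) (hres x)).2]
  have hupow : ∀ (i : ℕ) x, (u ^ i) x = mk (s ^ i) x := fun i => by
    induction i with
    | zero => exact fun x => (hone x).symm
    | succ i ih =>
      intro x
      rw [pow_succ', pow_succ']
      show u ((u ^ i) x) = _
      rw [hu, ih, hcomp _ _ (hc.pow_right i)]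
  haveI : Fact r.Prime := ⟨hr⟩
  obtain ⟨a, ha0, hat⟩ : ∃ a, a ≠ 0 ∧ t a = a := by
    obtain ⟨x, hx⟩ := hneg
    exact ⟨x + t x, fun e => hx (eq_neg_of_add_eq_zero_right e), by rw [map_add, hT, add_comm]⟩
  have hord : orderOf u = r := by
    refine orderOf_eq_prime (LinearEquiv.ext fun x => ?_) fun e => ha0 (hfix a ?_)
    · rw [hupow, hsr, hone]; rfl
    · have h := LinearEquiv.congr_fun e a
      rw [hu, hmk, hPfix a hat, sub_self, add_zero] at h
      exact h
  obtain ⟨b, hb0, hbt⟩ : ∃ b, b ≠ 0 ∧ t b = -b := by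
    obtain ⟨x, hx⟩ := h1
    exact ⟨x - t x, fun e => hx (sub_eq_zero.1 e).symm, by rw [map_sub, hT, neg_sub]⟩
  have hdk : Module.finrank F (Fin k → F) = k := Module.finrank_fin_fun F
  obtain ⟨k', hk', hdim, hcore⟩ := core_of_semisimple (n := n) (x := u) hodd (by omega) (Or.inl hf) hnd huf hord
    hr0 (hr.odd_of_ne_two hr2)
  refine ⟨k', ?_, hcore⟩
  have hpos : 0 < Module.finrank F (fixedSp u) := Module.finrank_pos_iff_exists_ne_zero.2
    ⟨⟨b, mem_fixedSp.2 (by rw [hu, hmk, hP, hbt, add_neg_cancel, smul_zero, map_zero, zero_add, sub_zero])⟩,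
      fun e => hb0 (congrArg Subtype.val e)⟩
  obtain ⟨e, he⟩ := core_even hodd hcore
  obtain ⟨d, -, hd, -⟩ := exists_spHom hodd hf hnd
  omega

variable {p : ℕ} [Fact p.Prime] [CharP F p] {n : ℕ} {r : ℕ}

omit [Fintype F] [Fact p.Prime] in
theorem natCast_ne_zero_of_prime [Fact p.Prime] (hr : r.Prime) (hrp : r ≠ p) : (r : F) ≠ 0 := by
  rw [Ne, CharP.cast_eq_zero_iff F p]
  exact fun e => hrp ((Nat.prime_dvd_prime_iff_eq (Fact.out : p.Prime) hr).1 e).symm

theorem sord_of_oord_two (hodd : Odd (Fintype.card F)) (hn : 1 ≤ n) (hr : r.Prime) (hr2 : r ≠ 2) (hrp : r ≠ p)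
    (h : OOrd F n (2 * r)) : (∃ k, k + 2 ≤ 2 * n ∧ Core F r k) ∨ SOrd F n (2 * r) := by
  classical
  have h2 := two_ne_zero_of_odd_card hodd
  have hp2 : p ≠ 2 := by
    rintro rfl
    exact h2 CharTwo.two_eq_zero
  have hr0 : (r : F) ≠ 0 := natCast_ne_zero_of_prime hr hrp
  have hrodd := hr.odd_of_ne_two hr2
  have hQ := qOdd_nondeg (F := F) h2 n
  have hdim := finrank_qOdd (F := F) n
  set Q := qOdd n F with hQdef
  obtain ⟨x, hxc, hx⟩ : ∃ x ∈ commutator (orthGroup Q), orderOf x = 2 * r := h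
  obtain ⟨so, hso, hsof⟩ : ∃ so : orthGroup Q, so = x ^ 2 ∧ orderOf so.1 = r := ⟨_, rfl, by
    rw [Subgroup.orderOf_coe, orderOf_pow' _ two_ne_zero, hx, Nat.gcd_mul_right_left,
      Nat.mul_div_cancel_left _ two_pos]⟩
  have hto : orderOf (x ^ r) = 2 := by
    rw [orderOf_pow' _ hr.ne_zero, hx, Nat.gcd_mul_left_left, Nat.mul_div_cancel _ hr.pos]
  set tr2 := x ^ r
  have hcts : Commute tr2.1 so.1 := by
    have := ((Commute.refl x).pow_pow r 2).map (orthGroup Q).subtype
    rw [← hso] at this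
    exact this
  have hsr : so.1 ^ r = 1 := hsof ▸ pow_orderOf_eq_one so.1
  obtain ⟨k, hk, hkd, hcore⟩ := core_of_semisimple (n := n) hodd hdim.le (polB_formKind Q) hQ (orth_mem_bIso so) hsof hr0
    hrodd
  by_cases hsm : k + 2 ≤ 2 * n
  · exact Or.inl ⟨k, hsm, hcore⟩
  obtain ⟨e, he⟩ := core_even hodd hcore
  rw [hdim] at hkd
  have hfix1 : Module.finrank F (fixedSp so.1) = 1 := by omega
  obtain ⟨m, ι, f₁, f₂, hι, hrange, hmd, h1n, h2n, e1, e2, hg⟩ :=
    exists_moved_forms hsr hr0 hrodd (polB Q) (orth_mem_bIso so) (polB_isRefl Q) hQ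
  have hm : m = 2 * n := by omega
  have hc := isCompl_fixed_moved hsr hr0
  obtain ⟨s', ⟨hs1, hs2⟩, hs'⟩ := hg _ (orth_mem_bIso so) (Commute.refl _)
  obtain ⟨t', ⟨ht1, ht2⟩, ht'⟩ := hg _ (orth_mem_bIso tr2) hcts
  have hmem : ∀ v, ι v ∈ movedSp so.1 := fun v => hrange ▸ LinearMap.mem_range_self ι v
  have hs'sym : ∀ v, ι (s'.symm v) = so.1.symm (ι v) := fun v => by
    apply so.1.injective
    rw [← hs', LinearEquiv.apply_symm_apply, LinearEquiv.apply_symm_apply]
  have hw : ∀ v, ι (skewPart s' v) = skewPart so.1 (ι v) := fun v => by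
    rw [skewPart_apply, skewPart_apply, map_sub, hs', hs'sym]
  have hwinj : Function.Injective (skewPart s') := LinearMap.ker_eq_bot.1 ((Submodule.eq_bot_iff _).2 fun v hv =>
    hι ((skewPart_injOn hsr hr0 hrodd (hmem v) (by rw [← hw, LinearMap.mem_ker.1 hv, map_zero])).trans
      (map_zero ι).symm))
  have hfixs : ∀ v, s' v = v → v = 0 := fun v hv =>
    hι ((Submodule.disjoint_def.1 hc.disjoint (ι v) (mem_fixedSp.2 (by rw [← hs', hv])) (hmem v)).trans
      (map_zero ι).symm)
  have hs'r : s' ^ r = 1 := LinearEquiv.ext fun v => hι (by rw [restrict_pow hs', hsr]; rfl)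
  have hcts' : Commute t' s' := LinearEquiv.ext fun v => hι (by
    show ι (t' (s' v)) = ι (s' (t' v))
    rw [ht', hs', hs', ht', commute_apply hcts])
  have hto2 : ∀ v, tr2.1 (tr2.1 v) = v := fun v => by
    have e' := congrArg (fun g : orthGroup Q => g.1 v) (pow_orderOf_eq_one tr2)
    rw [hto, pow_two] at e'
    exact e'
  have htt : t' * t' = 1 := LinearEquiv.ext fun v => hι (by
    show ι (t' (t' v)) = ι v
    rw [ht', ht', hto2])
  have halt : f₂.IsAlt := fun v => by
    show f₂ v v = 0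
    have e' := skewPart_adjoint (orth_mem_bIso so) (ι v) (ι v)
    rw [polB_comm, ← e2] at e'
    exact (mul_eq_zero.1 (show (2 : F) * f₂ v v = 0 by linear_combination e')).resolve_left h2
  by_cases hsmall : ∃ t ∈ bIso f₂, Commute t s' ∧ t * t = 1 ∧ (∃ v, t v ≠ v) ∧ ∃ v, t v ≠ -v
  · obtain ⟨t₀, ht₀, hct, htt₀, ha, hb⟩ := hsmall
    exact Or.inl (small_of_split hodd (by omega) halt h2n hr hr2 hr0 hs2 ht₀ hs'r hfixs hct htt₀ ha hb)
  right
  have hmin : ∀ t ∈ bIso f₂, Commute t s' → t * t = 1 → t = 1 ∨ ∀ v, t v = -v := fun t₀ ha hb hc₀ => by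
    by_contra hcon
    rw [not_or] at hcon
    exact hsmall ⟨t₀, ha, hb, hc₀, not_forall.1 fun hall => hcon.1 (LinearEquiv.ext hall), not_forall.1 hcon.2⟩
  -- the fixed line
  obtain ⟨⟨z, hz⟩, hz0, hzgen⟩ : ∃ z : fixedSp so.1, z ≠ 0 ∧ ∀ w, ∃ a : F, a • z = w := finrank_eq_one_iff'.1 hfix1
  have hz0' : z ≠ 0 := fun e => hz0 (Subtype.ext e)
  have horth : ∀ v, polB Q (ι v) z = 0 := fun v => (fixed_orth_moved (orth_mem_bIso so) hz (hmem v)).2
  have hdec : ∀ y, ∃ v a, y = ι v + a • z := fun y => by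
    obtain ⟨b, hb, d, hd, rfl⟩ := Submodule.mem_sup.1 (hc.sup_eq_top ▸ Submodule.mem_top : y ∈ fixedSp so.1 ⊔ movedSp so.1)
    obtain ⟨v, rfl⟩ := hrange.symm ▸ hd
    obtain ⟨a, ha⟩ := hzgen ⟨b, hb⟩
    have ha' : a • z = b := congrArg Subtype.val ha
    exact ⟨v, a, by rw [ha', add_comm]⟩
  have hQz : Q z ≠ 0 := fun e => hz0' (eq_zero_of_polB_eq_zero hQ fun y => by
    obtain ⟨v, a, rfl⟩ := hdec y
    simp only [map_add, map_smul, polB_self, e, mul_zero, smul_zero, add_zero]
    rw [polB_comm]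
    exact horth v)
  have htz : tr2.1 z = z ∨ tr2.1 z = -z := by
    obtain ⟨a, ha⟩ := hzgen ⟨_, commute_map_fixed hcts hz⟩
    have ha' : a • z = tr2.1 z := congrArg Subtype.val ha
    have e' := orth_qmap tr2 z
    rw [← ha', qmap_smul] at e'
    rcases mul_self_eq_one_iff.1 (mul_right_cancel₀ hQz (e'.trans (one_mul _).symm)) with rfl | rfl
    · exact Or.inl (by rw [← ha', one_smul])
    · exact Or.inr (by rw [← ha', neg_one_smul])
  have hdet := ((mem_commutator_iff_odd hQ h2 (by omega) tr2).1 (pow_mem hxc r))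
  have hne : (-1 : Fˣ) ≠ 1 := fun e' => h2 (by
    have h := congrArg Units.val e'
    rw [Units.val_neg, Units.val_one] at h
    linear_combination -h)
  rcases hmin t' ht2 hcts' htt with h1 | h1
  · exfalso
    have hmv : ∀ v, tr2.1 (ι v) = ι v := fun v => by rw [← ht', h1]; rfl
    rcases htz with h | h
    · have : tr2 = 1 := orth_ext fun y => by
        obtain ⟨v, a, rfl⟩ := hdec y
        rw [map_add, map_smul, hmv, h, orth_one_apply]
      rw [this, orderOf_one] at hto
      omega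
    · have : tr2 = refl Q z := orth_ext fun y => by
        obtain ⟨v, a, rfl⟩ := hdec y
        rw [map_add, map_smul, hmv, h, map_add, map_smul, refl_fix (horth v), refl_self hQz]
      rw [this, detHom_refl hQz] at hdet
      exact hne hdet.1
  · have hmv : ∀ v, tr2.1 (ι v) = -ι v := fun v => by rw [← ht', h1, map_neg]
    have hzz : tr2.1 z = z := htz.resolve_right fun h => by
      have : tr2 = negOrth Q := orth_ext fun y => by
        obtain ⟨v, a, rfl⟩ := hdec y
        rw [map_add, map_smul, hmv, h, negOrth_apply, smul_neg, neg_add]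
      rw [this, detHom_negOrth, hdim, (odd_two_mul_add_one n).neg_one_pow] at hdet
      exact hne hdet.1
    have hto_eq : tr2 = negOrth Q * refl Q z := orth_ext fun y => by
      obtain ⟨v, a, rfl⟩ := hdec y
      rw [map_add, map_smul, hmv, hzz, orth_mul_apply, map_add, map_smul, refl_fix (horth v), refl_self hQz,
        negOrth_apply, smul_neg, neg_add, neg_neg]
    let E : (Fin m ⊕ Unit → F) →ₗ[F] (Unit ⊕ (Fin n ⊕ Fin n) → F) :=
      ι ∘ₗ LinearMap.funLeft F F Sum.inl + (LinearMap.proj (Sum.inr ())).smulRight z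
    have hE : ∀ v, E v = ι (v ∘ Sum.inl) + v (Sum.inr ()) • z := fun v => rfl
    have hEsurj : Function.Surjective E := fun y => by
      obtain ⟨v, a, rfl⟩ := hdec y
      exact ⟨Sum.elim v (fun _ => a), by rw [hE, Sum.elim_comp_inl]; rfl⟩
    have hcard : Module.finrank F (Fin m ⊕ Unit → F) = Module.finrank F (Unit ⊕ (Fin n ⊕ Fin n) → F) := by
      rw [hdim, Module.finrank_pi, Fintype.card_sum, Fintype.card_fin, Fintype.card_unit, hm]
    let E' := LinearEquiv.ofBijective E ⟨(LinearMap.injective_iff_surjective_of_finrank_eq_finrank hcard).2 hEsurj, hEsurj⟩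
    let b := (Pi.basisFun F (Fin m ⊕ Unit)).map E'
    have hbl : ∀ i, b (Sum.inl i) = ι (Pi.single i 1) := fun i => by
      show E (Pi.basisFun F (Fin m ⊕ Unit) (Sum.inl i)) = _
      rw [hE, Pi.basisFun_apply, Pi.single_eq_of_ne (by simp), zero_smul, add_zero]
      congr 1
      funext j
      simp [Pi.single_apply]
    have hbr : b (Sum.inr ()) = z := by
      show E (Pi.basisFun F (Fin m ⊕ Unit) (Sum.inr ())) = _
      rw [hE, Pi.basisFun_apply, Pi.single_eq_same, one_smul,
        show (Pi.single (Sum.inr ()) (1 : F) : Fin m ⊕ Unit → F) ∘ Sum.inl = 0 from funext fun j => by simp,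
        map_zero, zero_add]
    have hG : (Matrix.of fun i j => polB Q (b i) (b j)) =
        Matrix.fromBlocks (LinearMap.BilinForm.toMatrix' f₁) 0 0 (Matrix.of fun _ _ => 2 * Q z) := by
      ext (i | i) (j | j)
      · rw [of_apply, hbl, hbl, fromBlocks_apply₁₁, LinearMap.BilinForm.toMatrix'_apply, e1]
      · rw [of_apply, hbl, show j = () from rfl, hbr, horth, fromBlocks_apply₁₂, Matrix.zero_apply]
      · rw [of_apply, hbl, show i = () from rfl, hbr, polB_comm, horth, fromBlocks_apply₂₁, Matrix.zero_apply]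
      · rw [of_apply, show i = () from rfl, show j = () from rfl, hbr, polB_self, fromBlocks_apply₂₂, of_apply]
    set D := (LinearMap.BilinForm.toMatrix' f₁).det with hDdef
    have hD0 : D ≠ 0 := det_toMatrix'_ne_zero f₁ h1n
    have hD : IsSquare D := by
      have hsp := hdet.2
      have hmul := congrArg Prod.snd (map_mul (invHom hQ (reflGenerates_of_two_ne_zero h2)) (negOrth Q) (refl Q z))
      simp only [invHom_apply, Prod.snd_mul] at hmul
      rw [hto_eq, hmul, spinor_negOrth hQ h2 b, spinor_refl hQ hQz, hG, Matrix.det_fromBlocks_zero₂₁,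
        Matrix.det_unique (Matrix.of fun _ _ : Unit => 2 * Q z), of_apply, Fintype.card_sum, Fintype.card_fin,
        Fintype.card_unit, ← hDdef] at hsp
      have hpw : (2 : F)⁻¹ ^ (m + 1) = (2 : F)⁻¹ ^ (2 * n + 1) := congrArg (fun i => (2 : F)⁻¹ ^ (i + 1)) hm
      rw [hpw] at hsp
      rw [show ((2 : F)⁻¹) ^ (2 * n + 1) * (D * (2 * Q z)) = (2 : F)⁻¹ ^ n * (2 : F)⁻¹ ^ n * (D * Q z) by
          rw [pow_succ, two_mul n, pow_add]; field_simp, sqc_sq_mul (pow_ne_zero _ (inv_ne_zero h2))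
          (mul_ne_zero hD0 hQz), sqc_mul hD0 hQz, mul_assoc, sqClass_mul_self, mul_one] at hsp
      exact (sqc_eq_one_iff hD0).1 hsp
    have hf2 : f₂ = LinearMap.BilinForm.compRight f₁ (skewPart s') := LinearMap.ext₂ fun u v => by
      rw [e2, ← hw]; exact (e1 u (skewPart s' v)).symm
    have hM : IsSquare (LinearMap.det (skewPart s')) := by
      have h := isSquare_det_alt hodd halt h2n
      rw [hf2, LinearMap.BilinForm.toMatrix'_compRight, Matrix.det_mul, LinearMap.det_toMatrix'] at h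
      have := h.mul hD.inv
      rwa [← hDdef, mul_comm D, mul_inv_cancel_right₀ hD0] at this
    obtain ⟨j, hjf, hjc, hjj⟩ := exists_sqrt_neg_one hp2 halt h2n (by omega) hr hrp hs'r hs2 hwinj hmin hM
    obtain ⟨d, Φ, hd, hinj, hneg⟩ := exists_spHom hodd halt h2n
    obtain rfl : d = n := by omega
    haveI : Nonempty (Fin d) := ⟨⟨0, by omega⟩⟩
    have hords : orderOf s' = r := by
      haveI : Fact r.Prime := ⟨hr⟩
      refine orderOf_eq_prime hs'r fun e' => one_ne_zero (α := F) ?_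
      exact congrFun (hfixs (fun _ => 1) (by rw [e']; rfl)) ⟨0, by omega⟩
    have hJ : Φ ⟨j, hjf⟩ * Φ ⟨j, hjf⟩ = H49.spNegOne (Fin d) F := by
      rw [← map_mul]; exact hneg _ hjj
    have hkey := H49.two_mul_mem_range hn (s := Φ ⟨s', hs2⟩) (t := Φ ⟨j, hjf⟩)
      (by rw [orderOf_injective Φ hinj, Subgroup.orderOf_mk, hords]; exact hrodd)
      ((Commute.map (Subtype.ext hjc.symm.eq : Commute (⟨s', hs2⟩ : bIso f₂) ⟨j, hjf⟩) Φ))
      (fun hcen => spNegOne_ne_one h2 (hJ.symm.trans (H49.sq_eq_one_of_mem_center hcen)))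
      (hJ.symm ▸ H49.spNegOne_mem_center)
    rwa [orderOf_injective Φ hinj, Subgroup.orderOf_mk, hords] at hkey

theorem oord_of_sord_two (hodd : Odd (Fintype.card F)) (hn : 1 ≤ n) (hr : r.Prime) (hr2 : r ≠ 2) (hrp : r ≠ p)
    (h : SOrd F n (2 * r)) : (∃ k, k + 2 ≤ 2 * n ∧ Core F r k) ∨ OOrd F n (2 * r) := by
  classical
  have h2 := two_ne_zero_of_odd_card hodd
  have hr0 : (r : F) ≠ 0 := natCast_ne_zero_of_prime hr hrp
  have hrodd := hr.odd_of_ne_two hr2
  haveI : Fact r.Prime := ⟨hr⟩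
  haveI : Nonempty (Fin n) := ⟨⟨0, hn⟩⟩
  obtain ⟨x, hx⟩ := h
  obtain ⟨g, rfl⟩ := QuotientGroup.mk_surjective x
  have hcen : g ^ (2 * r) ∈ Subgroup.center (Matrix.symplecticGroup (Fin n) F) := by
    rw [← QuotientGroup.eq_one_iff, QuotientGroup.mk_pow, ← hx, pow_orderOf_eq_one]
  obtain ⟨m, hm⟩ := hrodd
  have hsr : (g ^ (2 * (r + 1))) ^ r = 1 := by
    rw [← pow_mul, show 2 * (r + 1) * r = 2 * r * 2 * (m + 1) by rw [hm]; ring, pow_mul, pow_mul, pow_two,
      H49.sq_eq_one_of_mem_center hcen, one_pow]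
  have hs1 : g ^ (2 * (r + 1)) ≠ 1 := fun e => by
    have h' := congrArg (QuotientGroup.mk' (Subgroup.center (Matrix.symplecticGroup (Fin n) F))) e
    rw [map_pow, map_one, ← orderOf_dvd_iff_pow_eq_one] at h'
    have h'' : 2 * r ∣ 2 * (r + 1) := hx ▸ h'
    exact hr.ne_one (Nat.eq_one_of_dvd_one ((Nat.dvd_add_right dvd_rfl).1 (Nat.dvd_of_mul_dvd_mul_left two_pos h'')))
  have ht1 : g ^ r ∉ Subgroup.center (Matrix.symplecticGroup (Fin n) F) := fun e => by
    rw [← QuotientGroup.eq_one_iff, QuotientGroup.mk_pow, ← orderOf_dvd_iff_pow_eq_one] at e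
    have h'' : 2 * r ∣ r := hx ▸ e
    have := Nat.le_of_dvd hr.pos h''
    have := hr.pos
    omega
  set s := g ^ (2 * (r + 1))
  set t := g ^ r with htdef
  have hso : orderOf (spLin n s) = r := by
    rw [orderOf_injective _ (spLin_injective n)]; exact orderOf_eq_prime hsr hs1
  have hsr' : spLin n s ^ r = 1 := by rw [← map_pow, hsr, map_one]
  have hcts : Commute (spLin n t) (spLin n s) := ((Commute.refl g).pow_pow _ _).map (spLin n)
  have hdim : Module.finrank F (Fin n ⊕ Fin n → F) = 2 * n := by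
    rw [Module.finrank_pi, Fintype.card_sum, Fintype.card_fin, two_mul]
  obtain ⟨k, hk, hkd, hcore⟩ := core_of_semisimple (n := n) hodd (by omega) (sf_formKind n) (sf_nondegenerate n)
    (spLin_mem s) hso hr0 (hr.odd_of_ne_two hr2)
  by_cases hsm : k + 2 ≤ 2 * n
  · exact Or.inl ⟨k, hsm, hcore⟩
  obtain ⟨e, he⟩ := core_even hodd hcore
  rw [hdim] at hkd
  have hfix : fixedSp (spLin n s) = ⊥ := Submodule.finrank_eq_zero.1 (by omega)
  obtain ⟨k', ι, f, B, hι, hrange, hkd', hf, hfn, hB, hBn, hg⟩ :=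
    exists_core_data h2 (sf_formKind n) (sf_nondegenerate n) hsr' hr0 (hr.odd_of_ne_two hr2) (spLin_mem s)
  have hfin : Module.finrank F (fixedSp (spLin n s)) = 0 := by rw [hfix, finrank_bot]
  have hk' : k' = 2 * n := by omega
  have hιs : Function.Surjective ι := fun y => by
    have htop : movedSp (spLin n s) = ⊤ := eq_top_of_bot_isCompl (hfix ▸ isCompl_fixed_moved hsr' hr0)
    have : y ∈ LinearMap.range ι := by rw [hrange, htop]; trivial
    exact this
  obtain ⟨s', hsf, hsB, hs'⟩ := hg _ (spLin_mem s) (Commute.refl _)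
  obtain ⟨t', htf, htB, ht'⟩ := hg _ (spLin_mem t) hcts
  have hfixs : ∀ v, s' v = v → v = 0 := fun v hv => hι (by
    have hmem : ι v ∈ fixedSp (spLin n s) := mem_fixedSp.2 (by rw [← hs', hv])
    rw [hfix, Submodule.mem_bot] at hmem
    rw [hmem, map_zero])
  have hs'r : s' ^ r = 1 := LinearEquiv.ext fun v => hι (by rw [restrict_pow hs', hsr']; rfl)
  have hcts' : Commute t' s' := LinearEquiv.ext fun v => hι (by
    show ι (t' (s' v)) = ι (s' (t' v))
    rw [ht', hs', hs', ht', commute_apply hcts])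
  have htt : t * t ∈ Subgroup.center (Matrix.symplecticGroup (Fin n) F) := by
    rw [htdef, ← pow_add, ← two_mul]; exact hcen
  rcases H49.eq_one_or_negOne_of_mem_center htt with htt1 | htt1
  · refine Or.inl (small_of_split hodd (k := k') (by omega) hf hfn hr hr2 hr0 hsf htf hs'r hfixs hcts'
      (LinearEquiv.ext fun v => hι (by
        show ι (t' (t' v)) = ι v
        rw [ht', ht', spLin_apply, spLin_apply, ← mul_smul, htt1, one_smul])) ?_ ?_)
    · by_contra hall
      push_neg at hall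
      refine ht1 (Subgroup.mem_center_iff.2 fun a => ?_)
      have : t = 1 := H48.sp_ext fun v => by
        obtain ⟨w, rfl⟩ := hιs v
        rw [← spLin_apply, ← ht', hall, one_smul]
      rw [this, mul_one, one_mul]
    · by_contra hall
      push_neg at hall
      have : t = H49.spNegOne (Fin n) F := H48.sp_ext fun v => by
        obtain ⟨w, rfl⟩ := hιs v
        rw [← spLin_apply, ← ht', hall, map_neg, H49.spNegOne_smul]
      exact ht1 (this ▸ H49.spNegOne_mem_center)
  · right
    have hneg : ∀ v, t' (t' v) = -v := fun v => hι (by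
      rw [ht', ht', spLin_apply, spLin_apply, ← mul_smul, htt1, H49.spNegOne_smul, map_neg])
    obtain ⟨Φ, -, -, hinj, -⟩ := exists_orthHom hodd (show k' ≤ 2 * n by omega) hB hBn
    have hk0 : 0 < k' := by omega
    set sb : bIso B := ⟨s', hsB⟩
    set tb : bIso B := ⟨t', htB⟩
    have hQ := qOdd_nondeg (F := F) h2 n
    have hd : 2 ≤ Module.finrank F (Unit ⊕ (Fin n ⊕ Fin n) → F) := by rw [finrank_qOdd]; omega
    have hT : orderOf (tb * tb) = 2 := by
      haveI : Fact (Nat.Prime 2) := ⟨Nat.prime_two⟩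
      refine orderOf_eq_prime (Subtype.ext (LinearEquiv.ext fun v => ?_)) fun e' => ?_
      · rw [pow_two]
        show t' (t' (t' (t' v))) = v
        rw [hneg, hneg, neg_neg]
      · have h' : -(fun _ => 1 : Fin k' → F) = fun _ => 1 :=
          (hneg _).symm.trans (LinearEquiv.congr_fun (congrArg Subtype.val e') _)
        have h'' : -(1 : F) = 1 := congrFun h' ⟨0, hk0⟩
        exact h2 (by linear_combination -h'')
    have hS : orderOf sb = r := by
      refine orderOf_eq_prime (Subtype.ext hs'r) fun e' => one_ne_zero (α := F) ?_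
      exact congrFun (hfixs (fun _ => 1) (by rw [show s' = 1 from congrArg Subtype.val e']; rfl)) ⟨0, hk0⟩
    have hkey := oord_mul hodd hn (u := Φ (tb * tb)) (v := Φ sb) (by rw [map_mul]; exact sq_mem_orth_commutator hQ h2 hd _)
      (((show Commute tb sb from Subtype.ext hcts'.eq).mul_left (Subtype.ext hcts'.eq)).map Φ)
      (by rw [orderOf_injective Φ hinj, hS]; exact hr.odd_of_ne_two hr2)
      (by rw [orderOf_injective Φ hinj, orderOf_injective Φ hinj, hT, hS]; exact Nat.coprime_two_left.2 (hr.odd_of_ne_two hr2))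
    rwa [orderOf_injective Φ hinj, orderOf_injective Φ hinj, hT, hS] at hkey

end H44
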