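import Cfsg.Agent.H51.GUPrimeClasses

/-!
Classes of elements of odd prime order `r` prime to the characteristic in a matrix group preserving a form:
they are counted by the multisets of `r`-th roots of unity stable under `x ↦ x ^ q` and `x ↦ x⁻¹`.
-/

set_option autoImplicit false
set_option linter.style.haveILetI false

namespace H44

open Matrix Polynomial

universe u

section Roots

variable {L : Type*} [Field L]

theorem pow_eq_of_cast_eq {r : ℕ} {y : L} (hy : y ^ r = 1) {a b : ℕ} (h : (a : ZMod r) = b) : y ^ a = y ^ b := by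
  rw [pow_eq_pow_mod a hy, pow_eq_pow_mod b hy]
  rw [ZMod.natCast_eq_natCast_iff'] at h
  rw [h]

theorem pow_val_neg_one {r : ℕ} [Fact r.Prime] {y : L} (hy : y ^ r = 1) : y ^ (-1 : ZMod r).val = y⁻¹ := by
  refine eq_inv_of_mul_eq_one_left ?_
  rw [← pow_succ, pow_eq_of_cast_eq hy (b := 0) (by rw [Nat.cast_add, ZMod.natCast_zmod_val]; simp), pow_zero]

/-- Stability under `x ↦ x ^ e` gives stability under the powers of `e`. -/
theorem map_pow_unit {r : ℕ} [Fact r.Prime] (e : (ZMod r)ˣ) {M : Multiset L} (hM : ∀ x ∈ M, x ^ r = 1)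
    (h : M.map (fun x => x ^ (e : ZMod r).val) = M) (k : ℕ) :
    M.map (fun x => x ^ ((e ^ k : (ZMod r)ˣ) : ZMod r).val) = M := by
  induction k with
  | zero => simp [ZMod.val_one]
  | succ k ih =>
    have e1 : M.map (fun x => x ^ ((e ^ (k + 1) : (ZMod r)ˣ) : ZMod r).val) =
        (M.map fun x => x ^ (e : ZMod r).val).map (fun x => x ^ ((e ^ k : (ZMod r)ˣ) : ZMod r).val) := by
      rw [Multiset.map_map]
      refine Multiset.map_congr rfl fun x hx => ?_
      rw [Function.comp_apply, ← pow_mul]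
      refine pow_eq_of_cast_eq (hM x hx) ?_
      rw [Nat.cast_mul, ZMod.natCast_zmod_val, ZMod.natCast_zmod_val, ZMod.natCast_zmod_val, pow_succ', Units.val_mul]
    rw [e1, h, ih]

theorem reverse_prod_X_sub_C (M : Multiset L) (h0 : ∀ x ∈ M, x ≠ 0) :
    (M.map fun x => X - C x).prod.reverse =
      C (M.map fun x => -x).prod * ((M.map fun x => x⁻¹).map fun x => X - C x).prod := by
  induction M using Multiset.induction with
  | empty => simp [reverse]
  | cons a M ih =>
    simp only [Multiset.map_cons, Multiset.prod_cons]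
    rw [reverse_mul_of_domain, ih fun x hx => h0 x (Multiset.mem_cons_of_mem hx), map_mul]
    have h1 : (X - C a).reverse = C (-a) * (X - C a⁻¹) := by
      rw [reverse, natDegree_X_sub_C, sub_eq_add_neg, reflect_add, reflect_neg, reflect_C, reflect_one_X, mul_sub,
        ← map_mul, neg_mul, mul_inv_cancel₀ (h0 a (Multiset.mem_cons_self a M))]
      simp
      ring
    rw [h1]
    ring

/-- The product of a multiset of roots of unity of odd order stable under inversion is `1`. -/
theorem prod_eq_one_of_inv {r : ℕ} (hr : Odd r) {M : Multiset L} (hM : ∀ x ∈ M, x ^ r = 1)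
    (hi : M.map (fun x => x⁻¹) = M) : M.prod = 1 := by
  have h0 : M.prod ≠ 0 := Multiset.prod_ne_zero fun h => by
    have := hM 0 h
    rw [zero_pow (Nat.pos_iff_ne_zero.1 hr.pos)] at this
    exact zero_ne_one this
  have h1 : M.prod ^ r = 1 := by
    have e1 : (M.map fun x => x ^ r) = M.map fun _ => (1 : L) :=
      Multiset.map_congr rfl fun x hx => hM x (by simpa using hx)
    have e2 := Multiset.prod_map_pow (m := M) (f := id) (n := r)
    simp only [id, Multiset.map_id'] at e2
    rw [← e2, e1]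
    simp
  have h2 : M.prod * M.prod = 1 := by
    conv_lhs => arg 1; rw [← hi, Multiset.prod_map_inv]
    simp [h0]
  obtain ⟨k, rfl⟩ := hr
  rwa [pow_succ, pow_mul, pow_two, h2, one_pow, one_mul] at h1

/-- A multiset stable under a fixed-point-free inversion has even size. -/
theorem even_card_of_inv {M : Multiset L} (h1 : ∀ x ∈ M, x⁻¹ ≠ x) (hi : M.map (fun x => x⁻¹) = M) :
    Even (Multiset.card M) := by
  classical
  rw [← ZMod.natCast_eq_zero_iff_even, ← Multiset.toFinset_sum_count_eq, Nat.cast_sum]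
  have hc : ∀ x, M.count x⁻¹ = M.count x := fun x => by
    conv_lhs => rw [← hi]
    exact Multiset.count_map_eq_count' _ M inv_injective x
  refine Finset.sum_involution (fun x _ => x⁻¹) (fun x _ => ?_) (fun x hx _ => ?_) (fun x hx => ?_) fun x _ => inv_inv x
  · rw [hc, ← two_mul, show (2 : ZMod 2) = 0 from by decide, zero_mul]
  · exact h1 x (Multiset.mem_toFinset.1 hx)
  · rw [Multiset.mem_toFinset, ← hi]
    exact Multiset.mem_map_of_mem _ (Multiset.mem_toFinset.1 hx)

theorem root_pow_eq_one {ι : Type*} [Fintype ι] [DecidableEq ι] {B : Matrix ι ι L} {r : ℕ} (hB : B ^ r = 1)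
    {x : L} (hx : B.charpoly.IsRoot x) : x ^ r = 1 := by
  rcases isEmpty_or_nonempty ι with h | h
  · rw [Matrix.charpoly, det_isEmpty] at hx
    exact absurd hx (by simp [IsRoot.def])
  · have := spectrum.pow_mem_pow B r (mem_spectrum_iff_isRoot_charpoly.2 hx)
    rwa [hB, spectrum.one_eq, Set.mem_singleton_iff] at this

theorem roots_charpoly_inv {ι : Type*} [Fintype ι] [DecidableEq ι] {B : Matrix ι ι L} (hB : IsUnit B)
    (hs : B.charpoly.Splits) (h0 : ∀ x ∈ B.charpoly.roots, x ≠ 0) :
    B⁻¹.charpoly.roots = B.charpoly.roots.map fun x => x⁻¹ := by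
  set M := B.charpoly.roots
  have hP : B.charpoly = (M.map fun x => X - C x).prod := hs.eq_prod_roots_of_monic B.charpoly_monic
  have hne : ((-1 : L) ^ Fintype.card ι * Ring.inverse B.det) * (M.map fun x => -x).prod ≠ 0 := by
    refine mul_ne_zero (mul_ne_zero (pow_ne_zero _ (neg_ne_zero.2 one_ne_zero)) ?_) (Multiset.prod_ne_zero fun h => ?_)
    · rw [Ring.inverse_eq_inv']
      exact inv_ne_zero ((isUnit_iff_isUnit_det B).1 hB).ne_zero
    · obtain ⟨x, hx, hx0⟩ := Multiset.mem_map.1 h
      exact h0 x hx (neg_eq_zero.1 hx0)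
  rw [charpoly_inv _ hB, ← reverse_charpoly, hP, reverse_prod_X_sub_C M h0, ← mul_assoc,
    show ((-1 : L[X]) ^ Fintype.card ι * C (Ring.inverse B.det)) * C (M.map fun x => -x).prod =
      C (((-1 : L) ^ Fintype.card ι * Ring.inverse B.det) * (M.map fun x => -x).prod) by simp,
    roots_C_mul _ hne, roots_multiset_prod_X_sub_C]

end Roots

theorem charpoly_inv_of_form {F ι : Type*} [Field F] [Fintype ι] [DecidableEq ι] {A S : Matrix ι ι F}
    (hS : IsUnit S) (h : Aᵀ * S * A = S) : A⁻¹.charpoly = A.charpoly := by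
  have hS' : IsUnit S.det := (isUnit_iff_isUnit_det S).1 hS
  have h2 : A⁻¹ = S⁻¹ * Aᵀ * S :=
    inv_eq_left_inv (by rw [mul_assoc, mul_assoc, ← mul_assoc Aᵀ, h, nonsing_inv_mul _ hS'])
  have := Matrix.charpoly_units_conj' hS.unit Aᵀ
  rw [IsUnit.unit_spec, charpoly_transpose] at this
  rw [h2, this]

theorem reverse_map_inj {F L : Type*} [Field F] [Field L] (φ : F →+* L) (P : F[X]) :
    (P.map φ).reverse = P.reverse.map φ := by
  ext n
  rw [coeff_reverse, coeff_map, coeff_map, coeff_reverse, natDegree_map_eq_of_injective φ.injective]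

section Field

variable {F : Type u} [Field F] {L : Type u} [Field L] [Algebra F L] {r : ℕ}

/-- A power of order `r` of the polynomial condition: roots in the `r`-th roots of unity. -/
theorem pow_eq_one_of_roots' {ι : Type*} [Fintype ι] [DecidableEq ι] [Fintype F] {m : ℕ} {A : Matrix ι ι F}
    (hm : (m : F) ≠ 0) (hAm : A ^ m = 1) (M : Multiset L) (hM : ∀ x ∈ M, x ^ r = 1) (hr : 0 < r)
    (hA : A.charpoly.map (algebraMap F L) = (M.map fun x => X - C x).prod) : A ^ r = 1 := by
  let e := Fintype.equivFin ι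
  refine (Matrix.reindexAlgEquiv F F e).injective ?_
  rw [map_pow, map_one]
  refine H51.pow_eq_one_of_roots hm (by rw [← map_pow, hAm, map_one]) M hM hr ?_
  rw [Matrix.reindexAlgEquiv_apply, Matrix.charpoly_reindex, hA]

theorem charpoly_splits {ζ : L} (hr : 0 < r) (hζ : IsPrimitiveRoot ζ r) {ι : Type*} [Fintype ι] [DecidableEq ι]
    {A : Matrix ι ι F} (hA : A ^ r = 1) : (A.charpoly.map (algebraMap F L)).Splits := by
  haveI : NeZero r := ⟨hr.ne'⟩
  refine Splits.of_splits_map (algebraMap L (AlgebraicClosure L)) (IsAlgClosed.splits _) fun x hx => ?_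
  have hroot := (mem_roots'.1 hx).2
  rw [← charpoly_map, ← charpoly_map] at hroot
  have hB : ((A.map (algebraMap F L)).map (algebraMap L (AlgebraicClosure L))) ^ r = 1 := by
    rw [← RingHom.mapMatrix_apply, ← RingHom.mapMatrix_apply, ← map_pow, ← map_pow, hA, map_one, map_one]
  obtain ⟨j, -, hj⟩ :=
    (hζ.map_of_injective (algebraMap L (AlgebraicClosure L)).injective).eq_pow_of_pow_eq_one (root_pow_eq_one hB hroot)
  exact ⟨ζ ^ j, by rw [map_pow]; exact hj⟩

theorem roots_map_card [Fintype F] {P : F[X]} (hs : (P.map (algebraMap F L)).Splits) :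
    ((P.map (algebraMap F L)).roots.map fun x => x ^ Fintype.card F) = (P.map (algebraMap F L)).roots := by
  let σ : L →ₐ[F] L := FiniteField.frobeniusAlgHom F L
  have h := hs.roots_map σ.toRingHom
  rw [Polynomial.map_map, show σ.toRingHom.comp (algebraMap F L) = algebraMap F L from σ.comp_algebraMap] at h
  exact h.symm

/-- A multiset stable under `x ↦ x ^ q` comes from a polynomial over the base field. -/
theorem exists_lift_of_stable [Fintype F] (M : Multiset L) (h : M.map (fun x => x ^ Fintype.card F) = M) :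
    ∃ P : F[X], P.Monic ∧ P.natDegree = Multiset.card M ∧
      P.map (algebraMap F L) = (M.map fun x => X - C x).prod := by
  classical
  set φ := algebraMap F L
  set P : L[X] := (M.map fun x => X - C x).prod with hP
  let σ : L →+* L := (FiniteField.frobeniusAlgHom F L).toRingHom
  have hσ : ∀ x, σ x = x ^ Fintype.card F := fun x => rfl
  have hPfix : P.map σ = P := by
    rw [hP, Polynomial.map_multiset_prod, Multiset.map_map]
    conv_rhs => rw [← h, Multiset.map_map]
    congr 1
    refine Multiset.map_congr rfl fun y _ => ?_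
    simp [hσ]
  have hrange : ∀ c : L, c ^ Fintype.card F = c → c ∈ φ.range := by
    intro c hc
    have hne : (X ^ Fintype.card F - X : L[X]) ≠ 0 :=
      FiniteField.X_pow_card_sub_X_ne_zero L Fintype.one_lt_card
    have hsub : Finset.univ.image φ = (X ^ Fintype.card F - X : L[X]).roots.toFinset := by
      refine Finset.eq_of_subset_of_card_le ?_ ?_
      · intro y hy
        obtain ⟨a, -, rfl⟩ := Finset.mem_image.1 hy
        rw [Multiset.mem_toFinset, Polynomial.mem_roots hne]
        simp [← map_pow, FiniteField.pow_card]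
      · rw [Finset.card_image_of_injective _ φ.injective, Finset.card_univ]
        refine (Multiset.toFinset_card_le _).trans ((Polynomial.card_roots' _).trans ?_)
        rw [FiniteField.X_pow_card_sub_X_natDegree_eq _ Fintype.one_lt_card]
    have : c ∈ Finset.univ.image φ := by
      rw [hsub, Multiset.mem_toFinset, Polynomial.mem_roots hne]; simp [hc]
    obtain ⟨a, -, ha⟩ := Finset.mem_image.1 this
    exact ⟨a, ha⟩
  have hlift : P ∈ Polynomial.lifts φ := by
    rw [Polynomial.lifts_iff_coeff_lifts]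
    intro i
    obtain ⟨a, ha⟩ := hrange (P.coeff i) (by
      conv_rhs => rw [← hPfix, Polynomial.coeff_map, hσ])
    exact ⟨a, ha⟩
  obtain ⟨P0, hP0, -, hP0m⟩ :=
    Polynomial.lifts_and_degree_eq_and_monic hlift (monic_multiset_prod_of_monic _ _ fun x _ => monic_X_sub_C x)
  refine ⟨P0, hP0m, ?_, hP0⟩
  rw [← natDegree_map_eq_of_injective φ.injective, hP0, hP, natDegree_multiset_prod_X_sub_C_eq_card]

/-- The polynomial of an inversion-stable multiset of odd roots of unity of even size is palindromic. -/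
theorem reverse_eq_of_stable (hr : Odd r) {M : Multiset L} (heven : Even (Multiset.card M))
    (hM : ∀ x ∈ M, x ^ r = 1) (hi : M.map (fun x => x⁻¹) = M) {P : F[X]}
    (hP : P.map (algebraMap F L) = (M.map fun x => X - C x).prod) : P.reverse = P := by
  apply Polynomial.map_injective _ (algebraMap F L).injective
  rw [← reverse_map_inj, hP, reverse_prod_X_sub_C M fun x hx h0 => by
    have := hM x hx
    rw [h0, zero_pow (Nat.pos_iff_ne_zero.1 hr.pos)] at this
    exact zero_ne_one this]
  rw [hi, Multiset.prod_map_neg, prod_eq_one_of_inv hr hM hi, mul_one, heven.neg_one_pow, map_one, one_mul]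

end Field

/-- Classes of elements of order `r` in a group of matrices preserving a form, with `j` forced eigenvalues `1`. -/
theorem card_classes_form_aux {F : Type u} [Field F] [Fintype F] {ι : Type} [Fintype ι] [DecidableEq ι]
    {G : Type*} [Group G] (ρ : G →* Matrix ι ι F) (S : Matrix ι ι F) (hS : IsUnit S)
    (hρ : ∀ g, (ρ g)ᵀ * S * ρ g = S) {r : ℕ} [Fact r.Prime] (hrF : (r : F) ≠ 0) (e : (ZMod r)ˣ)
    (hqe : ∃ k : ℕ, ((e ^ k : (ZMod r)ˣ) : ZMod r) = (Fintype.card F : ZMod r))
    (hne : ∃ k : ℕ, ((e ^ k : (ZMod r)ˣ) : ZMod r) = -1)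
    (he : (e : ZMod r) = (Fintype.card F : ZMod r) ∨ (e : ZMod r) = -(Fintype.card F : ZMod r))
    (hinj : ∀ g h : G, g ^ r = 1 → h ^ r = 1 → (ρ g).charpoly = (ρ h).charpoly → IsConj g h)
    (j : ℕ) (hj : j ≤ 1) (hjι : j ≤ Fintype.card ι)
    (hones : j = 1 → ∀ g : G, g ^ r = 1 → (ρ g).charpoly.IsRoot 1)
    (hreal : ∀ (L : Type u) [Field L] [Algebra F L], ∀ M : Multiset L, Multiset.card M = Fintype.card ι →
      Multiset.replicate j 1 ≤ M →
      (∀ x ∈ M, x ^ r = 1) → M.map (fun x => x ^ Fintype.card F) = M → M.map (fun x => x⁻¹) = M →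
      ∃ g : G, g ^ r = 1 ∧ (ρ g).charpoly.map (algebraMap F L) = (M.map fun x => X - C x).prod) :
    Nat.card {C : ConjClasses G // ∃ g : G, ConjClasses.mk g = C ∧ orderOf g = r} =
      Nat.choose ((Fintype.card ι - j) / orderOf e + Nat.card ((ZMod r)ˣ ⧸ Subgroup.zpowers e))
        (Nat.card ((ZMod r)ˣ ⧸ Subgroup.zpowers e)) - 1 := by
  classical
  have hr : r.Prime := Fact.out
  haveI : NeZero r := ⟨hr.ne_zero⟩
  set PX : F[X] := X ^ r - C 1 with hPX
  let L := PX.SplittingField
  set φ : F →+* L := algebraMap F L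
  have hsepX : PX.Separable := Polynomial.separable_X_pow_sub_C (1 : F) hrF one_ne_zero
  have hroots : Fintype.card (PX.rootSet L) = r := by
    rw [Polynomial.card_rootSet_eq_natDegree hsepX (Polynomial.SplittingField.splits PX), hPX,
      Polynomial.natDegree_X_pow_sub_C]
  obtain ⟨ζ, hζ⟩ : ∃ ζ : L, IsPrimitiveRoot ζ r := by
    obtain ⟨⟨z, hz⟩, hz1⟩ : ∃ z : PX.rootSet L, (z : L) ≠ 1 := by
      by_contra h
      push_neg at h
      have : Fintype.card (PX.rootSet L) ≤ 1 :=
        Fintype.card_le_one_iff.2 fun a b => Subtype.ext ((h a).trans (h b).symm)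
      have := hr.two_le
      omega
    have hzr : z ^ r = 1 := by
      have := (Polynomial.mem_rootSet.1 hz).2
      simpa [hPX, sub_eq_zero] using this
    exact ⟨z, IsPrimitiveRoot.orderOf z |> fun h => by rwa [orderOf_eq_prime hzr hz1] at h⟩
  set τ : L → L := fun y => y ^ (e : ZMod r).val with hτ
  let M : G → Multiset L := fun g => ((ρ g).charpoly.map φ).roots
  have hspec : ∀ g : G, g ^ r = 1 → Multiset.card (M g) = Fintype.card ι ∧ (∀ x ∈ M g, x ^ r = 1) ∧
      (M g).map τ = M g ∧ (ρ g).charpoly.map φ = ((M g).map fun x => X - C x).prod := by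
    intro g hg
    have hA : ρ g ^ r = 1 := by rw [← map_pow, hg, map_one]
    have hs : ((ρ g).charpoly.map φ).Splits := charpoly_splits hr.pos hζ hA
    have hAr : ((ρ g).map φ) ^ r = 1 := by rw [← RingHom.mapMatrix_apply, ← map_pow, hA, map_one]
    have h1 : ∀ x ∈ M g, x ^ r = 1 := fun x hx => by
      refine root_pow_eq_one hAr ?_
      rw [charpoly_map]
      exact (mem_roots'.1 hx).2
    have h0 : ∀ x ∈ M g, x ≠ 0 := fun x hx h0 => by
      have := h1 x hx
      rw [h0, zero_pow hr.ne_zero] at this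
      exact zero_ne_one this
    have hq : (M g).map (fun x => x ^ Fintype.card F) = M g := roots_map_card hs
    have hAu : IsUnit ((ρ g).map φ) := IsUnit.of_pow_eq_one hAr hr.ne_zero
    have hinv : (M g).map (fun x => x⁻¹) = M g := by
      have e1 := roots_charpoly_inv hAu (by rwa [charpoly_map]) (by rwa [charpoly_map])
      have e2 : ((ρ g).map φ)⁻¹.charpoly = ((ρ g).map φ).charpoly :=
        charpoly_inv_of_form (hS.map φ.mapMatrix) (by
          rw [RingHom.mapMatrix_apply, ← transpose_map, ← Matrix.map_mul, ← Matrix.map_mul, hρ])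
      rw [e2, charpoly_map] at e1
      exact e1.symm
    refine ⟨?_, h1, ?_, hs.eq_prod_roots_of_monic ((charpoly_monic _).map φ)⟩
    · show Multiset.card ((ρ g).charpoly.map φ).roots = _
      rw [← hs.natDegree_eq_card_roots, natDegree_map_eq_of_injective φ.injective, charpoly_natDegree_eq_dim]
    · rcases he with he | he
      · refine Eq.trans (Multiset.map_congr rfl fun x hx => ?_) hq
        exact pow_eq_of_cast_eq (h1 x hx) (by rw [ZMod.natCast_zmod_val, he])
      · have e1 : (M g).map τ = ((M g).map fun x => x ^ Fintype.card F).map fun x => x⁻¹ := by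
          rw [Multiset.map_map]
          refine Multiset.map_congr rfl fun x hx => ?_
          rw [Function.comp_apply, hτ]
          refine eq_inv_of_mul_eq_one_left ?_
          rw [← pow_add, pow_eq_of_cast_eq (h1 x hx) (b := 0) (by
            rw [Nat.cast_add, ZMod.natCast_zmod_val, he]; simp), pow_zero]
        rw [e1, hq, hinv]
  let T := {m : Multiset L // Multiset.card m = Fintype.card ι - j ∧ (∀ x ∈ m, x ^ r = 1) ∧ m.map τ = m}
  have hτ1 : τ 1 = 1 := one_pow _
  have hex : ∀ t : T, ∃ g : G, g ^ r = 1 ∧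
      (ρ g).charpoly.map φ = ((Multiset.replicate j 1 + t.1).map fun x => X - C x).prod := by
    rintro ⟨m, hm1, hm2, hm3⟩
    have hm2' : ∀ x ∈ Multiset.replicate j 1 + m, x ^ r = 1 := fun x hx => by
      rcases Multiset.mem_add.1 hx with hx | hx
      · rw [Multiset.eq_of_mem_replicate hx, one_pow]
      · exact hm2 x hx
    have hm3' : (Multiset.replicate j 1 + m).map τ = Multiset.replicate j 1 + m := by
      rw [Multiset.map_add, Multiset.map_replicate, hτ1, hm3]
    refine hreal L _ (by rw [Multiset.card_add, Multiset.card_replicate, hm1]; omega) (Multiset.le_add_right _ _)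
      hm2' ?_ ?_
    · obtain ⟨k, hk⟩ := hqe
      refine Eq.trans (Multiset.map_congr rfl fun x hx => ?_) (map_pow_unit e hm2' hm3' k)
      exact pow_eq_of_cast_eq (hm2' x hx) (by rw [ZMod.natCast_zmod_val, hk])
    · obtain ⟨k, hk⟩ := hne
      refine Eq.trans (Multiset.map_congr rfl fun x hx => ?_) (map_pow_unit e hm2' hm3' k)
      rw [hk, pow_val_neg_one (hm2' x hx)]
  choose R hR1 hR2 using hex
  have hRM : ∀ t : T, M (R t) = Multiset.replicate j 1 + t.1 := fun t => by
    show ((ρ (R t)).charpoly.map φ).roots = _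
    rw [hR2, roots_multiset_prod_X_sub_C]
  have hMconj : ∀ g h : G, IsConj g h → M g = M h := by
    intro g h hgh
    obtain ⟨c, hc⟩ := isConj_iff.1 hgh
    have e1 : (ρ h).charpoly = (ρ g).charpoly := by
      have e2 := Matrix.charpoly_units_conj (ρ.toHomUnits c) (ρ g)
      rw [← hc, map_mul, map_mul]
      rw [show ((ρ.toHomUnits c : (Matrix ι ι F)ˣ) : Matrix ι ι F)⁻¹ = ρ c⁻¹ from
        Matrix.inv_eq_left_inv (by rw [MonoidHom.coe_toHomUnits, ← map_mul, inv_mul_cancel, map_one])] at e2
      exact e2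
    show ((ρ g).charpoly.map φ).roots = ((ρ h).charpoly.map φ).roots
    rw [e1]
  have hMinj : ∀ g h : G, g ^ r = 1 → h ^ r = 1 → M g = M h → IsConj g h := fun g h hg hh hM =>
    hinj g h hg hh (Polynomial.map_injective φ φ.injective
      (by rw [(hspec g hg).2.2.2, (hspec h hh).2.2.2, hM]))
  have hdec : ∀ g : G, g ^ r = 1 → ∃ t : T, M g = Multiset.replicate j 1 + t.1 := by
    intro g hg
    obtain ⟨s1, s2, s3, -⟩ := hspec g hg
    have hle : Multiset.replicate j 1 ≤ M g := by
      rcases (by omega : j = 0 ∨ j = 1) with rfl | rfl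
      · simp
      · rw [Multiset.replicate_one, Multiset.singleton_le, mem_roots']
        refine ⟨((charpoly_monic _).map φ).ne_zero, ?_⟩
        have := (hones rfl g hg).map (f := φ)
        rwa [map_one] at this
    obtain ⟨m, hm⟩ := Multiset.le_iff_exists_add.1 hle
    refine ⟨⟨m, ?_, fun x hx => s2 x (hm ▸ Multiset.mem_add.2 (Or.inr hx)), ?_⟩, hm⟩
    · rw [hm, Multiset.card_add, Multiset.card_replicate] at s1
      omega
    · rw [hm, Multiset.map_add, Multiset.map_replicate, hτ1] at s3
      exact add_left_cancel s3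
  obtain ⟨t1, ht1⟩ := hdec 1 (one_pow r)
  let f : {t : T // t ≠ t1} → {C : ConjClasses G // ∃ g : G, ConjClasses.mk g = C ∧ orderOf g = r} :=
    fun t => ⟨ConjClasses.mk (R t.1), R t.1, rfl, orderOf_eq_prime (hR1 t.1) fun h => t.2 (Subtype.ext (by
      refine add_left_cancel (a := Multiset.replicate j (1 : L)) ?_
      rw [← hRM t.1, h, ht1]))⟩
  have hf : Function.Bijective f := by
    constructor
    · intro s t h
      have h' : IsConj (R s.1) (R t.1) := ConjClasses.mk_eq_mk_iff_isConj.1 (congrArg Subtype.val h)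
      exact Subtype.ext (Subtype.ext (add_left_cancel (a := Multiset.replicate j (1 : L))
        (by rw [← hRM s.1, ← hRM t.1, hMconj _ _ h'])))
    · rintro ⟨C, g, rfl, hg⟩
      have hgr : g ^ r = 1 := by rw [← hg, pow_orderOf_eq_one]
      obtain ⟨t, ht⟩ := hdec g hgr
      have hne' : t ≠ t1 := fun h => by
        have h3 : g = 1 := isConj_one_left.1 (hMinj g 1 hgr (one_pow r) (by rw [ht, h, ht1]))
        rw [h3, orderOf_one] at hg
        exact hr.one_lt.ne hg
      exact ⟨⟨t, hne'⟩, Subtype.ext (ConjClasses.mk_eq_mk_iff_isConj.2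
        (hMinj _ g (hR1 _) hgr (by rw [hRM, ht])))⟩
  have hT : Nat.card T = Nat.choose ((Fintype.card ι - j) / orderOf e + Nat.card ((ZMod r)ˣ ⧸ Subgroup.zpowers e))
      (Nat.card ((ZMod r)ˣ ⧸ Subgroup.zpowers e)) := H51.card_stable_multisets hζ e
  haveI : Finite T := Nat.finite_of_card_ne_zero
    (by rw [hT]; exact (Nat.choose_pos (Nat.le_add_left _ _)).ne')
  haveI : Fintype T := Fintype.ofFinite T
  rw [← Nat.card_eq_of_bijective f hf, Nat.card_eq_fintype_card, Fintype.card_subtype_compl,
    Fintype.card_subtype_eq, ← Nat.card_eq_fintype_card, hT]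

/-- Classes of elements of order `r` in a group of matrices preserving a form. -/
theorem card_classes_form {F : Type u} [Field F] [Fintype F] {ι : Type} [Fintype ι] [DecidableEq ι]
    {G : Type*} [Group G] (ρ : G →* Matrix ι ι F) (S : Matrix ι ι F) (hS : IsUnit S)
    (hρ : ∀ g, (ρ g)ᵀ * S * ρ g = S) {r : ℕ} [Fact r.Prime] (hrF : (r : F) ≠ 0) (e : (ZMod r)ˣ)
    (hqe : ∃ k : ℕ, ((e ^ k : (ZMod r)ˣ) : ZMod r) = (Fintype.card F : ZMod r))
    (hne : ∃ k : ℕ, ((e ^ k : (ZMod r)ˣ) : ZMod r) = -1)
    (he : (e : ZMod r) = (Fintype.card F : ZMod r) ∨ (e : ZMod r) = -(Fintype.card F : ZMod r))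
    (hinj : ∀ g h : G, g ^ r = 1 → h ^ r = 1 → (ρ g).charpoly = (ρ h).charpoly → IsConj g h)
    (hreal : ∀ (L : Type u) [Field L] [Algebra F L], ∀ M : Multiset L, Multiset.card M = Fintype.card ι →
      (∀ x ∈ M, x ^ r = 1) → M.map (fun x => x ^ Fintype.card F) = M → M.map (fun x => x⁻¹) = M →
      ∃ g : G, g ^ r = 1 ∧ (ρ g).charpoly.map (algebraMap F L) = (M.map fun x => X - C x).prod) :
    Nat.card {C : ConjClasses G // ∃ g : G, ConjClasses.mk g = C ∧ orderOf g = r} =
      Nat.choose (Fintype.card ι / orderOf e + Nat.card ((ZMod r)ˣ ⧸ Subgroup.zpowers e))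
        (Nat.card ((ZMod r)ˣ ⧸ Subgroup.zpowers e)) - 1 := by
  have h := card_classes_form_aux ρ S hS hρ hrF e hqe hne he hinj 0 (Nat.zero_le 1) (Nat.zero_le _)
    (fun h => absurd h zero_ne_one) (fun L _ _ M h1 _ h2 h3 h4 => hreal L M h1 h2 h3 h4)
  rwa [Nat.sub_zero] at h

/-- The exponent generating the group of `q` and `-1`. -/
theorem exists_class_exponent {r i t q : ℕ} [Fact r.Prime] (hr2 : r ≠ 2) (hq0 : (q : ZMod r) ≠ 0)
    (hi : i = orderOf (q : ZMod r)) (ht : t * i = r - 1) :
    ∃ e : (ZMod r)ˣ, (∃ k : ℕ, ((e ^ k : (ZMod r)ˣ) : ZMod r) = q) ∧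
      (∃ k : ℕ, ((e ^ k : (ZMod r)ˣ) : ZMod r) = -1) ∧
      ((e : ZMod r) = q ∨ (e : ZMod r) = -(q : ZMod r)) ∧
      orderOf e = (if Odd i then 2 * i else i) ∧
      Nat.card ((ZMod r)ˣ ⧸ Subgroup.zpowers e) = (if Odd i then t / 2 else t) := by
  classical
  have hr : r.Prime := Fact.out
  haveI : NeZero r := ⟨hr.ne_zero⟩
  have hi0 : 0 < i := by
    rw [hi, ← Units.val_mk0 hq0, orderOf_units]; exact (isOfFinOrder_of_finite _).orderOf_pos
  have hidx : ∀ e : (ZMod r)ˣ, Nat.card ((ZMod r)ˣ ⧸ Subgroup.zpowers e) * orderOf e = r - 1 := fun e => by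
    rw [← Subgroup.index_eq_card, ← Nat.card_zpowers, Subgroup.index_mul_card, Nat.card_eq_fintype_card,
      ZMod.card_units r]
  rcases Nat.even_or_odd i with hev | hodd
  · obtain ⟨h, hh⟩ := hev
    let u : (ZMod r)ˣ := Units.mk0 _ hq0
    have hu : orderOf u = i := by rw [← orderOf_units, Units.val_mk0, hi]
    have hno : ¬Odd i := Nat.not_odd_iff_even.2 ⟨h, hh⟩
    refine ⟨u, ⟨1, by rw [pow_one, Units.val_mk0]⟩, ⟨h, ?_⟩, Or.inl rfl, by rw [if_neg hno, hu], ?_⟩
    · rw [Units.val_pow_eq_pow_val, Units.val_mk0]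
      have h2 : ((q : ZMod r) ^ h) ^ 2 = 1 := by
        rw [← pow_mul, show h * 2 = i by omega, hi, pow_orderOf_eq_one]
      rcases sq_eq_one_iff.1 h2 with h1 | h1
      · exfalso
        have := Nat.le_of_dvd (by omega) (hi ▸ orderOf_dvd_of_pow_eq_one h1)
        omega
      · exact h1
    · rw [if_neg hno]
      have := hidx u
      rw [hu, ← ht] at this
      exact Nat.eq_of_mul_eq_mul_right hi0 this
  · let u : (ZMod r)ˣ := Units.mk0 _ (neg_ne_zero.2 hq0)
    have hqi : (q : ZMod r) ^ i = 1 := by rw [hi, pow_orderOf_eq_one]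
    have hm1 : orderOf (-1 : ZMod r) = 2 := by
      rw [orderOf_neg_one, ZMod.ringChar_zmod_n, if_neg hr2]
    have hu : orderOf u = 2 * i := by
      rw [← orderOf_units, Units.val_mk0, neg_eq_neg_one_mul,
        Commute.orderOf_mul_eq_mul_orderOf_of_coprime (Commute.all _ _) (by
          rw [hm1, ← hi]
          exact (Nat.Prime.coprime_iff_not_dvd Nat.prime_two).2 (Nat.odd_iff.1 hodd |> fun h => by omega)),
        hm1, ← hi]
    refine ⟨u, ⟨i + 1, ?_⟩, ⟨i, ?_⟩, Or.inr rfl, by rw [if_pos hodd, hu], ?_⟩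
    · rw [Units.val_pow_eq_pow_val, Units.val_mk0, (Odd.add_one hodd).neg_pow, pow_succ, hqi, one_mul]
    · rw [Units.val_pow_eq_pow_val, Units.val_mk0, hodd.neg_pow, hqi]
    · rw [if_pos hodd]
      have := hidx u
      rw [hu, ← ht] at this
      have h2 : Nat.card ((ZMod r)ˣ ⧸ Subgroup.zpowers u) * 2 = t := by
        refine Nat.eq_of_mul_eq_mul_right hi0 ?_
        rw [← this]; ring
      omega

end H44
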