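import Cfsg.Agent.H44.SimSplit
import Cfsg.Agent.H44.SimSemi
import Cfsg.Agent.H44.SimStatements

/-!
Splitting of the classes of involutory graph automorphisms of the two even-dimensional families.
-/

set_option autoImplicit false

namespace H44

open H43 Matrix

universe u

variable {F : Type u} [Field F] [Fintype F]

theorem plus_invol_split (hodd : Odd (Fintype.card F)) {m : ℕ} (hm : 4 ≤ m)
    (f : (Fin m ⊕ Fin m → F) → F) (hf : ⇑(qPlus m F) = f) (γ : MulAut (Cfsg.POmega F f))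
    (hγ : ∃ g : GL (Fin m ⊕ Fin m) F, g ∈ Cfsg.Geo.quadSimilarityGroup (F := F) f ∧
      ¬ Cfsg.PreservesSingularClasses f (g : Matrix (Fin m ⊕ Fin m) (Fin m ⊕ Fin m) F) ∧
      Cfsg.IsInducedBySemilinearPOmega f g (RingEquiv.refl F) γ)
    (hγ2 : orderOf γ = 2) (H : Subgroup (MulAut (Cfsg.POmega F f)))
    (hH : H = Cfsg.autSubgroupOf (fun β => ∃ g : GL (Fin m ⊕ Fin m) F,
      g ∈ Cfsg.Geo.quadSimilarityGroup (F := F) f ∧
      Cfsg.PreservesSingularClasses f (g : Matrix (Fin m ⊕ Fin m) (Fin m ⊕ Fin m) F) ∧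
      Cfsg.IsInducedBySemilinearPOmega f g (RingEquiv.refl F) β)) :
    (Cfsg.splitClassCount H (Cfsg.Inn (Cfsg.POmega F f)) γ = 1 ∨
      Cfsg.splitClassCount H (Cfsg.Inn (Cfsg.POmega F f)) γ = 2) ∧
    (¬ (Odd m ∧ Fintype.card F % 4 = 3) → Cfsg.splitClassCount H (Cfsg.Inn (Cfsg.POmega F f)) γ = 2) := by
  subst hf
  obtain ⟨h, ⟨d, ν, k, hd⟩, hc⟩ := plus_data hodd hm
  obtain ⟨g, hg, hnp, hind⟩ := hγ
  have e : γ = simAut (qPlus m F) ⟨g, hg⟩ := (isInduced_iff ⟨g, hg⟩).1 hind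
  have hη : etaHom h ⟨g, hg⟩ = -1 := (etaHom_cases h _).resolve_left fun e1 => hnp ((preserves_iff h ⟨g, hg⟩).2 e1)
  subst e
  obtain ⟨r1, r2⟩ := split_invol h hd hη (by have := pow_orderOf_eq_one (simAut (qPlus m F) ⟨g, hg⟩); rwa [hγ2, pow_two] at this) (hH.trans (inndiag_plus_eq h))
  exact ⟨r1, fun e => r2 (Or.inl (hc.2 e))⟩

theorem minus_invol_split (hodd : Odd (Fintype.card F)) {m : ℕ} (hm : 3 ≤ m) {a b : F}
    (hab : ∀ z₁ z₂ : F, z₁ ^ 2 + a * z₁ * z₂ + b * z₂ ^ 2 = 0 → z₁ = 0 ∧ z₂ = 0)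
    (f : ((Fin m ⊕ Fin m) ⊕ Fin 2 → F) → F) (hf : ⇑(qMinus m F a b) = f) (γ : MulAut (Cfsg.POmega F f))
    (H : Subgroup (MulAut (Cfsg.POmega F f)))
    (hH : H = Cfsg.autSubgroupOf (fun β => ∃ g : GL ((Fin m ⊕ Fin m) ⊕ Fin 2) F,
      g ∈ Cfsg.Geo.quadSimilarityGroup (F := F) f ∧
      Cfsg.PreservesSingularClassesMinus m a b
        (g : Matrix ((Fin m ⊕ Fin m) ⊕ Fin 2) ((Fin m ⊕ Fin m) ⊕ Fin 2) F) ∧
      Cfsg.IsInducedBySemilinearPOmega f g (RingEquiv.refl F) β))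
    (hγ : γ ∈ Cfsg.gammaPOmega F f ∧ γ ∉ H) (hγ2 : orderOf γ = 2) :
    (Cfsg.splitClassCount H (Cfsg.Inn (Cfsg.POmega F f)) γ = 1 ∨
      Cfsg.splitClassCount H (Cfsg.Inn (Cfsg.POmega F f)) γ = 2) ∧
    (¬ (Even m ∧ Fintype.card F % 4 = 1) → Cfsg.splitClassCount H (Cfsg.Inn (Cfsg.POmega F f)) γ = 2) := by
  subst hf
  classical
  obtain ⟨h, ⟨d, ν, k, hd⟩, hc⟩ := minus_data hodd hm hab
  have hH' : H = (etaHom h).ker.map (simAut (qMinus m F a b)) := hH.trans (inndiag_minus_eq h hab)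
  have hinv : γ * γ = 1 := by have := pow_orderOf_eq_one γ; rwa [hγ2, pow_two] at this
  let i₀ : Fin m := ⟨0, by omega⟩
  let i₁ : Fin m := ⟨1, by omega⟩
  have hne : i₀ ≠ i₁ := by simp [i₀, i₁]
  have hfixv : ∀ (s : (Fin m ⊕ Fin m) ⊕ Fin 2) (τ : F ≃+* F),
      (fun i => τ ((Pi.single s 1 : _ → F) i)) = Pi.single s 1 := fun s τ => funext fun i => by
    by_cases hi : i = s <;> simp [hi]
  have hQ : ∀ s : Fin m ⊕ Fin m, (qMinus m F a b) (Pi.single (Sum.inl s) 1) = 0 := fun s => by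
    rcases s with i | i <;> simp [coe_qMinus, Cfsg.quadFormMinus, Pi.single_apply]
  obtain ⟨g, hg⟩ := exists_invol_sim h (fun hsq e => by
      have := (hc.1 e).2
      have := FiniteField.isSquare_neg_one_iff.1 hsq
      omega)
    (u := Pi.single (Sum.inl (Sum.inl i₀)) 1) (w := Pi.single (Sum.inl (Sum.inl i₁)) 1)
    (e := Pi.single (Sum.inl (Sum.inr i₀)) 1) (hQ _) (hQ _)
    (by simp [polB_qMinus, Pi.single_apply]) (by simp [polB_qMinus, Pi.single_apply])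
    (by simp [polB_qMinus, Pi.single_apply, hne, Ne.symm hne]) (by simp) (fun τ => hfixv _ τ) (fun τ => hfixv _ τ)
    hγ.1 hinv
  subst hg
  have hη : etaHom h g = -1 :=
    (etaHom_cases h g).resolve_left fun e => hγ.2 (hH'.symm ▸ ⟨g, MonoidHom.mem_ker.2 e, rfl⟩)
  obtain ⟨r1, r2⟩ := split_invol h hd hη hinv hH'
  refine ⟨r1, fun e => r2 ?_⟩
  rcases Nat.even_or_odd m with hm' | hm'
  · refine Or.inl (hc.2 ⟨hm', ?_⟩)
    have : Fintype.card F % 4 ≠ 1 := fun e' => e ⟨hm', e'⟩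
    rw [Nat.odd_iff] at hodd
    omega
  · exact Or.inr hm'.add_one

end H44
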