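import Cfsg.Agent.H44.PairedForms
import Cfsg.Agent.H43.Omega
import Cfsg.Agent.H55.SimClassify

/-!
The centralizer of an indecomposable element of odd order in an isometry group: a square root of `-1` when
`det (s - s⁻¹)` is a square, and a rotation of non-square spinor norm in any case.
-/

set_option autoImplicit false

namespace H44

open Matrix

variable {F : Type*} [Field F] [Fintype F]

/-- The self-adjoint part `F[s + s⁻¹]`. -/
noncomputable def plusAlg {k : ℕ} (s : (Fin k → F) ≃ₗ[F] (Fin k → F)) :
    Subalgebra F (Module.End F (Fin k → F)) :=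
  Algebra.adjoin F {(s : (Fin k → F) →ₗ[F] (Fin k → F)) + (s.symm : (Fin k → F) →ₗ[F] (Fin k → F))}

variable {k : ℕ} {f : LinearMap.BilinForm F (Fin k → F)} {s : (Fin k → F) ≃ₗ[F] (Fin k → F)}

omit [Fintype F] in
theorem plusAlg_commute {c : Module.End F (Fin k → F)} (hc : c ∈ plusAlg s) (x : Fin k → F) :
    c (s x) = s (c x) := by
  induction hc using Algebra.adjoin_induction generalizing x with
  | mem y hy => rw [Set.mem_singleton_iff] at hy; subst hy; simp
  | algebraMap r => simp
  | add a b _ _ ha hb => simp [ha, hb]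
  | mul a b _ _ ha hb => simp [ha, hb]

omit [Fintype F] in
theorem plusAlg_comm {c d : Module.End F (Fin k → F)} (hc : c ∈ plusAlg s) (hd : d ∈ plusAlg s) : c * d = d * c :=
  (Algebra.commute_of_mem_adjoin_of_forall_mem_commute hd fun b hb => by
    rw [Set.mem_singleton_iff] at hb; subst hb
    exact (Algebra.commute_of_mem_adjoin_of_forall_mem_commute hc fun b' hb' => by
      rw [Set.mem_singleton_iff] at hb'; subst hb'; exact Commute.refl _).symm).eq

omit [Fintype F] in
theorem plusAlg_selfAdjoint (hs : s ∈ bIso f) {c : Module.End F (Fin k → F)} (hc : c ∈ plusAlg s) (x y : Fin k → F) :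
    f (c x) y = f x (c y) := by
  induction hc using Algebra.adjoin_induction generalizing x y with
  | mem z hz =>
    rw [Set.mem_singleton_iff] at hz; subst hz
    simp only [LinearMap.add_apply, map_add, LinearEquiv.coe_coe]
    have e : f (s.symm x) y = f x (s y) := bIso_symm_right ((bIso f).inv_mem hs) x y
    rw [bIso_symm_right hs, e, add_comm]
  | algebraMap r => simp
  | add a b _ _ ha hb => simp [ha, hb]
  | mul a b ha' hb' ha hb =>
    rw [Module.End.mul_apply, ha, hb, Module.End.mul_apply]
    congr 1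
    exact LinearMap.congr_fun (plusAlg_comm hb' ha') y

/-- Every element of `F[s + s⁻¹]` is fixed by a power of Frobenius. -/
theorem plusAlg_pow {p : ℕ} [Fact p.Prime] [CharP F p] (hk : 0 < k) {r : ℕ} (hr : r.Prime) (hrp : r ≠ p)
    (hs : s ^ r = 1) {c : Module.End F (Fin k → F)} (hc : c ∈ plusAlg s) :
    c ^ Fintype.card F ^ (r - 1) = c := by
  classical
  haveI : Nontrivial (Fin k → F) := by
    haveI : Nonempty (Fin k) := ⟨⟨0, hk⟩⟩
    exact Function.nontrivial
  haveI : CharP (Module.End F (Fin k → F)) p :=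
    charP_of_injective_algebraMap (algebraMap F (Module.End F (Fin k → F))).injective p
  obtain ⟨e, hp, hcard⟩ := FiniteField.card F p
  set E := (e : ℕ) * (r - 1) with hE
  have hN : Fintype.card F ^ (r - 1) = p ^ E := by rw [hcard, ← pow_mul]
  have hfix : ∀ a : F, a ^ p ^ E = a := fun a => by rw [← hN]; exact FiniteField.pow_card_pow _ a
  have hmod : p ^ E % r = 1 := by
    rw [← hN]
    have hcop : Nat.Coprime (Fintype.card F) r := by
      rw [hcard]
      exact Nat.Coprime.pow_left _ ((Nat.coprime_primes hp hr).2 (Ne.symm hrp))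
    have := Nat.ModEq.pow_totient hcop
    rw [Nat.totient_prime hr] at this
    rw [this, Nat.one_mod_eq_one.2 hr.ne_one]
  have hpows : ∀ t : (Fin k → F) ≃ₗ[F] (Fin k → F), t ^ r = 1 →
      ((t : (Fin k → F) →ₗ[F] (Fin k → F)) : Module.End F (Fin k → F)) ^ p ^ E = (t : (Fin k → F) →ₗ[F] (Fin k → F)) := by
    intro t ht
    have h1 : t ^ p ^ E = t := by
      conv_lhs => rw [← Nat.div_add_mod (p ^ E) r, hmod, pow_add, pow_mul, ht, one_pow, one_mul, pow_one]
    conv_rhs => rw [← h1]
    exact (map_pow LinearEquiv.automorphismGroup.toLinearMapMonoidHom t _).symm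
  induction hc using Algebra.adjoin_induction with
  | mem z hz =>
    rw [Set.mem_singleton_iff] at hz; subst hz
    rw [hN, add_pow_char_pow_of_commute p _ (by
      exact LinearMap.ext fun x => by simp), hpows s hs, hpows s.symm (by
      rw [show s.symm = s⁻¹ from rfl, inv_pow, hs, inv_one])]
  | algebraMap a => rw [hN, ← map_pow, hfix]
  | add a b ha hb iha ihb =>
    rw [hN] at iha ihb ⊢
    rw [add_pow_char_pow_of_commute p _ (plusAlg_comm ha hb), iha, ihb]
  | mul a b ha hb iha ihb =>
    rw [hN] at iha ihb ⊢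
    rw [(show Commute a b from plusAlg_comm ha hb).mul_pow, iha, ihb]

set_option maxHeartbeats 2000000 in
/-- The centralizer of an indecomposable element. -/
theorem indecomposable_centralizer {p : ℕ} [Fact p.Prime] [CharP F p] (hp : p ≠ 2) (hf : f.IsAlt) (hnd : f.Nondegenerate)
    (hk : 0 < k) {r : ℕ} (hr : r.Prime) (hrp : r ≠ p) (hsr : s ^ r = 1) (hs : s ∈ bIso f)
    (hw : Function.Injective (skewPart s))
    (hmin : ∀ t ∈ bIso f, Commute t s → t * t = 1 → t = 1 ∨ ∀ x, t x = -x)
    :
    (IsSquare (LinearMap.det (skewPart s)) → ∃ j ∈ bIso f, Commute j s ∧ ∀ x, j (j x) = -x) ∧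
    ∃ c ∈ bIso f, Commute c s ∧
      ¬ IsSquare (LinearMap.det (LinearMap.id - (c : (Fin k → F) →ₗ[F] (Fin k → F))) * LinearMap.det (skewPart s)) := by
  classical
  have h2 : (2 : F) ≠ 0 := Ring.two_ne_zero (by rwa [ringChar.eq F p])
  let V := Fin k → F
  set K := plusAlg s with hK
  haveI : Finite V := inferInstance
  haveI : Finite (Module.End F V) := Finite.of_injective _ DFunLike.coe_injective
  haveI : Finite K := inferInstance
  haveI : Nontrivial V := by
    haveI : Nonempty (Fin k) := ⟨⟨0, hk⟩⟩
    exact Function.nontrivial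
  let _ : CommRing K := { (inferInstance : Ring K) with mul_comm := fun a b => Subtype.ext (plusAlg_comm a.2 b.2) }
  set N := Fintype.card F ^ (r - 1)
  have hN3 : 3 ≤ N := by
    have hq : 3 ≤ Fintype.card F := by
      obtain ⟨e, hp', hcard⟩ := FiniteField.card F p
      rw [hcard]
      have := (Nat.Prime.two_le hp')
      calc 3 ≤ p := by omega
        _ ≤ p ^ (e : ℕ) := Nat.le_self_pow e.pos.ne' p
    exact hq.trans (Nat.le_self_pow (by have := hr.two_le; omega) _)
  have hpow : ∀ c : K, c ^ N = c := fun c => Subtype.ext (by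
    rw [SubmonoidClass.coe_pow]; exact plusAlg_pow hk hr hrp hsr c.2)
  have hfield : ∀ c : K, c ≠ 0 → c * c ^ (N - 2) = 1 := by
    intro c hc
    set e : K := c ^ (N - 1) with he
    have hec : e * c = c := by rw [he, ← pow_succ, Nat.sub_add_cancel (by omega)]; exact hpow c
    have hee : e * e = e := by
      rw [he, ← pow_add, show N - 1 + (N - 1) = (N - 2) + N by omega, pow_add, hpow, ← pow_succ,
        show N - 2 + 1 = N - 1 by omega]
    let T : V ≃ₗ[F] V := LinearEquiv.ofLinearMap (2 * e.1 - 1) (2 * e.1 - 1)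
      (by
        show (2 * e.1 - 1) * (2 * e.1 - 1) = (1 : Module.End F V)
        have h' : e.1 * e.1 = e.1 := congrArg Subtype.val hee
        simp only [two_mul, mul_sub, sub_mul, add_mul, mul_add, one_mul, mul_one, h']; abel)
      (by
        show (2 * e.1 - 1) * (2 * e.1 - 1) = (1 : Module.End F V)
        have h' : e.1 * e.1 = e.1 := congrArg Subtype.val hee
        simp only [two_mul, mul_sub, sub_mul, add_mul, mul_add, one_mul, mul_one, h']; abel)
    have hTx : ∀ x, T x = e.1 x + e.1 x - x := fun x => by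
      show (2 * e.1 - 1 : Module.End F V) x = _
      rw [two_mul, LinearMap.sub_apply, LinearMap.add_apply]; rfl
    have hTT : ∀ x, T (T x) = x := fun x => T.apply_symm_apply x
    have hTsa : ∀ x y, f (T x) y = f x (T y) := fun x y => by
      simp only [hTx, map_sub, map_add, LinearMap.sub_apply, LinearMap.add_apply, plusAlg_selfAdjoint hs e.2]
    have hTf : T ∈ bIso f := fun x y => by rw [hTsa, hTT]
    have hTc : Commute T s := LinearEquiv.ext fun x => by
      show T (s x) = s (T x)
      simp only [hTx, map_sub, map_add, plusAlg_commute e.2]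
    rcases hmin T hTf hTc (LinearEquiv.ext hTT) with h1 | h1
    · have he1 : e = 1 := Subtype.ext (LinearMap.ext fun x => by
        have := LinearEquiv.congr_fun h1 x
        rw [hTx, show (1 : V ≃ₗ[F] V) x = x from rfl, sub_eq_iff_eq_add, ← two_smul F, ← two_smul F x] at this
        exact smul_right_injective V h2 this)
      rw [← pow_succ', show N - 2 + 1 = N - 1 by omega, ← he, he1]
    · exfalso
      have he0 : e = 0 := Subtype.ext (LinearMap.ext fun x => by
        have := h1 x
        rw [hTx, sub_eq_neg_self, ← two_smul F] at this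
        exact (smul_eq_zero.1 this).resolve_left h2)
      exact hc (by rw [← hec, he0, zero_mul])
  have hfld : IsField K := ⟨⟨0, 1, fun h => zero_ne_one
    (α := F) ((algebraMap F (Module.End F V)).injective (by rw [map_zero, map_one]; exact congrArg Subtype.val h))⟩,
    mul_comm, fun {c} hc => ⟨_, hfield c hc⟩⟩
  letI : Field K := hfld.toField
  set a : K := ⟨_, Algebra.subset_adjoin (Set.mem_singleton _)⟩
  set w := skewPart s with hwdef
  set u2 : K := a * a - 4 with hu2
  have hww : ∀ x, w (w x) = u2.1 x := by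
    intro x
    have : (u2.1 : Module.End F V) = a.1 * a.1 - 4 := by
      rw [hu2]; push_cast; rfl
    rw [this]
    simp only [hwdef, skewPart_apply, a, LinearMap.sub_apply, Module.End.mul_apply, LinearMap.add_apply,
      LinearEquiv.coe_coe, map_sub, map_add, LinearEquiv.apply_symm_apply, LinearEquiv.symm_apply_apply,
      Module.End.ofNat_apply]
    module
  have hwc : ∀ (c : K) x, w (c.1 x) = c.1 (w x) := fun c x => by
    have h1 : c.1 (s.symm x) = s.symm (c.1 x) := s.injective (by
      rw [← plusAlg_commute c.2, LinearEquiv.apply_symm_apply, LinearEquiv.apply_symm_apply])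
    rw [hwdef, skewPart_apply, skewPart_apply, map_sub, plusAlg_commute c.2, h1]
  have hwadj : ∀ x y, f (w x) y = -f x (w y) := skewPart_adjoint hs
  have hu20 : u2 ≠ 0 := fun e => by
    obtain ⟨x, hx⟩ := exists_ne (0 : V)
    refine hx (hw (hw ?_))
    rw [hww, map_zero, map_zero, e]; rfl
  obtain ⟨u, hu⟩ : ∃ u, f u (w u) ≠ 0 := by
    by_contra hcon
    push Not at hcon
    obtain ⟨x, hx⟩ := exists_ne (0 : V)
    refine hx (hw (?_ : w x = w 0))
    rw [map_zero]
    refine hnd.2 _ fun y => ?_
    have := hcon (x + y)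
    rw [map_add, map_add, LinearMap.add_apply, map_add, map_add, hcon, hcon, zero_add, add_zero,
      show f x (w y) = f y (w x) by rw [← neg_eq_iff_eq_neg.2 (hwadj x y), hf.neg_eq]] at this
    exact (mul_eq_zero.1 ((two_mul _).trans this)).resolve_left h2
  let Ψ : K × K →ₗ[F] V :=
    { toFun := fun z => z.1.1 u + z.2.1 (w u)
      map_add' := fun z z' => by simp only [Prod.fst_add, Prod.snd_add, Subalgebra.coe_add, LinearMap.add_apply]; abel
      map_smul' := fun r z => by simp [smul_add] }
  have hΨ : ∀ z, Ψ z = z.1.1 u + z.2.1 (w u) := fun _ => rfl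
  have hpair : ∀ c : K, f u (c.1 u) = 0 := fun c => by
    have h1 := plusAlg_selfAdjoint hs c.2 u u
    have h3 := hf.neg_eq u (c.1 u)
    rw [h1] at h3
    exact (mul_eq_zero.1 (show (2 : F) * f u (c.1 u) = 0 by linear_combination -h3)).resolve_left h2
  have horth : ∀ z, (∀ z', f (Ψ z) (Ψ z') = 0) → z = 0 := by
    intro z hz
    have h1 : ∀ c : K, f u ((z.2 * c).1 (w u)) = 0 := fun c => by
      have := hz (c, 0)
      simp only [hΨ, map_add, LinearMap.add_apply] at this
      simp only [ZeroMemClass.coe_zero, LinearMap.zero_apply, map_zero, add_zero] at this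
      rw [plusAlg_selfAdjoint hs z.1.2, plusAlg_selfAdjoint hs z.2.2,
        show (z.1.1 : Module.End F V) (c.1 u) = (z.1 * c).1 u from rfl, hpair, zero_add,
        hwadj, show (z.2.1 : Module.End F V) (c.1 u) = (z.2 * c).1 u from rfl, hwc] at this
      rw [Subalgebra.coe_mul]
      exact neg_eq_zero.1 this
    have h0 : z.2 = 0 := by
      by_contra hne
      have := h1 z.2⁻¹
      rw [mul_inv_cancel₀ hne] at this
      exact hu this
    have h3 : z.1 = 0 := by
      by_contra hne
      have := hz (0, z.1⁻¹)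
      rw [hΨ, hΨ, h0] at this
      simp only [ZeroMemClass.coe_zero, LinearMap.zero_apply, add_zero, zero_add] at this
      rw [plusAlg_selfAdjoint hs z.1.2, show (z.1.1 : Module.End F V) (z.1⁻¹.1 (w u)) = (z.1 * z.1⁻¹).1 (w u) from rfl,
        mul_inv_cancel₀ hne] at this
      exact hu this
    exact Prod.ext h3 h0
  have hinj : Function.Injective Ψ := by
    rw [injective_iff_map_eq_zero]
    exact fun z hz => horth z fun z' => by rw [hz, map_zero, LinearMap.zero_apply]
  have hsurj : Function.Surjective Ψ := by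
    rw [← LinearMap.range_eq_top]
    by_contra htop
    set U := LinearMap.range Ψ
    have hUc : IsCompl U (f.orthogonal U) := (LinearMap.BilinForm.isCompl_orthogonal_iff_disjoint hf.isRefl).2 (by
      rw [Submodule.disjoint_def]
      rintro _ ⟨z, rfl⟩ hz
      rw [horth z fun z' => hf.isRefl _ _ (hz _ ⟨z', rfl⟩), map_zero])
    have hsu : ∀ z, ∃ z', s (Ψ z) = Ψ z' := fun z => by
      have hh : (2 : F)⁻¹ • (a * z.1 + z.2 * u2) = (2 : F)⁻¹ • (a * z.1 + z.2 * u2) := rfl
      refine ⟨((2 : F)⁻¹ • (a * z.1 + z.2 * u2), (2 : F)⁻¹ • (z.1 + a * z.2)), ?_⟩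
      have hs2 : ∀ x, s x = (2 : F)⁻¹ • (a.1 x + w x) := fun x => by
        rw [hwdef, skewPart_apply]
        simp only [a, LinearMap.add_apply, LinearEquiv.coe_coe]
        match_scalars <;> field_simp <;> ring
      rw [hs2, hΨ, hΨ]
      simp only [map_add, hwc, hww, Subalgebra.coe_smul, Subalgebra.coe_add, Subalgebra.coe_mul, LinearMap.smul_apply,
        LinearMap.add_apply, Module.End.mul_apply]
      module
    let P : V →ₗ[F] V := Submodule.projectionOnto U (f.orthogonal U) hUc |> fun q => U.subtype ∘ₗ q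
    have hP1 : ∀ x ∈ U, P x = x := fun x hx => by
      show ((Submodule.projectionOnto U (f.orthogonal U) hUc) x : V) = x
      rw [Submodule.projectionOnto_apply_left _ ⟨x, hx⟩]
    have hP2 : ∀ x ∈ f.orthogonal U, P x = 0 := fun x hx => by
      show ((Submodule.projectionOnto U (f.orthogonal U) hUc) x : V) = 0
      rw [Submodule.projectionOnto_apply_right _ ⟨x, hx⟩]; rfl
    let tt : V →ₗ[F] V := P + P - LinearMap.id
    have htt : ∀ y ∈ U, ∀ m ∈ f.orthogonal U, tt (y + m) = y - m := fun y hy m hm => by
      simp only [tt, LinearMap.sub_apply, LinearMap.add_apply, LinearMap.id_apply, map_add, hP1 y hy, hP2 m hm]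
      abel
    have hdec : ∀ x, ∃ y ∈ U, ∃ m ∈ f.orthogonal U, y + m = x := fun x =>
      Submodule.mem_sup.1 (hUc.sup_eq_top ▸ Submodule.mem_top)
    have httt : tt ∘ₗ tt = LinearMap.id := LinearMap.ext fun x => by
      obtain ⟨y, hy, m, hm, rfl⟩ := hdec x
      rw [LinearMap.comp_apply, LinearMap.id_apply, htt y hy m hm, sub_eq_add_neg,
        htt y hy _ (neg_mem hm), sub_neg_eq_add]
    let T : V ≃ₗ[F] V := LinearEquiv.ofLinearMap tt tt httt httt
    have hTU : ∀ y ∈ U, T y = y := fun y hy => by
      show tt y = y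
      have := htt y hy 0 (zero_mem _)
      rwa [add_zero, sub_zero] at this
    have hTf : T ∈ bIso f := fun x x' => by
      obtain ⟨y, hy, m, hm, rfl⟩ := hdec x
      obtain ⟨y', hy', m', hm', rfl⟩ := hdec x'
      show f (tt _) (tt _) = _
      rw [htt y hy m hm, htt y' hy' m' hm']
      have e1 : f y m' = 0 := hm' y hy
      have e2 : f m y' = 0 := hf.isRefl _ _ (hm y' hy')
      simp only [map_sub, map_add, LinearMap.sub_apply, LinearMap.add_apply, e1, e2]
      ring
    have hsU : ∀ y ∈ U, s y ∈ U := by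
      rintro _ ⟨z, rfl⟩
      obtain ⟨z', e⟩ := hsu z
      exact ⟨z', e.symm⟩
    have hsUeq : Submodule.map (s : V →ₗ[F] V) U = U :=
      Submodule.eq_of_le_of_finrank_eq (Submodule.map_le_iff_le_comap.2 hsU) (LinearEquiv.finrank_map_eq s U)
    have hsm : ∀ m ∈ f.orthogonal U, s m ∈ f.orthogonal U := fun m hm y hy => by
      obtain ⟨y', hy', rfl⟩ := (hsUeq.symm ▸ hy : y ∈ Submodule.map (s : V →ₗ[F] V) U)
      show f (s y') (s m) = 0
      rw [hs]
      exact hm y' hy'
    have hTc : Commute T s := LinearEquiv.ext fun x => by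
      obtain ⟨y, hy, m, hm, rfl⟩ := hdec x
      show tt (s (y + m)) = s (tt (y + m))
      rw [map_add, htt y hy m hm, htt _ (hsU y hy) _ (hsm m hm), map_sub]
    rcases hmin T hTf hTc (LinearEquiv.ext fun x => LinearMap.congr_fun httt x) with h1 | h1
    · refine htop (eq_top_iff.2 fun x _ => ?_)
      obtain ⟨y, hy, m, hm, rfl⟩ := hdec x
      have e : T (y + m) = y + m := by rw [h1]; rfl
      change tt (y + m) = y + m at e
      rw [htt y hy m hm, sub_eq_add_neg, add_right_inj, neg_eq_iff_add_eq_zero, ← two_smul F] at e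
      rw [(smul_eq_zero.1 e).resolve_left h2, add_zero]
      exact hy
    · have e := h1 (Ψ (1, 0))
      rw [hTU _ ⟨_, rfl⟩, eq_neg_iff_add_eq_zero, ← two_smul F] at e
      have := hinj (((smul_eq_zero.1 e).resolve_left h2).trans (map_zero Ψ).symm)
      exact one_ne_zero (congrArg Prod.fst this : (1 : K) = 0)
  let E : (K × K) ≃ₗ[F] V := LinearEquiv.ofBijective Ψ ⟨hinj, hsurj⟩
  have hnorm : LinearMap.det w = Algebra.norm F (-u2) := by
    have hconj : E.symm.toLinearMap ∘ₗ w ∘ₗ E.toLinearMap =
        (LinearMap.prodMap (Algebra.lmul F K u2) LinearMap.id) ∘ₗ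
          (LinearEquiv.prodComm F K K).toLinearMap := by
      refine LinearMap.ext fun z => E.injective ?_
      simp only [LinearMap.comp_apply, LinearEquiv.coe_coe, LinearEquiv.apply_symm_apply,
        LinearEquiv.prodComm_apply, LinearMap.prodMap_apply, LinearMap.id_apply]
      show w (Ψ z) = Ψ (u2 * z.2, z.1)
      rw [hΨ, hΨ, map_add, hwc, hwc, hww, Subalgebra.coe_mul, Module.End.mul_apply,
        show (z.2.1 : Module.End F V) (u2.1 u) = u2.1 (z.2.1 u) from LinearMap.congr_fun (plusAlg_comm z.2.2 u2.2) u]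
      abel
    have h1 := LinearMap.det_conj w E.symm
    simp only [LinearEquiv.symm_symm] at h1
    erw [hconj] at h1
    rw [← h1, LinearMap.det_comp, LinearMap.det_prodMap, LinearMap.det_id, mul_one]
    have hswap : LinearMap.det (LinearEquiv.prodComm F K K).toLinearMap = Algebra.norm F (-1 : K) := by
      let b := Module.finBasis F K
      rw [← LinearMap.det_toMatrix (b.prod b), Algebra.norm_apply,
        show Algebra.lmul F K (-1) = (-1 : F) • LinearMap.id from LinearMap.ext fun x => by simp,
        LinearMap.det_smul, LinearMap.det_id, mul_one]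
      have hM : LinearMap.toMatrix (b.prod b) (b.prod b) (LinearEquiv.prodComm F K K).toLinearMap =
          Matrix.fromBlocks 0 1 1 0 := by
        ext (i | i) (j | j) <;> simp [LinearMap.toMatrix_apply, Module.Basis.prod_apply, Matrix.one_apply, Finsupp.single_apply, eq_comm]
      rw [hM, H43.det_swap_blocks]
    rw [hswap, ← neg_one_mul u2, map_mul, mul_comm, Algebra.norm_apply (R := F) u2]
  refine ⟨fun hdet => ?_, ?_⟩
  · obtain ⟨c, hc⟩ : IsSquare (-u2) := by
      by_contra hns
      have hu0 : -u2 ≠ 0 := neg_ne_zero.2 hu20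
      obtain ⟨α, hα⟩ := FiniteField.exists_nonsquare (F := F) (by rw [ringChar.eq F p]; exact hp)
      obtain ⟨y, hy⟩ := FiniteField.norm_surjective F K α
      have hy0 : y ≠ 0 := by
        rintro rfl
        rw [Algebra.norm_zero] at hy
        exact hα (hy ▸ IsSquare.zero)
      have ha1 : H43.sqMk (Units.mk0 _ hu0) ≠ 1 := by
        rw [Ne, H43.sqMk_eq_one_iff]
        rintro ⟨b, hb⟩
        exact hns ⟨b, by rw [← pow_two]; exact (congrArg Units.val hb).symm.trans (Units.val_pow_eq_pow_val b 2)⟩
      have hsq : ∀ b : Kˣ, IsSquare (Algebra.norm F ((b : K) * b)) := fun b => ⟨Algebra.norm F (b : K), map_mul _ _ _⟩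
      obtain ⟨α', -, -, hall⟩ := H43.exists_sqc_cases K
      by_cases hb : H43.sqMk (Units.mk0 y hy0) = 1
      · obtain ⟨b, hb⟩ := (H43.sqMk_eq_one_iff _).1 hb
        have e : (b : K) * b = y := by rw [← pow_two, ← Units.val_pow_eq_pow_val, hb, Units.val_mk0]
        exact hα (by rw [← hy, ← e]; exact hsq b)
      · have e' : H43.sqMk (Units.mk0 y hy0 * Units.mk0 _ hu0) = 1 := by
          rw [map_mul]
          rcases hall (H43.sqMk (Units.mk0 y hy0)) with e | e
          · exact absurd e hb
          rcases hall (H43.sqMk (Units.mk0 _ hu0)) with e2 | e2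
          · exact absurd e2 ha1
          rw [e, e2, H43.sqClass_mul_self]
        obtain ⟨b, hb⟩ := (H43.sqMk_eq_one_iff _).1 e'
        have e : (b : K) * b = y * -u2 := by
          rw [← pow_two, ← Units.val_pow_eq_pow_val, hb, Units.val_mul, Units.val_mk0, Units.val_mk0]
        have h5 := hsq b
        rw [e, map_mul, hy, ← hnorm] at h5
        obtain ⟨d, hd⟩ := hdet
        obtain ⟨d', hd'⟩ := h5
        have hd0 : d ≠ 0 := by
          rintro rfl
          rw [mul_zero, hnorm, Algebra.norm_eq_zero_iff] at hd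
          exact hu0 hd
        exact hα ⟨d' / d, by rw [div_mul_div_comm, ← hd', ← hd]; field_simp [hd]⟩
    have hc0 : c ≠ 0 := fun e => hu20 (neg_eq_zero.1 (by rw [hc, e, mul_zero]))
    set d : K := c⁻¹
    have hjj : ∀ x, d.1 (w (d.1 (w x))) = -x := by
      intro x
      rw [hwc, hww]
      have e : d * (d * u2) = -1 := by
        have h1 : u2 = -(c * c) := by rw [← hc, neg_neg]
        rw [h1]; simp only [d]; field_simp
      have h3 := congrArg (fun z : K => z.1 x) e
      simpa [Subalgebra.coe_mul, Module.End.mul_apply] using h3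
    let jl : V →ₗ[F] V := (d.1 : Module.End F V) ∘ₗ w
    have hjl : ∀ x, jl (jl x) = -x := hjj
    let j : V ≃ₗ[F] V := LinearEquiv.ofLinearMap jl (-jl) (LinearMap.ext fun x => by
        show jl (-(jl x)) = x; rw [map_neg, hjl, neg_neg])
      (LinearMap.ext fun x => by show -(jl (jl x)) = x; rw [hjl, neg_neg])
    refine ⟨j, fun x y => ?_, LinearEquiv.ext fun x => ?_, hjl⟩
    · show f (d.1 (w x)) (d.1 (w y)) = f x y
      rw [plusAlg_selfAdjoint hs d.2, hwadj, ← map_neg, hwc d (d.1 (w y))]
      rw [show w (d.1 (w y)) = d.1 (w (w y)) from hwc d _]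
      have := hjj y
      rw [hwc d, hww] at this
      rw [hww, this, neg_neg]
    · show d.1 (w (s x)) = s (d.1 (w x))
      rw [← plusAlg_commute d.2]
      congr 1
      rw [hwdef, skewPart_apply, skewPart_apply, map_sub, LinearEquiv.symm_apply_apply, LinearEquiv.apply_symm_apply]

  · obtain ⟨α, hα⟩ := FiniteField.exists_nonsquare (F := F) (by rw [ringChar.eq F p]; exact hp)
    obtain ⟨ν, hν⟩ := FiniteField.norm_surjective F K α
    have hν0 : ν ≠ 0 := by
      rintro rfl
      rw [Algebra.norm_zero] at hν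
      exact hα (hν ▸ IsSquare.zero)
    obtain ⟨x, y, hxy⟩ := H43.exists_sum_sq_eq (F := K) (a := 1) (b := -u2) one_ne_zero (neg_ne_zero.2 hu20) ν
    have hy : y ≠ 0 := by
      rintro rfl
      exact hα ⟨Algebra.norm F x, by
        rw [← hν, ← map_mul, show x * x = ν by linear_combination hxy]⟩
    set a' : K := (x * x + u2 * (y * y)) / ν with ha'
    set β : K := (2 * x * y) / ν with hβ
    have hcirc : a' * a' - β * β * u2 = 1 := by
      rw [ha', hβ]; field_simp; rw [← hxy]; ring
    set cl : V →ₗ[F] V := (a'.1 : Module.End F V) + (β.1 : Module.End F V) ∘ₗ w with hcl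
    set cl' : V →ₗ[F] V := (a'.1 : Module.End F V) - (β.1 : Module.End F V) ∘ₗ w with hcl'
    have hmulK : ∀ (g g' : K) (z : V), g.1 (g'.1 z) = (g * g').1 z := fun g g' z => rfl
    have hinv : ∀ z, cl' (cl z) = z ∧ cl (cl' z) = z := fun z => by
      have e1 : (a' * a' - β * β * u2).1 z = z := by rw [hcirc]; rfl
      have e2 : β.1 (a'.1 (w z)) = a'.1 (β.1 (w z)) := LinearMap.congr_fun (plusAlg_comm β.2 a'.2) (w z)
      rw [Subalgebra.coe_sub, LinearMap.sub_apply] at e1
      constructor <;>
      · simp only [hcl, hcl', LinearMap.add_apply, LinearMap.sub_apply, LinearMap.comp_apply, map_add, map_sub,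
          hwc, hww, e2]
        rw [hmulK a' a', hmulK β u2, hmulK β (β * u2), ← mul_assoc β β u2]
        linear_combination (norm := abel) e1
    let cq : V ≃ₗ[F] V := LinearEquiv.ofLinearMap cl cl' (LinearMap.ext fun z => (hinv z).2) (LinearMap.ext fun z => (hinv z).1)
    have hcq : ∀ z, cq z = a'.1 z + β.1 (w z) := fun z => rfl
    have hadj : ∀ z z', f (β.1 (w z)) z' = -f z (β.1 (w z')) := fun z z' => by
      rw [plusAlg_selfAdjoint hs β.2, hwadj, hwc]
    refine ⟨cq, fun z z' => ?_, LinearEquiv.ext fun z => ?_, ?_⟩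
    · have h' : f z (cl' (cl z')) = f z z' := by rw [(hinv z').1]
      rw [← h', hcq, map_add, LinearMap.add_apply, plusAlg_selfAdjoint hs a'.2, hadj]
      show _ = f z (a'.1 (cq z') - β.1 (w (cq z')))
      rw [map_sub]
      abel
    · show a'.1 (s z) + β.1 (w (s z)) = s (a'.1 z + β.1 (w z))
      rw [map_add, ← plusAlg_commute a'.2, ← plusAlg_commute β.2]
      congr 2
      rw [hwdef, skewPart_apply, skewPart_apply, map_sub, LinearEquiv.symm_apply_apply, LinearEquiv.apply_symm_apply]
    · set q : K := 1 - a' with hq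
      have hq2 : q = -(2 * u2 * (y * y)) / ν := by
        rw [hq, ha']; field_simp; rw [← hxy]; ring
      have hq0 : q ≠ 0 := by
        rw [hq2]
        have h2K : (2 : K) ≠ 0 := fun e => h2 ((algebraMap F K).injective (by rw [map_ofNat, map_zero]; exact e))
        exact div_ne_zero (neg_ne_zero.2 (mul_ne_zero (mul_ne_zero h2K hu20) (mul_ne_zero hy hy))) hν0
      have hdet1 : LinearMap.det (LinearMap.id - (cq : V →ₗ[F] V)) = Algebra.norm F (2 * q) := by
        let b := Module.finBasis F K
        let L := Algebra.leftMulMatrix b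
        let T : (K × K) →ₗ[F] (K × K) :=
          LinearMap.prod (Algebra.lmul F K q ∘ₗ LinearMap.fst F K K - Algebra.lmul F K (β * u2) ∘ₗ LinearMap.snd F K K)
            (Algebra.lmul F K q ∘ₗ LinearMap.snd F K K - Algebra.lmul F K β ∘ₗ LinearMap.fst F K K)
        have hT : ∀ z, T z = (q * z.1 - β * u2 * z.2, q * z.2 - β * z.1) := fun z => rfl
        have hconj : E.symm.toLinearMap ∘ₗ (LinearMap.id - (cq : V →ₗ[F] V)) ∘ₗ E.toLinearMap = T := by
          refine LinearMap.ext fun z => E.injective ?_
          simp only [LinearMap.comp_apply, LinearEquiv.coe_coe, LinearEquiv.apply_symm_apply, LinearMap.sub_apply,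
            LinearMap.id_apply]
          show Ψ z - cq (Ψ z) = Ψ (T z)
          rw [hT, hcq, hΨ, hΨ, hq]
          simp only [map_add, map_sub, hwc, hww, sub_mul, one_mul, Subalgebra.coe_sub, Subalgebra.coe_mul,
            LinearMap.sub_apply, Module.End.mul_apply]
          rw [show (z.2.1 : Module.End F V) (u2.1 u) = u2.1 (z.2.1 u) from LinearMap.congr_fun (plusAlg_comm z.2.2 u2.2) u]
          abel
        have h1 := LinearMap.det_conj (LinearMap.id - (cq : V →ₗ[F] V)) E.symm
        simp only [LinearEquiv.symm_symm] at h1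
        erw [hconj] at h1
        rw [← h1, ← LinearMap.det_toMatrix (b.prod b)]
        have hM : LinearMap.toMatrix (b.prod b) (b.prod b) T =
            Matrix.fromBlocks (L q) (L (-(β * u2))) (L (-β)) (L q) := by
          ext (i | i) (j | j) <;>
            simp [LinearMap.toMatrix_apply, Module.Basis.prod_apply, hT, L, Algebra.leftMulMatrix_eq_repr_mul]
          rw [← map_mul, Algebra.leftMulMatrix_eq_repr_mul]
        have hfac : Matrix.fromBlocks (L q) 0 (L (-β)) (L 2) * Matrix.fromBlocks 1 (L (-(β * u2) / q)) 0 1 =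
            Matrix.fromBlocks (L q) (L (-(β * u2))) (L (-β)) (L q) := by
          have e1 : q * (-(β * u2) / q) = -(β * u2) := by field_simp
          have e2 : -β * (-(β * u2) / q) + 2 = q := by
            field_simp
            rw [hq]
            linear_combination -hcirc
          rw [Matrix.fromBlocks_multiply]
          simp only [mul_one, mul_zero, add_zero, zero_mul, zero_add, ← map_mul, ← map_add, e1, e2]
        rw [hM, ← hfac, Matrix.det_mul, Matrix.det_fromBlocks_zero₁₂, Matrix.det_fromBlocks_zero₂₁,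
          Matrix.det_one, mul_one, mul_one, ← Algebra.norm_eq_matrix_det b, ← Algebra.norm_eq_matrix_det b, mul_comm,
          ← map_mul]
      rw [hdet1, hnorm, ← map_mul, hq2]
      rintro ⟨d, hd⟩
      set t : K := 2 * u2 * y / ν
      have e : 2 * (-(2 * u2 * (y * y)) / ν) * -u2 = t * t * ν := by simp only [t]; field_simp
      rw [e, map_mul, map_mul, hν] at hd
      have ht : Algebra.norm F t ≠ 0 := by
        rw [Ne, Algebra.norm_eq_zero_iff]
        exact fun e' => hq0 (by
          rw [hq2, show -(2 * u2 * (y * y)) / ν = -(t * y) by simp only [t]; field_simp, e', zero_mul, neg_zero])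
      exact hα ⟨d / Algebra.norm F t, by rw [div_mul_div_comm, ← hd]; field_simp⟩

/-- A square root of `-1`. -/
theorem exists_sqrt_neg_one {p : ℕ} [Fact p.Prime] [CharP F p] (hp : p ≠ 2) (hf : f.IsAlt) (hnd : f.Nondegenerate)
    (hk : 0 < k) {r : ℕ} (hr : r.Prime) (hrp : r ≠ p) (hsr : s ^ r = 1) (hs : s ∈ bIso f)
    (hw : Function.Injective (skewPart s))
    (hmin : ∀ t ∈ bIso f, Commute t s → t * t = 1 → t = 1 ∨ ∀ x, t x = -x)
    (hdet : IsSquare (LinearMap.det (skewPart s))) :
    ∃ j ∈ bIso f, Commute j s ∧ ∀ x, j (j x) = -x :=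
  (indecomposable_centralizer hp hf hnd hk hr hrp hsr hs hw hmin).1 hdet

end H44
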