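import Cfsg.Agent.H44.BCModels
import Cfsg.Agent.H44.BCNorm

/-!
Elements of `Sp_{2n}` and `O_{2n+1}` through the paired forms on the moved space of a semisimple part.
-/

set_option autoImplicit false

namespace H44

open H43 Matrix

variable {F : Type*} [Field F]

/-- An element of order `N` preserving a paired alternating and symmetric form on `F^k`. -/
def Core (F : Type*) [Field F] (N k : ℕ) : Prop :=
  ∃ (f B : LinearMap.BilinForm F (Fin k → F)) (x : (Fin k → F) ≃ₗ[F] (Fin k → F)),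
    f.IsAlt ∧ f.Nondegenerate ∧ (∀ u v, B u v = B v u) ∧ B.Nondegenerate ∧ x ∈ bIso f ∧ x ∈ bIso B ∧ orderOf x = N

/-- A form that is alternating or symmetric. -/
def FormKind {V : Type*} [AddCommGroup V] [Module F V] (f : LinearMap.BilinForm F V) : Prop :=
  f.IsAlt ∨ ∀ u v, f u v = f v u

theorem FormKind.isRefl {V : Type*} [AddCommGroup V] [Module F V] {f : LinearMap.BilinForm F V}
    (h : FormKind f) : f.IsRefl := by
  rcases h with h | h
  · exact h.isRefl
  · intro u v e; rw [h]; exact e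

variable {V : Type*} [AddCommGroup V] [Module F V] [FiniteDimensional F V]

/-- The paired forms on the moved space. -/
theorem exists_core_data (h2 : (2 : F) ≠ 0) {f₀ : LinearMap.BilinForm F V} (hk : FormKind f₀)
    (hnd : f₀.Nondegenerate) {s : V ≃ₗ[F] V} {N : ℕ} (hs : s ^ N = 1) (hN : (N : F) ≠ 0) (hodd : Odd N)
    (hsf : s ∈ bIso f₀) :
    ∃ (k : ℕ) (ι : (Fin k → F) →ₗ[F] V) (f B : LinearMap.BilinForm F (Fin k → F)),
      Function.Injective ι ∧ LinearMap.range ι = movedSp s ∧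
      k + Module.finrank F (fixedSp s) = Module.finrank F V ∧
      f.IsAlt ∧ f.Nondegenerate ∧ (∀ u v, B u v = B v u) ∧ B.Nondegenerate ∧
      ∀ g ∈ bIso f₀, Commute g s → ∃ g' : (Fin k → F) ≃ₗ[F] (Fin k → F),
        g' ∈ bIso f ∧ g' ∈ bIso B ∧ ∀ x, ι (g' x) = g (ι x) := by
  obtain ⟨k, ι, f₁, f₂, hι, hr, hdim, h1, h2', e1, e2, hg⟩ := exists_moved_forms hs hN hodd f₀ hsf hk.isRefl hnd
  rcases hk with hk | hk
  · refine ⟨k, ι, f₁, f₂, hι, hr, hdim, fun x => by rw [e1]; exact hk _, h1, fun u v => ?_, h2', fun g a b => ?_⟩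
    · rw [e2, e2, ← hk.neg_eq (skewPart s (ι u)) (ι v), skewPart_adjoint hsf, neg_neg]
    · obtain ⟨g', h, h'⟩ := hg g a b
      exact ⟨g', h.1, h.2, h'⟩
  · refine ⟨k, ι, f₂, f₁, hι, hr, hdim, fun x => ?_, h2', fun u v => by rw [e1, e1]; exact hk _ _, h1,
      fun g a b => ?_⟩
    · show f₂ x x = 0
      rw [e2]
      have e := skewPart_adjoint hsf (ι x) (ι x)
      rw [hk (skewPart s (ι x))] at e
      exact (mul_eq_zero.1 (show (2 : F) * f₀ (ι x) (skewPart s (ι x)) = 0 by linear_combination e)).resolve_left h2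
    · obtain ⟨g', h, h'⟩ := hg g a b
      exact ⟨g', h.2, h.1, h'⟩

omit [FiniteDimensional F V] in
theorem restrict_pow {k : ℕ} {ι : (Fin k → F) →ₗ[F] V} {g : V ≃ₗ[F] V} {g' : (Fin k → F) ≃ₗ[F] (Fin k → F)}
    (h : ∀ x, ι (g' x) = g (ι x)) (i : ℕ) (x : Fin k → F) : ι ((g' ^ i) x) = (g ^ i) (ι x) := by
  induction i generalizing x with
  | zero => rfl
  | succ i ih =>
    rw [pow_succ', pow_succ']
    show ι (g' ((g' ^ i) x)) = g ((g ^ i) (ι x))
    rw [h, ih]

omit [FiniteDimensional F V] in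
/-- An element trivial on the fixed and on the moved space is trivial. -/
theorem eq_one_of_parts {s g : V ≃ₗ[F] V} (hc : IsCompl (fixedSp s) (movedSp s))
    (h1 : ∀ x ∈ fixedSp s, g x = x) (h2 : ∀ x ∈ movedSp s, g x = x) : g = 1 := by
  refine LinearEquiv.ext fun x => ?_
  obtain ⟨a, ha, b, hb, rfl⟩ := Submodule.mem_sup.1 (hc.sup_eq_top ▸ Submodule.mem_top : x ∈ fixedSp s ⊔ movedSp s)
  rw [map_add, h1 a ha, h2 b hb]
  rfl

variable [Fintype F]

omit V in
theorem core_even (hodd : Odd (Fintype.card F)) {N k : ℕ} (h : Core F N k) : Even k := by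
  obtain ⟨f, -, -, hf, hnd, -⟩ := h
  obtain ⟨d, -, hd, -⟩ := exists_spHom hodd hf hnd
  exact ⟨d, by omega⟩

/-- An element of odd order prime to the characteristic. -/
theorem core_of_semisimple (hF : Odd (Fintype.card F)) {n : ℕ} (hdim : Module.finrank F V ≤ 2 * n + 1)
    {f₀ : LinearMap.BilinForm F V} (hk : FormKind f₀) (hnd : f₀.Nondegenerate) {x : V ≃ₗ[F] V}
    (hx : x ∈ bIso f₀) {N : ℕ} (hN : orderOf x = N) (hN0 : (N : F) ≠ 0) (hodd : Odd N) :
    ∃ k, k ≤ 2 * n ∧ k + Module.finrank F (fixedSp x) = Module.finrank F V ∧ Core F N k := by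
  have h2 := two_ne_zero_of_odd_card hF
  have hxN : x ^ N = 1 := hN ▸ pow_orderOf_eq_one x
  obtain ⟨k, ι, f, B, hι, hr, hdimk, hf, hfn, hB, hBn, hg⟩ := exists_core_data h2 hk hnd hxN hN0 hodd hx
  obtain ⟨x', hxf, hxB, hx'⟩ := hg x hx (Commute.refl x)
  have hord : orderOf x' = N := by
    refine Nat.dvd_antisymm (orderOf_dvd_of_pow_eq_one (LinearEquiv.ext fun v => hι ?_)) ?_
    · rw [restrict_pow hx', hxN]; rfl
    · rw [← hN]
      refine orderOf_dvd_of_pow_eq_one (eq_one_of_parts (isCompl_fixed_moved hxN hN0) (fun v hv => ?_) fun v hv => ?_)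
      · exact pow_fix (mem_fixedSp.1 hv) _
      · obtain ⟨w, rfl⟩ := hr.symm ▸ hv
        rw [← restrict_pow hx', pow_orderOf_eq_one]; rfl
  have hcore : Core F N k := ⟨f, B, x', hf, hfn, hB, hBn, hxf, hxB, hord⟩
  refine ⟨k, ?_, hdimk, hcore⟩
  obtain ⟨d, hd⟩ := core_even hF hcore
  omega

/-- An element whose order is a semisimple prime times the characteristic. -/
theorem core_of_mixed (hF : Odd (Fintype.card F)) {p : ℕ} [Fact p.Prime] [CharP F p] {n : ℕ}
    (hdim : Module.finrank F V ≤ 2 * n + 1) {f₀ : LinearMap.BilinForm F V} (hk : FormKind f₀)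
    (hnd : f₀.Nondegenerate) {x : V ≃ₗ[F] V} (hx : x ∈ bIso f₀) {r : ℕ} (hr : r.Prime) (hr2 : r ≠ 2) (hrp : r ≠ p)
    (hN : orderOf x = r * p) :
    (∃ k, k ≤ 2 * n ∧ Core F (r * p) k) ∨ ∃ k, k + 2 ≤ 2 * n ∧ Core F r k := by
  have h2 := two_ne_zero_of_odd_card hF
  have hpp : p.Prime := Fact.out
  have hr0 : (r : F) ≠ 0 := by
    rw [Ne, CharP.cast_eq_zero_iff F p]
    exact fun e => hrp ((Nat.prime_dvd_prime_iff_eq hpp hr).1 e).symm
  set s := x ^ p with hs
  have hso : orderOf s = r := by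
    rw [hs, orderOf_pow' _ hpp.ne_zero, hN, Nat.gcd_mul_left_left, Nat.mul_div_cancel _ hpp.pos]
  have hsr : s ^ r = 1 := hso ▸ pow_orderOf_eq_one s
  have hxs : Commute x s := (Commute.refl x).pow_right p
  have hsf : s ∈ bIso f₀ := pow_mem hx p
  obtain ⟨k, ι, f, B, hι, hrange, hdimk, hf, hfn, hB, hBn, hg⟩ :=
    exists_core_data h2 hk hnd hsr hr0 (hr.odd_of_ne_two hr2) hsf
  obtain ⟨x', hxf, hxB, hx'⟩ := hg x hx hxs
  have hc := isCompl_fixed_moved hsr hr0
  have heven : Even k := core_even hF ⟨f, B, x', hf, hfn, hB, hBn, hxf, hxB, rfl⟩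
  have hxp : x' ^ p ≠ 1 := fun e => hr.ne_one (by
    have h1 : s = 1 := eq_one_of_parts hc (fun v hv => mem_fixedSp.1 hv) fun v hv => by
      obtain ⟨w, rfl⟩ := hrange.symm ▸ hv
      rw [hs, ← restrict_pow hx', e]; rfl
    rwa [h1, orderOf_one, eq_comm] at hso)
  by_cases hu : x' ^ r = 1
  · right
    refine ⟨k, ?_, f, B, x', hf, hfn, hB, hBn, hxf, hxB, ?_⟩
    · have hfix : 2 ≤ Module.finrank F (fixedSp s) := by
        by_contra hlt
        set u := x ^ r with hudef
        have hup : u ^ p = 1 := by rw [hudef, ← pow_mul, ← hN, pow_orderOf_eq_one]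
        have hu1 : u ≠ 1 := fun e => hpp.ne_one (by
          have := orderOf_dvd_of_pow_eq_one e
          rw [hN] at this
          exact Nat.eq_one_of_dvd_one ((Nat.mul_dvd_mul_iff_left hr.pos).1 (by rwa [mul_one])))
        refine hu1 (eq_one_of_parts hc ?_ fun v hv => ?_)
        · have hus : Commute u s := hxs.pow_left r
          intro v hv
          by_cases hv0 : v = 0
          · rw [hv0, map_zero]
          obtain ⟨a, ha⟩ : ∃ a : F, a • (⟨v, hv⟩ : fixedSp s) = ⟨u v, commute_map_fixed hus hv⟩ :=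
            exists_smul_eq_of_finrank_eq_one (by
              have : 0 < Module.finrank F (fixedSp s) := Module.finrank_pos_iff_exists_ne_zero.2
                ⟨⟨v, hv⟩, fun e => hv0 (congrArg Subtype.val e)⟩
              omega) (fun e => hv0 (congrArg Subtype.val e)) _
          have ha' : u v = a • v := (congrArg Subtype.val ha).symm
          have hpw : ∀ i, (u ^ i) v = a ^ i • v := fun i => by
            induction i with
            | zero => simp
            | succ i ih =>
              rw [pow_succ']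
              show u ((u ^ i) v) = _
              rw [ih, map_smul, ha', smul_smul, pow_succ]
          have h1 := hpw p
          rw [hup] at h1
          have h1' : (1 : F) • v = a ^ p • v := by rw [one_smul]; exact h1
          have hap := smul_left_injective F hv0 h1'
          have : (a - 1) ^ p = 0 := by rw [sub_pow_char, one_pow, ← hap, sub_self]
          rw [ha', sub_eq_zero.1 (eq_zero_of_pow_eq_zero this), one_smul]
        · obtain ⟨w, rfl⟩ := hrange.symm ▸ hv
          rw [hudef, ← restrict_pow hx', hu]; rfl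
      obtain ⟨d, hd⟩ := heven
      omega
    · haveI : Fact r.Prime := ⟨hr⟩
      exact orderOf_eq_prime hu fun e => hxp (by rw [e, one_pow])
  · left
    refine ⟨k, ?_, f, B, x', hf, hfn, hB, hBn, hxf, hxB, ?_⟩
    · obtain ⟨d, hd⟩ := heven
      omega
    · have hdvd : orderOf x' ∣ r * p := orderOf_dvd_of_pow_eq_one (LinearEquiv.ext fun v => hι (by
        rw [restrict_pow hx', ← hN, pow_orderOf_eq_one]; rfl))
      obtain ⟨d₁, d₂, h₁, h₂, hd⟩ := (Nat.dvd_mul).1 hdvd
      rcases (Nat.dvd_prime hr).1 h₁ with rfl | rfl <;> rcases (Nat.dvd_prime hpp).1 h₂ with rfl | rfl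
      · exact absurd (orderOf_eq_one_iff.1 hd.symm) (fun e => hu (by rw [e, one_pow]))
      · exact absurd (orderOf_dvd_iff_pow_eq_one.1 (by rw [← hd, one_mul])) hxp
      · exact absurd (orderOf_dvd_iff_pow_eq_one.1 (by rw [← hd, mul_one])) hu
      · exact hd.symm

end H44
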