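import Cfsg.Agent.H44.BCTwo

/-!
`PΩ_{2n+1}(q)` and `PSp_{2n}(q)` have the same prime graph for `q` odd.
-/

set_option autoImplicit false

namespace H44

open H43 Matrix

variable {F : Type*} [Field F] [Fintype F] {n : ℕ}

/-- The cases with both primes odd: the element orders are carried by the paired isometry groups. -/
theorem both_of_odd_pair (p : ℕ) [Fact p.Prime] [CharP F p] (hodd : Odd (Fintype.card F)) (hn : 1 ≤ n) {r s : ℕ} (hr : r.Prime) (hs : s.Prime)
    (hrs : r ≠ s) (hr2 : r ≠ 2) (hs2 : s ≠ 2) {V : Type*} [AddCommGroup V] [Module F V] [FiniteDimensional F V]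
    (hdim : Module.finrank F V ≤ 2 * n + 1) {f₀ : LinearMap.BilinForm F V} (hk : FormKind f₀)
    (hnd : f₀.Nondegenerate) {x : V ≃ₗ[F] V} (hx : x ∈ bIso f₀) (hN : orderOf x = r * s) :
    OOrd F n (r * s) ∧ SOrd F n (r * s) := by
  have mixed : ∀ {a : ℕ}, a.Prime → a ≠ 2 → a ≠ p → orderOf x = a * p → OOrd F n (a * p) ∧ SOrd F n (a * p) :=
    fun {a} ha ha2 hap he => by
      have hp2 : p ≠ 2 := by
        rintro rfl
        exact two_ne_zero_of_odd_card hodd CharTwo.two_eq_zero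
      rcases core_of_mixed hodd hdim hk hnd hx ha ha2 hap he with ⟨k, hk', hc⟩ | ⟨k, hk', hc⟩
      · exact core_both hodd hn hk' ((ha.odd_of_ne_two ha2).mul ((Fact.out : p.Prime).odd_of_ne_two hp2)) hc
      · exact (core_room hodd hk' ha ha2 hap hc).1
  by_cases hsp : s = p
  · rw [hsp] at hN hrs ⊢
    exact mixed hr hr2 hrs hN
  by_cases hrp : r = p
  · rw [hrp, mul_comm] at hN ⊢
    exact mixed hs hs2 hsp hN
  · have hN0 : ((r * s : ℕ) : F) ≠ 0 := by
      rw [Nat.cast_mul]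
      exact mul_ne_zero (natCast_ne_zero_of_prime hr hrp) (natCast_ne_zero_of_prime hs hsp)
    have ho : Odd (r * s) := (hr.odd_of_ne_two hr2).mul (hs.odd_of_ne_two hs2)
    obtain ⟨k, hk', -, hc⟩ := core_of_semisimple (n := n) hodd hdim hk hnd hx hN hN0 ho
    exact core_both hodd hn hk' ho hc

theorem oord_iff_sord (p : ℕ) [Fact p.Prime] [CharP F p] (hodd : Odd (Fintype.card F)) (hn : 2 ≤ n) {r s : ℕ} (hr : r.Prime) (hs : s.Prime)
    (hrs : r ≠ s) : OOrd F n (r * s) ↔ SOrd F n (r * s) := by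
  have h2 := two_ne_zero_of_odd_card hodd
  have hn1 : 1 ≤ n := by omega
  have htwo : ∀ {a : ℕ}, a.Prime → a ≠ 2 → (OOrd F n (2 * a) ↔ SOrd F n (2 * a)) := fun {a} ha ha2 => by
    by_cases hap : a = p
    · rw [hap]
      exact iff_of_true (both_two_p hodd hn).1 (both_two_p hodd hn).2
    constructor <;> intro h
    · rcases sord_of_oord_two hodd hn1 ha ha2 hap h with ⟨k, hk, hc⟩ | h'
      · exact (core_room hodd hk ha ha2 hap hc).2.2
      · exact h'
    · rcases oord_of_sord_two hodd hn1 ha ha2 hap h with ⟨k, hk, hc⟩ | h'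
      · exact (core_room hodd hk ha ha2 hap hc).2.1
      · exact h'
  by_cases hr2 : r = 2
  · subst hr2
    exact htwo hs (Ne.symm hrs)
  by_cases hs2 : s = 2
  · subst hs2
    rw [mul_comm]
    exact htwo hr hrs
  constructor
  · rintro ⟨x, -, hx⟩
    exact (both_of_odd_pair p hodd hn1 hr hs hrs hr2 hs2 (finrank_qOdd (F := F) n).le (polB_formKind _)
      (qOdd_nondeg h2 n) (orth_mem_bIso x) (by rw [Subgroup.orderOf_coe, hx])).2
  · rintro ⟨x, hx⟩
    obtain ⟨g, -, hg⟩ := H49.exists_lift_odd hn1 x (hx.symm ▸ (hr.odd_of_ne_two hr2).mul (hs.odd_of_ne_two hs2))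
    exact (both_of_odd_pair p hodd hn1 hr hs hrs hr2 hs2
      (show Module.finrank F (Fin n ⊕ Fin n → F) ≤ 2 * n + 1 by
        rw [Module.finrank_pi, Fintype.card_sum, Fintype.card_fin]; omega)
      (sf_formKind n) (sf_nondegenerate n) (spLin_mem g)
      (by rw [orderOf_injective _ (spLin_injective n), hg, hx])).1

/-- The prime graphs of `PΩ_{2n+1}(q)` and `PSp_{2n}(q)` coincide. -/
theorem prime_graph_BC {K : Type*} [Field K] [Fintype K] (hodd : Odd (Fintype.card K)) {m : ℕ} (hm : 2 ≤ m)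
    {r s : ℕ} (hr : r.Prime) (hs : s.Prime) (hrs : r ≠ s) :
    (r * s ∈ Set.range (orderOf : Cfsg.POmega K (Cfsg.quadFormOdd m K) → ℕ)) ↔
      (r * s ∈ Set.range (orderOf : Cfsg.PSp m K → ℕ)) := by
  obtain ⟨q, hq⟩ := CharP.exists K
  haveI : Fact q.Prime := ⟨CharP.char_is_prime K q⟩
  exact (pomega_orders (two_ne_zero_of_odd_card hodd) hm _ (coe_qOdd m K) (r * s)).trans
    (oord_iff_sord q hodd hm hr hs hrs)

end H44
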