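import Cfsg.Agent.H44.OutPO
import Cfsg.Agent.H44.SimInv
import Cfsg.Agent.H44.SmallQuot
import Cfsg.Agent.H44.SimSplit

/-!
`Out(Ω_{2m+1}(q))` for odd `q`.
-/

set_option autoImplicit false

namespace H44

open H43 Matrix

variable {F : Type*} [Field F] [Finite F]

section Odd

variable {ι : Type} [Fintype ι] [DecidableEq ι] {Q : QuadraticForm F (ι → F)}

omit [Fintype ι] [DecidableEq ι] [Finite F] in
theorem spinor_mul_gen' [FiniteDimensional F (ι → F)] (hQ : (polB Q).Nondegenerate) (hgen : ReflGenerates F (ι → F))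
    (x y : orthGroup Q) : spinor (x * y) = spinor x * spinor y :=
  congrArg Prod.snd (map_mul (invHom hQ hgen) x y)

theorem exists_rotation_scalar (h2 : (2 : F) ≠ 0) (hQ : (polB Q).Nondegenerate) (hodd : Odd (Fintype.card ι))
    (g : simG Q) : ∃ c x, detHom Q x = 1 ∧ g = scalarHom Q c * orthSim Q x := by
  obtain ⟨μ, hμ⟩ := g.2
  have h1 := gram_det_comp ((μ : F) • Q) Q (Matrix.toLin' (g.1 : Matrix ι ι F))
    (fun v => by rw [Matrix.toLin'_apply, hμ]; simp)
  rw [gram_smul, Matrix.det_smul, toLin'_det] at h1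
  have e2 := mul_right_cancel₀ (H43.gram_det_ne_zero hQ) h1
  have hg0 : (g.1 : Matrix ι ι F).det ≠ 0 := fun e => by
    rw [e, mul_zero] at e2; exact pow_ne_zero _ μ.ne_zero e2
  have hsq : sqMk μ = 1 := by
    rw [← sqMk_pow_odd hodd (sqMk μ), ← map_pow, sqMk_eq_one_iff]
    exact ⟨Units.mk0 _ hg0, Units.ext (by simp [e2, pow_two])⟩
  obtain ⟨r, hr⟩ := (sqMk_eq_one_iff μ).1 hsq
  let a : simG Q := (scalarHom Q r)⁻¹ * g
  have ha : a.1 ∈ Cfsg.isometryGroup F ⇑Q := by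
    rw [mem_isometry]
    intro v
    show Q ((((scalarHom Q r)⁻¹ * g).1 : Matrix ι ι F) *ᵥ v) = Q v
    rw [← map_inv, Subgroup.coe_mul, Units.val_mul, ← mulVec_mulVec, scalarHom_mulVec, qmap_smul, hμ, ← hr,
      Units.val_pow_eq_pow_val, Units.val_inv_eq_inv_val]
    field_simp
  let y : orthGroup Q := toOrth Q ⟨a.1, ha⟩
  have hy : orthSim Q y = a := simG_ext fun v => by rw [orthSim_mulVec, toOrth_apply]
  have hg : g = scalarHom Q r * orthSim Q y := by rw [hy, mul_inv_cancel_left]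
  rcases detHom_cases hQ y with hd | hd
  · exact ⟨r, y, hd, hg⟩
  · refine ⟨-r, negOrth Q * y, ?_, hg.trans (simG_ext fun v => ?_)⟩
    · rw [map_mul, hd, detHom_negOrth, Module.finrank_fintype_fun_eq_card, hodd.neg_one_pow, neg_mul_neg, one_mul]
    · rw [Subgroup.coe_mul, Subgroup.coe_mul, Units.val_mul, Units.val_mul, ← mulVec_mulVec, ← mulVec_mulVec,
        scalarHom_mulVec, scalarHom_mulVec, orthSim_mulVec, orthSim_mulVec, orth_mul_apply, negOrth_apply,
        Units.val_neg, neg_smul, smul_neg, neg_neg]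

theorem rotation_mem_inn_odd (h2 : (2 : F) ≠ 0) (hQ : (polB Q).Nondegenerate) (h5 : 5 ≤ Fintype.card ι)
    (hodd : Odd (Fintype.card ι)) {x : orthGroup Q} (hx : detHom Q x = 1) :
    simAut Q (orthSim Q x) ∈ Cfsg.Inn (Cfsg.POmega F ⇑Q) ↔ spinor x = 1 := by
  have hd : 2 ≤ Module.finrank F (ι → F) := by simp; omega
  rw [inn_eq, simAut_mem_map_iff hQ h5]
  constructor
  · rintro ⟨c, k, ⟨s, rfl⟩, e⟩
    set y := toOrth Q s.1
    obtain ⟨hy, hys⟩ := (mem_commutator_iff_odd hQ h2 hd _).1 ((mem_Omega_iff s.1).1 s.2)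
    have hs : omegaSim Q s = orthSim Q y := simG_ext fun v => by rw [orthSim_mulVec, toOrth_apply, coe_omegaSim]
    have he : ∀ v, x.1 v = (c : F) • y.1 v := fun v => by
      have := congrArg (fun z : simG Q => (z.1 : Matrix ι ι F) *ᵥ v) e
      simpa [hs, Subgroup.coe_mul, Units.val_mul, ← mulVec_mulVec, scalarHom_mulVec, orthSim_mulVec] using this
    obtain ⟨v, hv, -⟩ : ∃ v : ι → F, Q v ≠ 0 ∧ True := by
      obtain ⟨v, hv⟩ := exists_qmap_eq hQ hd 1 one_ne_zero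
      exact ⟨v, by rw [hv]; exact one_ne_zero, trivial⟩
    have hc : (c : F) * c = 1 := by
      have := orth_qmap x v
      rw [he, qmap_smul, orth_qmap] at this
      exact mul_right_cancel₀ hv (this.trans (one_mul _).symm)
    rcases mul_self_eq_one_iff.1 hc with e1 | e1
    · rw [show x = y from orth_ext fun v => by rw [he, e1, one_smul]]; exact hys
    · exfalso
      have e2 : x = negOrth Q * y := orth_ext fun v => by rw [he, e1, orth_mul_apply, negOrth_apply, neg_one_smul]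
      rw [e2, map_mul, hy, mul_one, detHom_negOrth, Module.finrank_fintype_fun_eq_card, hodd.neg_one_pow] at hx
      have e3 := congrArg Units.val hx
      rw [Units.val_neg, Units.val_one] at e3
      exact h2 (by linear_combination -e3)
  · intro hs
    refine ⟨1, orthSim Q x, ⟨⟨(toOrth Q).symm x, ?_⟩, rfl⟩, by rw [map_one, one_mul]⟩
    rw [mem_Omega_iff, MulEquiv.apply_symm_apply, mem_commutator_iff_odd hQ h2 hd]
    exact ⟨hx, hs⟩

theorem quot_range_odd (h2 : (2 : F) ≠ 0) (hQ : (polB Q).Nondegenerate) (h5 : 5 ≤ Fintype.card ι)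
    (hodd : Odd (Fintype.card ι)) :
    ∃ φ : (simAut Q).range →* Multiplicative (ZMod 2), Function.Surjective φ ∧
      φ.ker = (Cfsg.Inn (Cfsg.POmega F ⇑Q)).subgroupOf (simAut Q).range := by
  have hgen : ReflGenerates F (ι → F) := reflGenerates_of_two_ne_zero h2
  let σ : (detHom Q).ker →* SqClass F :=
    MonoidHom.mk' (fun x => spinor x.1) fun x y => spinor_mul_gen' hQ hgen x.1 y.1
  obtain ⟨α, hα, hne, -⟩ := exists_sqc_cases F
  obtain ⟨β, hβ⟩ := exists_bit σ (sqClass_mul_self (sqMk (Units.mk0 α hα)))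
    (fun x => sqMk_dich _ (by rw [← sqc_of_ne_zero hα]; exact hne h2))
  have hd : 2 ≤ Module.finrank F (ι → F) := by simp; omega
  obtain ⟨u, hu⟩ := exists_qmap_eq hQ hd 1 one_ne_zero
  obtain ⟨w, hw⟩ := exists_qmap_eq hQ hd α hα
  have hu0 : Q u ≠ 0 := by rw [hu]; exact one_ne_zero
  have hw0 : Q w ≠ 0 := by rw [hw]; exact hα
  refine exists_descend (((simAut Q).comp (orthSim Q)).comp (detHom Q).ker.subtype) ?_ β ?_ fun x => ?_
  · apply le_antisymm
    · rintro _ ⟨g, rfl⟩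
      obtain ⟨c, x, hx, rfl⟩ := exists_rotation_scalar h2 hQ hodd g
      exact ⟨⟨x, hx⟩, by rw [map_mul, scalarHom_mem_ker, one_mul]; rfl⟩
    · rintro _ ⟨x, rfl⟩
      exact ⟨_, rfl⟩
  · intro t
    have cs : ∀ a : Multiplicative (ZMod 2), a = 1 ∨ a = Multiplicative.ofAdd 1 := by decide
    rcases cs t with rfl | rfl
    · exact ⟨1, map_one β⟩
    · refine ⟨⟨refl Q u * refl Q w, by rw [MonoidHom.mem_ker, map_mul, detHom_refl hu0, detHom_refl hw0,
        neg_mul_neg, one_mul]⟩, (cs _).resolve_left fun e => hne h2 ?_⟩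
      have := (hβ _).1 e
      change spinor (refl Q u * refl Q w) = 1 at this
      rwa [spinor_mul_gen' hQ hgen, spinor_refl hQ hu0, spinor_refl hQ hw0, hu, hw, sqc_one, one_mul] at this
  · rw [hβ]
    exact (rotation_mem_inn_odd h2 hQ h5 hodd x.2).symm

end Odd

omit [Finite F] in
theorem fixedFrame_qOdd {m : ℕ} (hm : 2 ≤ m) : FixedFrame (qOdd m F) := by
  classical
  let i₀ : Fin m := ⟨0, by omega⟩
  let i₁ : Fin m := ⟨1, by omega⟩
  have hne : i₀ ≠ i₁ := by simp [i₀, i₁]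
  have hfix : ∀ (s : Unit ⊕ (Fin m ⊕ Fin m)) (τ : F ≃+* F),
      (fun i => τ ((Pi.single s 1 : _ → F) i)) = Pi.single s 1 := fun s τ => funext fun i => by
    by_cases hi : i = s <;> simp [hi]
  have hQ : ∀ s : Fin m ⊕ Fin m, (qOdd m F) (Pi.single (Sum.inr s) 1) = 0 := fun s => by
    rcases s with i | i <;> simp [coe_qOdd, Cfsg.quadFormOdd, Pi.single_apply]
  exact ⟨Pi.single (Sum.inr (Sum.inl i₀)) 1, Pi.single (Sum.inr (Sum.inl i₁)) 1,
    Pi.single (Sum.inr (Sum.inr i₀)) 1, hQ _, hQ _, by simp [polB_qOdd, Pi.single_apply],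
    by simp [polB_qOdd, Pi.single_apply], by simp [polB_qOdd, Pi.single_apply, hne, Ne.symm hne], by simp,
    hfix _, hfix _⟩

set_option maxHeartbeats 2000000 in
theorem out_qOdd {m : ℕ} (hm : 3 ≤ m) [Fintype F] {p f : ℕ} [Fact p.Prime] (hF : Fintype.card F = p ^ f)
    (hp : p ≠ 2) (Φ : (Unit ⊕ (Fin m ⊕ Fin m) → F) → F) (hΦ : ⇑(qOdd m F) = Φ) :
    Nonempty (Cfsg.Out (Cfsg.POmega F Φ) ≃* Multiplicative (ZMod 2 × ZMod f)) := by
  subst hΦ
  have h2 : (2 : F) ≠ 0 := two_ne_zero_of_odd_card (by rw [hF]; exact ((Fact.out : p.Prime).odd_of_ne_two hp).pow)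
  have hQ := qOdd_nondeg (F := F) h2 m
  have hc : Fintype.card (Unit ⊕ (Fin m ⊕ Fin m)) = 2 * m + 1 := by simp; ring
  have h5 : 5 ≤ Fintype.card (Unit ⊕ (Fin m ⊕ Fin m)) := by omega
  have hodd : Odd (Fintype.card (Unit ⊕ (Fin m ⊕ Fin m))) := ⟨m, hc⟩
  obtain ⟨θ, hker, hθ⟩ := exists_theta (H43.AutPO.good_qOdd hm h2) hQ h5 (fixedFrame_qOdd (by omega))
  obtain ⟨s, hs⟩ := exists_fieldSection (Q := qOdd m F) fun σ v => by
    simp [coe_qOdd, Cfsg.quadFormOdd, map_add, map_sum, map_mul, map_pow]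
  obtain ⟨φ₀, hφ₀, hk₀⟩ := quot_range_odd h2 hQ h5 hodd
  let e := MulEquiv.subgroupCongr hker
  have hN : Cfsg.Inn (Cfsg.POmega F ⇑(qOdd m F)) ≤ θ.ker := by
    rw [hker, inn_eq]
    rintro _ ⟨g, -, rfl⟩
    exact ⟨g, rfl⟩
  have hφ1 : ∀ a, φ₀.comp e.toMonoidHom a = 1 ↔ (a : MulAut _) ∈ Cfsg.Inn (Cfsg.POmega F ⇑(qOdd m F)) := fun a => by
    rw [MonoidHom.comp_apply, ← MonoidHom.mem_ker, hk₀, Subgroup.mem_subgroupOf]; rfl
  have hnorm : (Cfsg.Inn (Cfsg.POmega F ⇑(qOdd m F))).Normal := inn_normal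
  obtain ⟨E⟩ := nonempty_quot_equiv θ s (fun σ => hθ _ _ _ (hs σ).1 (hs σ).2) _ hN (φ₀.comp e.toMonoidHom)
    (hφ₀.comp e.surjective) (Subgroup.ext fun a => by rw [MonoidHom.mem_ker, hφ1, Subgroup.mem_subgroupOf])
    fun c a a' ha => by
      have cs : ∀ x y : Multiplicative (ZMod 2), (x = 1 ↔ y = 1) → x = y := by decide
      refine cs _ _ ?_
      rw [hφ1, hφ1, ha]
      exact ⟨fun h => by simpa [mul_assoc] using hnorm.conj_mem _ h (s c)⁻¹, fun h => hnorm.conj_mem _ h _⟩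
  obtain ⟨G⟩ := exists_gal_equiv hF
  exact ⟨E.trans ((MulEquiv.prodCongr (MulEquiv.refl _) G).trans (MulEquiv.prodMultiplicative _ _).symm)⟩

end H44
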