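import Cfsg.Agent.H44.PairedForms
import Cfsg.Agent.H55.SimClassify
import Cfsg.Agent.H49.PrimeGraphPSp
import Cfsg.Agent.H44.OutPOdd

/-!
Placing an isometry group of a small alternating or symmetric form inside `Sp_{2n}` and `O_{2n+1}`.
-/

set_option autoImplicit false

namespace H44

open H43 Matrix

variable {F : Type*} [Field F]

theorem bilin_toMatrix' {k : ℕ} (f : LinearMap.BilinForm F (Fin k → F)) (x y : Fin k → F) :
    f x y = x ⬝ᵥ LinearMap.BilinForm.toMatrix' f *ᵥ y := by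
  conv_lhs => rw [← Matrix.toBilin'_toMatrix' f]
  exact Matrix.toBilin'_apply' _ _ _

theorem det_toMatrix'_ne_zero {k : ℕ} (f : LinearMap.BilinForm F (Fin k → F)) (hf : f.Nondegenerate) :
    (LinearMap.BilinForm.toMatrix' f).det ≠ 0 := by
  have h := (LinearMap.BilinForm.nondegenerate_iff_det_ne_zero (Pi.basisFun F (Fin k))).mp hf
  convert h using 2
  ext i j
  rw [LinearMap.BilinForm.toMatrix'_apply, LinearMap.BilinForm.toMatrix_apply]
  simp

/-- Coordinates from a congruence. -/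
theorem exists_equiv_of_congr {ι κ : Type} [Fintype ι] [DecidableEq ι] [Fintype κ] [DecidableEq κ]
    {S : Matrix ι ι F} {M : Matrix κ κ F} (h : H55.Congr S M) :
    ∃ (e : (ι → F) ≃ₗ[F] (κ → F)) (c : F), c ≠ 0 ∧ ∀ x y, e x ⬝ᵥ M *ᵥ e y = c * (x ⬝ᵥ S *ᵥ y) := by
  obtain ⟨P, P', c, hc, h1, h2, rfl⟩ := h
  let e : (ι → F) ≃ₗ[F] (κ → F) :=
    LinearEquiv.ofLinearMap (Matrix.toLin' P'ᵀ) (Matrix.toLin' Pᵀ)
      (by rw [← Matrix.toLin'_mul, ← transpose_mul, h1, transpose_one, Matrix.toLin'_one])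
      (by rw [← Matrix.toLin'_mul, ← transpose_mul, h2, transpose_one, Matrix.toLin'_one])
  refine ⟨e, c, hc, fun x y => ?_⟩
  show (P'ᵀ *ᵥ x) ⬝ᵥ (c • (P * S * Pᵀ)) *ᵥ (P'ᵀ *ᵥ y) = _
  rw [smul_mulVec, dotProduct_smul, smul_eq_mul, ← mulVec_mulVec, ← mulVec_mulVec, mulVec_mulVec y Pᵀ,
    ← transpose_mul, h2, transpose_one, one_mulVec, dotProduct_mulVec _ P, ← mulVec_transpose,
    mulVec_mulVec, ← transpose_mul, h2, transpose_one, one_mulVec]

theorem alt_skew {k : ℕ} {f : LinearMap.BilinForm F (Fin k → F)} (hf : f.IsAlt) :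
    (LinearMap.BilinForm.toMatrix' f)ᵀ = -LinearMap.BilinForm.toMatrix' f := by
  ext i j
  rw [transpose_apply, neg_apply, LinearMap.BilinForm.toMatrix'_apply, LinearMap.BilinForm.toMatrix'_apply,
    hf.neg_eq]

variable [Fintype F]

/-- Isometries of a non-degenerate alternating form inside the symplectic group. -/
theorem exists_spHom (hodd : Odd (Fintype.card F)) {k : ℕ} {f : LinearMap.BilinForm F (Fin k → F)}
    (hf : f.IsAlt) (hnd : f.Nondegenerate) :
    ∃ (d : ℕ) (Φ : bIso f →* Matrix.symplecticGroup (Fin d) F), k = 2 * d ∧ Function.Injective Φ ∧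
      ∀ g : bIso f, (∀ x, g.1 x = -x) → Φ g = H49.spNegOne (Fin d) F := by
  classical
  have h2 := two_ne_zero_of_odd_card hodd
  have hA := alt_skew hf
  have hA0 := det_toMatrix'_ne_zero f hnd
  obtain ⟨d, hd⟩ := H55.even_card_of_skew h2 hA hA0
  rw [Fintype.card_fin, ← two_mul] at hd
  obtain ⟨e, c, hc, he⟩ := exists_equiv_of_congr (H55.congr_J_of_skew hodd hA hA0 (m := d) (by simpa using hd))
  have hes : ∀ x y, H48.sf (e x) (e y) = c * f x y := fun x y => by rw [H48.sf_def, he, bilin_toMatrix']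
  have hmem : ∀ g : bIso f, LinearMap.toMatrix' ((e.symm.trans g.1).trans e).toLinearMap ∈
      Matrix.symplecticGroup (Fin d) F := fun g => by
    rw [H48.mem_symplectic_iff]
    intro u v
    rw [LinearMap.toMatrix'_mulVec, LinearMap.toMatrix'_mulVec]
    show H48.sf (e (g.1 (e.symm u))) (e (g.1 (e.symm v))) = _
    rw [hes, mem_bIso.1 g.2, ← hes, LinearEquiv.apply_symm_apply, LinearEquiv.apply_symm_apply]
  let Φ : bIso f →* Matrix.symplecticGroup (Fin d) F :=
    MonoidHom.mk' (fun g => ⟨_, hmem g⟩) fun a b => Subtype.ext (by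
      show LinearMap.toMatrix' ((e.symm.trans (a.1 * b.1)).trans e).toLinearMap =
        LinearMap.toMatrix' ((e.symm.trans a.1).trans e).toLinearMap *
          LinearMap.toMatrix' ((e.symm.trans b.1).trans e).toLinearMap
      rw [← LinearMap.toMatrix'_comp]
      congr 1
      exact LinearMap.ext fun x => by simp)
  have happ : ∀ g v, (Φ g : Matrix _ _ F) *ᵥ v = e (g.1 (e.symm v)) := fun g v =>
    LinearMap.toMatrix'_mulVec _ _
  refine ⟨d, Φ, hd, fun a b h => Subtype.ext (LinearEquiv.ext fun x => e.injective ?_), fun g hg => ?_⟩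
  · have := congrArg (fun z : Matrix.symplecticGroup (Fin d) F => (z : Matrix (Fin d ⊕ Fin d) (Fin d ⊕ Fin d) F) *ᵥ e x) h
    simpa [happ] using this
  · refine H48.sp_ext fun v => ?_
    show (Φ g : Matrix (Fin d ⊕ Fin d) (Fin d ⊕ Fin d) F) *ᵥ v = _
    rw [happ, hg, map_neg, LinearEquiv.apply_symm_apply, H49.spNegOne_smul]

omit [Fintype F] in
theorem spBlock_negOne {l l₁ l₂ : Type} [Fintype l] [DecidableEq l] [Fintype l₁] [DecidableEq l₁] [Fintype l₂]
    [DecidableEq l₂] (e : l ≃ l₁ ⊕ l₂) :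
    H49.spBlock e (H49.spNegOne l₁ F, H49.spNegOne l₂ F) = H49.spNegOne l F := by
  refine H48.sp_ext fun v => ?_
  obtain ⟨⟨a, b⟩, rfl⟩ := (H49.blockEquiv e).surjective v
  rw [H49.spBlock_smul, H49.spNegOne_smul, H49.spNegOne_smul, H49.spNegOne_smul, ← map_neg]
  rfl

omit [Fintype F] in
theorem spNegOne_ne_one {l : Type} [Fintype l] [DecidableEq l] [Nonempty l] (h2 : (2 : F) ≠ 0) :
    H49.spNegOne l F ≠ 1 := by
  intro e
  obtain ⟨i⟩ := (inferInstance : Nonempty l)
  have := congrArg (fun z : Matrix.symplecticGroup l F => (z : Matrix (l ⊕ l) (l ⊕ l) F) (Sum.inl i) (Sum.inl i)) e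
  simp [H49.spNegOne] at this
  exact h2 (by linear_combination -this)

/-- An isometry group of a symmetric form inside `O_{2n+1}` with a fixed complement. -/
theorem exists_orthHom (hodd : Odd (Fintype.card F)) {n k : ℕ} (hk : k ≤ 2 * n)
    {B : LinearMap.BilinForm F (Fin k → F)} (hB : ∀ x y, B x y = B y x) (hnd : B.Nondegenerate) :
    ∃ (Φ : bIso B →* orthGroup (qOdd n F)) (a : Fin (2 * n + 1 - k) → (Unit ⊕ (Fin n ⊕ Fin n) → F)) (c : F),
      Function.Injective Φ ∧ c ≠ 0 ∧ (∀ i, qOdd n F (a i) = c) ∧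
      (∀ i j, i ≠ j → polB (qOdd n F) (a i) (a j) = 0) ∧ ∀ g i, (Φ g).1 (a i) = a i := by
  classical
  have h2 := two_ne_zero_of_odd_card hodd
  set r := 2 * n + 1 - k
  let S : Matrix (Fin k ⊕ Fin r) (Fin k ⊕ Fin r) F :=
    Matrix.fromBlocks (LinearMap.BilinForm.toMatrix' B) 0 0 1
  have hSs : Sᵀ = S := by
    have hBs : (LinearMap.BilinForm.toMatrix' B)ᵀ = LinearMap.BilinForm.toMatrix' B := by
      ext i j
      rw [transpose_apply, LinearMap.BilinForm.toMatrix'_apply, LinearMap.BilinForm.toMatrix'_apply, hB]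
    simp [S, fromBlocks_transpose, hBs]
  have hS0 : S.det ≠ 0 := by
    simp only [S, det_fromBlocks_zero₁₂, det_one, mul_one]
    exact det_toMatrix'_ne_zero B hnd
  have hG0 : (H55.gOdd n F).det ≠ 0 := by
    rw [H55.det_gOdd]; exact mul_ne_zero h2 (pow_ne_zero _ (by norm_num))
  obtain ⟨e, c, hc, he⟩ := exists_equiv_of_congr (H55.congr_of_odd hodd hSs (H55.gOdd_symm n) hS0 hG0
    (by simp [r]; omega) (by simp [r]; exact ⟨n, by omega⟩))
  have hpolB : ∀ u v, polB (qOdd n F) u v = u ⬝ᵥ H55.gOdd n F *ᵥ v := fun u v => by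
    rw [polB_qOdd]
    simp only [H55.gOdd, H55.gPlus, fromBlocks_mulVec, dotProduct, Fintype.sum_sum_type, Sum.elim_inl,
      Sum.elim_inr, zero_mulVec, one_mulVec, zero_add, add_zero, Function.comp_apply, smul_mulVec, Pi.smul_apply,
      smul_eq_mul, Fintype.sum_unique, Pi.add_apply, Pi.zero_apply]
    rw [PUnit.default_eq_unit, Finset.sum_add_distrib]
    ring
  have hsplit : ∀ x y : Fin k ⊕ Fin r → F,
      x ⬝ᵥ S *ᵥ y = B (x ∘ Sum.inl) (y ∘ Sum.inl) + (x ∘ Sum.inr) ⬝ᵥ (y ∘ Sum.inr) := fun x y => by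
    rw [bilin_toMatrix']
    simp only [S, fromBlocks_mulVec, dotProduct, Fintype.sum_sum_type, Sum.elim_inl, Sum.elim_inr, zero_mulVec,
      one_mulVec, add_zero, zero_add, Function.comp_apply, Pi.add_apply, Pi.zero_apply]
  have heq : ∀ x y, polB (qOdd n F) (e x) (e y) =
      c * (B (x ∘ Sum.inl) (y ∘ Sum.inl) + (x ∘ Sum.inr) ⬝ᵥ (y ∘ Sum.inr)) := fun x y => by
    rw [hpolB, he, hsplit]
  have hq : ∀ x, 2 * qOdd n F (e x) =
      c * (B (x ∘ Sum.inl) (x ∘ Sum.inl) + (x ∘ Sum.inr) ⬝ᵥ (x ∘ Sum.inr)) := fun x => by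
    rw [← polB_self, heq]
  let ext : bIso B → ((Fin k ⊕ Fin r → F) ≃ₗ[F] (Fin k ⊕ Fin r → F)) := fun g =>
    { toFun := fun v => Sum.elim (g.1 (v ∘ Sum.inl)) (v ∘ Sum.inr)
      invFun := fun v => Sum.elim (g.1.symm (v ∘ Sum.inl)) (v ∘ Sum.inr)
      map_add' := fun u v => by
        funext i; rcases i with i | i
        · show g.1 ((u + v) ∘ Sum.inl) i = (g.1 (u ∘ Sum.inl) + g.1 (v ∘ Sum.inl)) i
          rw [← map_add]; rfl
        · rfl
      map_smul' := fun a v => by
        funext i; rcases i with i | i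
        · show g.1 ((a • v) ∘ Sum.inl) i = (a • g.1 (v ∘ Sum.inl)) i
          rw [← map_smul]; rfl
        · rfl
      left_inv := fun v => by funext i; rcases i with i | i <;> simp
      right_inv := fun v => by funext i; rcases i with i | i <;> simp }
  have hext : ∀ g v, ext g v = Sum.elim (g.1 (v ∘ Sum.inl)) (v ∘ Sum.inr) := fun g v => rfl
  have hmem : ∀ g, (e.symm.trans (ext g)).trans e ∈ orthGroup (qOdd n F) := fun g v => by
    refine mul_left_cancel₀ h2 ?_
    rw [LinearEquiv.trans_apply, LinearEquiv.trans_apply, hq, hext]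
    conv_rhs => rw [← e.apply_symm_apply v, hq]
    rw [Sum.elim_comp_inl, Sum.elim_comp_inr, mem_bIso.1 g.2]
  let Φ : bIso B →* orthGroup (qOdd n F) :=
    MonoidHom.mk' (fun g => ⟨_, hmem g⟩) fun g g' => orth_ext fun v => by
      show e (ext (g * g') (e.symm v)) = e (ext g (e.symm (e (ext g' (e.symm v)))))
      rw [LinearEquiv.symm_apply_apply, hext, hext, hext, Sum.elim_comp_inl, Sum.elim_comp_inr]
      rfl
  have happ : ∀ g v, (Φ g).1 (e v) = e (ext g v) := fun g v => by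
    show e (ext g (e.symm (e v))) = _
    rw [LinearEquiv.symm_apply_apply]
  let a : Fin r → (Unit ⊕ (Fin n ⊕ Fin n) → F) := fun i => e (Sum.elim 0 (Pi.single i 1))
  refine ⟨Φ, a, c / 2, fun g g' h => Subtype.ext (LinearEquiv.ext fun x => ?_), div_ne_zero hc h2, fun i => ?_,
    fun i j hij => ?_, fun g i => ?_⟩
  · have := congrArg (fun z : orthGroup (qOdd n F) => z.1 (e (Sum.elim x 0))) h
    rw [happ, happ, hext, hext, Sum.elim_comp_inl, Sum.elim_comp_inr] at this
    have := congrArg (fun v : Fin k ⊕ Fin r → F => v ∘ Sum.inl) (e.injective this)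
    simpa using this
  · rw [eq_div_iff h2, mul_comm, hq, Sum.elim_comp_inl, Sum.elim_comp_inr]
    simp
  · rw [heq, Sum.elim_comp_inl, Sum.elim_comp_inl, Sum.elim_comp_inr, Sum.elim_comp_inr]
    simp [hij, Ne.symm hij]
  · rw [happ, hext, Sum.elim_comp_inl, Sum.elim_comp_inr, map_zero]

/-- Element orders of `PΩ_{2n+1}(q)` are those of `Ω_{2n+1}(q)`. -/
theorem pomega_orders (h2 : (2 : F) ≠ 0) {n : ℕ} (hn : 2 ≤ n) (f : (Unit ⊕ (Fin n ⊕ Fin n) → F) → F)
    (hf : ⇑(qOdd n F) = f) (N : ℕ) :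
    N ∈ Set.range (orderOf : Cfsg.POmega F f → ℕ) ↔
      ∃ x ∈ commutator (orthGroup (qOdd n F)), orderOf x = N := by
  subst hf
  have hQ := qOdd_nondeg (F := F) h2 n
  have hc : Fintype.card (Unit ⊕ (Fin n ⊕ Fin n)) = 2 * n + 1 := by simp; ring
  have h5 : 5 ≤ Fintype.card (Unit ⊕ (Fin n ⊕ Fin n)) := by omega
  have hd : 2 ≤ Module.finrank F (Unit ⊕ (Fin n ⊕ Fin n) → F) := by rw [finrank_qOdd]; omega
  have hcen : Subgroup.center (Cfsg.Omega F ⇑(qOdd n F)) = ⊥ := by
    rw [eq_bot_iff]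
    intro z hz
    have h1 : simAut (qOdd n F) (omegaSim _ z) = 1 := by
      rw [simAut_omegaSim]
      apply MulEquiv.ext
      intro x
      induction x using QuotientGroup.induction_on with
      | _ t =>
        rw [MulAut.conj_apply, (QuotientGroup.eq_one_iff z).2 hz]
        simp
    obtain ⟨c, hc⟩ := exists_scalar_of_ker hQ h5 _ h1
    have hzv : ∀ v, (toOrth (qOdd n F) z.1).1 v = (c : F) • v := fun v => by
      rw [toOrth_apply, ← coe_omegaSim, hc, scalarHom_mulVec]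
    have hdet := ((mem_commutator_iff_odd hQ h2 hd _).1 ((mem_Omega_iff z.1).1 z.2)).1
    obtain ⟨v, hv⟩ := exists_qmap_eq hQ hd 1 one_ne_zero
    have hcc : (c : F) * c = 1 := by
      have := orth_qmap (toOrth (qOdd n F) z.1) v
      rw [hzv, qmap_smul, hv, mul_one] at this
      exact this
    rw [Subgroup.mem_bot]
    have hone : ∀ v, (toOrth (qOdd n F) z.1).1 v = v := by
      rcases mul_self_eq_one_iff.1 hcc with e | e
      · exact fun v => by rw [hzv, e, one_smul]
      · exfalso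
        have e2 : toOrth (qOdd n F) z.1 = negOrth (qOdd n F) := orth_ext fun v => by
          rw [hzv, e, negOrth_apply, neg_one_smul]
        rw [e2, detHom_negOrth, finrank_qOdd, (odd_two_mul_add_one n).neg_one_pow] at hdet
        have e3 := congrArg Units.val hdet
        rw [Units.val_neg, Units.val_one] at e3
        exact h2 (by linear_combination -e3)
    refine Subtype.ext ((toOrth (qOdd n F)).injective ?_)
    rw [OneMemClass.coe_one, map_one]
    exact orth_ext fun v => hone v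
  have hinj : Function.Injective (QuotientGroup.mk' (Subgroup.center (Cfsg.Omega F ⇑(qOdd n F)))) :=
    (QuotientGroup.mk' _).ker_eq_bot_iff.1 (by rw [QuotientGroup.ker_mk', hcen])
  constructor
  · rintro ⟨x, rfl⟩
    obtain ⟨g, rfl⟩ := QuotientGroup.mk'_surjective _ x
    refine ⟨toOrth _ g.1, (mem_Omega_iff g.1).1 g.2, ?_⟩
    rw [orderOf_injective _ hinj, MulEquiv.orderOf_eq, Subgroup.orderOf_coe]
  · rintro ⟨x, hx, rfl⟩
    refine ⟨QuotientGroup.mk' _ ⟨(toOrth _).symm x, by rw [mem_Omega_iff, MulEquiv.apply_symm_apply]; exact hx⟩, ?_⟩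
    rw [orderOf_injective _ hinj, ← Subgroup.orderOf_coe, MulEquiv.orderOf_eq]

end H44
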