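import Cfsg.Agent.H44.BCCases

/-!
Elements of `PSp_{2n}` and `Ω_{2n+1}` built from an element of a paired isometry group.
-/

set_option autoImplicit false

namespace H44

open H43 Matrix

/-- `Ω_{2n+1}(q)` has an element of order `N`. -/
def OOrd (F : Type*) [Field F] (n N : ℕ) : Prop :=
  ∃ x ∈ commutator (orthGroup (qOdd n F)), orderOf x = N

/-- `PSp_{2n}(q)` has an element of order `N`. -/
def SOrd (F : Type*) [Field F] (n N : ℕ) : Prop :=
  N ∈ Set.range (orderOf : Cfsg.PSp n F → ℕ)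

variable {F : Type*} [Field F] [Fintype F] {V : Type*} [AddCommGroup V] [Module F V] [FiniteDimensional F V]
  {Q : QuadraticForm F V}

theorem sq_mem_orth_commutator (hQ : (polB Q).Nondegenerate) (h2 : (2 : F) ≠ 0)
    (hn : 2 ≤ Module.finrank F V) (g : orthGroup Q) : g * g ∈ commutator (orthGroup Q) := by
  rw [commutator_eq_invKer hQ (reflGenerates_of_two_ne_zero h2) hn, MonoidHom.mem_ker, map_mul]
  refine Prod.ext ?_ (sqClass_mul_self _)
  show Multiplicative.toAdd ((invHom hQ (reflGenerates_of_two_ne_zero h2)) g).1 +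
    Multiplicative.toAdd ((invHom hQ (reflGenerates_of_two_ne_zero h2)) g).1 = (0 : ZMod 2)
  exact CharTwo.add_self_eq_zero _

theorem odd_mem_orth_commutator (hQ : (polB Q).Nondegenerate) (h2 : (2 : F) ≠ 0)
    (hn : 2 ≤ Module.finrank F V) {g : orthGroup Q} (hg : Odd (orderOf g)) :
    g ∈ commutator (orthGroup Q) := by
  obtain ⟨m, hm⟩ := hg
  have e : g ^ (m + 1) * g ^ (m + 1) = g := by
    rw [← pow_add, show m + 1 + (m + 1) = (2 * m + 1) + 1 by omega, pow_succ, ← hm, pow_orderOf_eq_one, one_mul]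
  rw [← e]
  exact sq_mem_orth_commutator hQ h2 hn _

omit [Fintype F] [FiniteDimensional F V] in
/-- The product of the reflections in two orthogonal vectors of equal value is an involution. -/
theorem orderOf_refl_pair (h2 : (2 : F) ≠ 0) {a b : V} {c : F} (hc : c ≠ 0) (ha : Q a = c)
    (hab : polB Q a b = 0) : orderOf (refl Q a * refl Q b) = 2 := by
  have hcomm : refl Q a * refl Q b = refl Q b * refl Q a := by
    have h := refl_conj (refl Q b) a
    rw [refl_fix hab, refl_inv] at h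
    conv_lhs => rw [← h, mul_assoc, refl_sq, mul_one]
  haveI : Fact (Nat.Prime 2) := ⟨Nat.prime_two⟩
  refine orderOf_eq_prime ?_ fun e => ?_
  · rw [pow_two, mul_assoc, ← mul_assoc (refl Q b), ← hcomm, mul_assoc, refl_sq, mul_one, refl_sq]
  · have e2 := congrArg (fun g : orthGroup Q => g.1 a) e
    simp only [orth_mul_apply, orth_one_apply, refl_fix hab, refl_self (ha.trans_ne hc)] at e2
    have : (2 : F) • a = 0 := by rw [two_smul]; nth_rw 1 [← e2]; exact neg_add_cancel a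
    have ha0 : a = 0 := (smul_eq_zero.1 this).resolve_left h2
    rw [ha0, QuadraticMap.map_zero] at ha
    exact hc ha.symm

omit [Fintype F] [FiniteDimensional F V] in
theorem refl_pair_commute (g : orthGroup Q) {a b : V} (ha : g.1 a = a) (hb : g.1 b = b) :
    Commute (refl Q a * refl Q b) g := by
  have key : ∀ v, g.1 v = v → Commute (refl Q v) g := fun v hv => by
    have h := refl_conj g v
    rw [hv] at h
    exact (mul_inv_eq_iff_eq_mul.1 h).symm
  exact (key a ha).mul_left (key b hb)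

omit [FiniteDimensional F V] in
/-- An element of order `p` supported on three orthogonal vectors of equal value. -/
theorem exists_unipotent_three (h2 : (2 : F) ≠ 0) {p : ℕ} [Fact p.Prime] [CharP F p] {a₀ a₁ a₂ : V} {c : F}
    (hc : c ≠ 0) (h0 : Q a₀ = c) (h1 : Q a₁ = c) (h2' : Q a₂ = c) (h01 : polB Q a₀ a₁ = 0)
    (h02 : polB Q a₀ a₂ = 0) (h12 : polB Q a₁ a₂ = 0) :
    ∃ E : orthGroup Q, orderOf E = p ∧ ∀ g : orthGroup Q, g.1 a₀ = a₀ → g.1 a₁ = a₁ → g.1 a₂ = a₂ → Commute E g := by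
  obtain ⟨x, y, hxy⟩ := exists_sum_sq_eq (F := F) one_ne_zero one_ne_zero (-1)
  have h10 : polB Q a₁ a₀ = 0 := by rw [polB_comm, h01]
  have h20 : polB Q a₂ a₀ = 0 := by rw [polB_comm, h02]
  have h21 : polB Q a₂ a₁ = 0 := by rw [polB_comm, h12]
  set u := a₀ + x • a₁ + y • a₂ with hu
  set w := y • a₁ - x • a₂ with hw
  have hQu : Q u = 0 := by
    rw [hu, qmap_add, qmap_add, qmap_smul, qmap_smul, h0, h1, h2']
    simp only [map_add, map_smul, LinearMap.add_apply, LinearMap.smul_apply, smul_eq_mul, h01, h02, h12]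
    linear_combination c * hxy
  have huw : polB Q u w = 0 := by
    simp only [hu, hw, map_add, map_sub, map_smul, LinearMap.add_apply, LinearMap.smul_apply, smul_eq_mul,
      polB_self, h1, h2', h01, h02, h12, h21]
    ring
  have hQw : Q w = -c := by
    rw [hw, qmap_sub, qmap_smul, qmap_smul, h1, h2']
    simp only [map_smul, LinearMap.smul_apply, smul_eq_mul, h12]
    linear_combination c * hxy
  have ha0u : polB Q a₀ u = 2 * c := by
    simp only [hu, map_add, map_smul, smul_eq_mul, polB_self, h0, h01, h02]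
    ring
  have ha0w : polB Q a₀ w = 0 := by
    simp only [hw, map_sub, map_smul, smul_eq_mul, h01, h02]
    ring
  have hpow : ∀ i : ℕ, eichler Q u w ^ i = eichler Q u ((i : F) • w) := fun i => by
    induction i with
    | zero => rw [pow_zero, Nat.cast_zero, zero_smul, eichler_zero hQu]
    | succ i ih =>
      rw [pow_succ, ih, eichler_mul hQu (by rw [map_smul, huw, smul_zero]) huw, Nat.cast_succ, add_smul, one_smul]
  refine ⟨eichler Q u w, orderOf_eq_prime (by rw [hpow, CharP.cast_eq_zero, zero_smul, eichler_zero hQu]) fun e => ?_,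
    fun g g0 g1 g2 => ?_⟩
  · have e2 := congrArg (fun g : orthGroup Q => g.1 a₀) e
    simp only [orth_one_apply, eichler_apply hQu huw, ha0u, ha0w, hQw, zero_smul, sub_zero] at e2
    have e3 := congrArg (fun v => polB Q a₀ v) e2
    simp only [map_add, map_sub, map_smul, smul_eq_mul, ha0u, ha0w, polB_self, h0] at e3
    have : (2 : F) * 2 * c * c * c = 0 := by linear_combination e3
    simp [h2, hc] at this
  · have h := eichler_conj g hQu huw
    have gu : g.1 u = u := by rw [hu, map_add, map_add, map_smul, map_smul, g0, g1, g2]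
    have gw : g.1 w = w := by rw [hw, map_sub, map_smul, map_smul, g1, g2]
    rw [gu, gw] at h
    exact (mul_inv_eq_iff_eq_mul.1 h).symm

omit Q V

theorem oord_mul (hodd : Odd (Fintype.card F)) {n : ℕ} (hn : 1 ≤ n) {u v : orthGroup (qOdd n F)}
    (hu : u ∈ commutator (orthGroup (qOdd n F))) (hc : Commute u v) (hv : Odd (orderOf v))
    (hcop : Nat.Coprime (orderOf u) (orderOf v)) : OOrd F n (orderOf u * orderOf v) := by
  have h2 := two_ne_zero_of_odd_card hodd
  have hd : 2 ≤ Module.finrank F (Unit ⊕ (Fin n ⊕ Fin n) → F) := by rw [finrank_qOdd]; omega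
  exact ⟨u * v, mul_mem hu (odd_mem_orth_commutator (qOdd_nondeg h2 n) h2 hd hv),
    hc.orderOf_mul_eq_mul_orderOf_of_coprime hcop⟩

omit [Fintype F] in
theorem sp_two_mul (h2 : (2 : F) ≠ 0) {n d : ℕ} (hd : 1 ≤ d) (hdn : d < n)
    {g : Matrix.symplecticGroup (Fin d) F} (hg : Odd (orderOf g)) : SOrd F n (2 * orderOf g) := by
  let e : Fin n ≃ Fin d ⊕ Fin (n - d) := (finCongr (by omega)).trans finSumFinEquiv.symm
  haveI : Nonempty (Fin d) := ⟨⟨0, hd⟩⟩
  haveI : Nonempty (Fin (n - d)) := ⟨⟨0, by omega⟩⟩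
  haveI : Nonempty (Fin n) := ⟨⟨0, by omega⟩⟩
  have hs : orderOf (H49.spBlock e (g, 1)) = orderOf g := by
    rw [orderOf_injective _ (H49.spBlock_injective e), Prod.orderOf, orderOf_one, Nat.lcm_one_right]
  have h := H49.two_mul_mem_range (by omega : 1 ≤ n) (s := H49.spBlock e (g, 1))
    (t := H49.spBlock e (1, H49.spNegOne (Fin (n - d)) F)) (hs.symm ▸ hg) ?_
    (H49.spBlock_one_negOne_not_central h2 e) ?_
  · rwa [hs] at h
  · show H49.spBlock e _ * H49.spBlock e _ = H49.spBlock e _ * H49.spBlock e _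
    rw [← map_mul, ← map_mul, Prod.mk_mul_mk, Prod.mk_mul_mk, mul_one, one_mul, mul_one, one_mul]
  · rw [← map_mul, Prod.mk_mul_mk, one_mul, H49.spNegOne_mul_self, Prod.mk_one_one, map_one]
    exact Subgroup.one_mem _

/-- An element of odd order in a paired isometry group lives in both groups. -/
theorem core_both (hodd : Odd (Fintype.card F)) {n N k : ℕ} (hn : 1 ≤ n) (hk : k ≤ 2 * n) (hN : Odd N)
    (h : Core F N k) : OOrd F n N ∧ SOrd F n N := by
  have h2 := two_ne_zero_of_odd_card hodd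
  obtain ⟨f, B, x, hf, hfn, hB, hBn, hxf, hxB, ho⟩ := h
  constructor
  · obtain ⟨Φ, -, -, hinj, -⟩ := exists_orthHom hodd hk hB hBn
    have hd : 2 ≤ Module.finrank F (Unit ⊕ (Fin n ⊕ Fin n) → F) := by rw [finrank_qOdd]; omega
    have hord : orderOf (Φ ⟨x, hxB⟩) = N := by rw [orderOf_injective Φ hinj, Subgroup.orderOf_mk, ho]
    exact ⟨_, odd_mem_orth_commutator (qOdd_nondeg h2 n) h2 hd (hord.symm ▸ hN), hord⟩
  · obtain ⟨d, Φ, hd, hinj, -⟩ := exists_spHom hodd hf hfn
    obtain ⟨g, hg⟩ := H49.exists_orderOf_mono (n := n) (show d ≤ n by omega) (Φ ⟨x, hxf⟩)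
    rw [orderOf_injective Φ hinj, Subgroup.orderOf_mk, ho] at hg
    exact ⟨QuotientGroup.mk g, by rw [H49.orderOf_mk_of_odd hn (hg.symm ▸ hN), hg]⟩

/-- An element of prime order leaving room gives the orders with `p` and with `2`. -/
theorem core_room (hodd : Odd (Fintype.card F)) {p : ℕ} [Fact p.Prime] [CharP F p] {n k r : ℕ}
    (hk : k + 2 ≤ 2 * n) (hr : r.Prime) (hr2 : r ≠ 2) (hrp : r ≠ p) (h : Core F r k) :
    (OOrd F n (r * p) ∧ SOrd F n (r * p)) ∧ OOrd F n (2 * r) ∧ SOrd F n (2 * r) := by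
  have h2 := two_ne_zero_of_odd_card hodd
  have hp2 : p ≠ 2 := by
    rintro rfl
    exact h2 CharTwo.two_eq_zero
  have hrodd := hr.odd_of_ne_two hr2
  have hpp : p.Prime := Fact.out
  have hcop : Nat.Coprime r p := (Nat.coprime_primes hr hpp).2 hrp
  have hn : 1 ≤ n := by omega
  obtain ⟨f, B, x, hf, hfn, hB, hBn, hxf, hxB, ho⟩ := h
  obtain ⟨Φ, a, c, hinj, hc, ha, hab, hfix⟩ := exists_orthHom hodd (show k ≤ 2 * n by omega) hB hBn
  have hs : orderOf (Φ ⟨x, hxB⟩) = r := by rw [orderOf_injective Φ hinj, Subgroup.orderOf_mk, ho]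
  let i₀ : Fin (2 * n + 1 - k) := ⟨0, by omega⟩
  let i₁ : Fin (2 * n + 1 - k) := ⟨1, by omega⟩
  let i₂ : Fin (2 * n + 1 - k) := ⟨2, by omega⟩
  have h01 : i₀ ≠ i₁ := by simp [i₀, i₁]
  have h02 : i₀ ≠ i₂ := by simp [i₀, i₂]
  have h12 : i₁ ≠ i₂ := by simp [i₁, i₂]
  have hQ := qOdd_nondeg (F := F) h2 n
  have hdim : 2 ≤ Module.finrank F (Unit ⊕ (Fin n ⊕ Fin n) → F) := by rw [finrank_qOdd]; omega
  obtain ⟨d, Ψ, hd, hΨ, -⟩ := exists_spHom hodd hf hfn
  have hs' : orderOf (Ψ ⟨x, hxf⟩) = r := by rw [orderOf_injective Ψ hΨ, Subgroup.orderOf_mk, ho]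
  refine ⟨⟨?_, ?_⟩, ?_, ?_⟩
  · obtain ⟨E, hE, hEc⟩ := exists_unipotent_three h2 (p := p) hc (ha i₀) (ha i₁) (ha i₂) (hab _ _ h01) (hab _ _ h02)
      (hab _ _ h12)
    have := oord_mul hodd hn (u := Φ ⟨x, hxB⟩) (v := E)
      (odd_mem_orth_commutator hQ h2 hdim (hs.symm ▸ hrodd)) (hEc _ (hfix _ _) (hfix _ _) (hfix _ _)).symm
      (hE.symm ▸ hpp.odd_of_ne_two hp2) (by rw [hs, hE]; exact hcop)
    rwa [hs, hE] at this
  · obtain ⟨u, hu⟩ := H49.exists_orderOf_sp_prime_pow (F := F) (p := p) (k := 1) (a := 1) (Or.inr (by simp))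
    obtain ⟨g, hg⟩ := H49.exists_orderOf_add (n := n) (show d + 1 ≤ n by omega) (Ψ ⟨x, hxf⟩) u
    rw [hs', hu, pow_one, hcop.lcm_eq_mul] at hg
    exact ⟨QuotientGroup.mk g, by
      rw [H49.orderOf_mk_of_odd hn (hg.symm ▸ hrodd.mul (hpp.odd_of_ne_two hp2)), hg]⟩
  · have ht := orderOf_refl_pair h2 hc (ha i₀) (hab _ _ h01)
    have := oord_mul hodd hn
      (refl_mul_refl_mem_commutator hQ (reflGenerates_of_two_ne_zero h2) hdim ((ha i₀).trans_ne hc)
        ((ha i₁).trans_ne hc) (by rw [ha, ha]))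
      (refl_pair_commute (Φ ⟨x, hxB⟩) (hfix _ _) (hfix _ _)) (hs.symm ▸ hrodd)
      (by rw [ht, hs]; exact Nat.coprime_two_left.2 hrodd)
    rwa [ht, hs] at this
  · have hd1 : 1 ≤ d := by
      by_contra hd0
      have : d = 0 := by omega
      subst this
      refine hr.ne_one ?_
      rw [← hs', orderOf_eq_one_iff]
      exact Subtype.ext (Matrix.ext fun i _ => isEmptyElim i)
    exact hs' ▸ sp_two_mul h2 hd1 (by omega) (hs'.symm ▸ hrodd)

/-- Both groups have elements of order `2p`. -/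
theorem both_two_p (hodd : Odd (Fintype.card F)) {p : ℕ} [Fact p.Prime] [CharP F p] {n : ℕ} (hn : 2 ≤ n) :
    OOrd F n (2 * p) ∧ SOrd F n (2 * p) := by
  have h2 := two_ne_zero_of_odd_card hodd
  have hp2 : p ≠ 2 := by
    rintro rfl
    exact h2 CharTwo.two_eq_zero
  have hpodd : Odd p := (Fact.out : p.Prime).odd_of_ne_two hp2
  constructor
  · obtain ⟨Φ, a, c, -, hc, ha, hab, -⟩ := exists_orthHom hodd (n := n) (k := 0) (by omega)
      (B := (0 : LinearMap.BilinForm F (Fin 0 → F))) (fun _ _ => rfl)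
      ⟨fun x _ => Subsingleton.elim x 0, fun x _ => Subsingleton.elim x 0⟩
    let i : Fin 5 → Fin (2 * n + 1 - 0) := fun j => ⟨j.1, by omega⟩
    have hi : ∀ j j', j ≠ j' → polB (qOdd n F) (a (i j)) (a (i j')) = 0 := fun j j' e =>
      hab _ _ fun e' => e (Fin.ext (show j.1 = j'.1 from (congrArg (fun z : Fin (2 * n + 1 - 0) => z.val) e' :)))
    obtain ⟨E, hE, hEc⟩ := exists_unipotent_three h2 (p := p) hc (ha (i 2)) (ha (i 3)) (ha (i 4))
      (hi _ _ (by decide)) (hi _ _ (by decide)) (hi _ _ (by decide))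
    have ht := orderOf_refl_pair h2 hc (ha (i 0)) (hi 0 1 (by decide))
    have hQ := qOdd_nondeg (F := F) h2 n
    have hdim : 2 ≤ Module.finrank F (Unit ⊕ (Fin n ⊕ Fin n) → F) := by rw [finrank_qOdd]; omega
    have hfix : ∀ j, j ≠ 0 → j ≠ 1 → (refl (qOdd n F) (a (i 0)) * refl (qOdd n F) (a (i 1))).1 (a (i j)) = a (i j) := by
      intro j h0 h1
      rw [orth_mul_apply, refl_fix (hi j 1 h1), refl_fix (hi j 0 h0)]
    have := oord_mul hodd (by omega)
      (refl_mul_refl_mem_commutator hQ (reflGenerates_of_two_ne_zero h2) hdim ((ha (i 0)).trans_ne hc)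
        ((ha (i 1)).trans_ne hc) (by rw [ha, ha]))
      (hEc _ (hfix 2 (by decide) (by decide)) (hfix 3 (by decide) (by decide)) (hfix 4 (by decide) (by decide))).symm
      (hE.symm ▸ hpodd) (by rw [ht, hE]; exact Nat.coprime_two_left.2 hpodd)
    rwa [ht, hE] at this
  · obtain ⟨u, hu⟩ := H49.exists_orderOf_sp_prime_pow (F := F) (p := p) (k := 1) (a := 1) (Or.inr (by simp))
    rw [pow_one] at hu
    exact hu ▸ sp_two_mul h2 le_rfl (by omega) (hu.symm ▸ hpodd)

end H44
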