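import Cfsg.Agent.H44.ArfTwo
import Cfsg.Agent.H38.IsoGroup

/-!
Even subsets of a `(4k+4)`-set modulo complementation as a quadratic space over the field of two elements.
-/

set_option autoImplicit false

namespace H44

open Finset

/-- Weight of a vector over `ZMod 2`. -/
def wtTwo {α : Type*} [Fintype α] (x : α → ZMod 2) : ℕ := ∑ i, (x i).val

/-- Half the weight modulo two. -/
def halfWt {α : Type*} [Fintype α] (x : α → ZMod 2) : ZMod 2 := ((wtTwo x / 2 : ℕ) : ZMod 2)

/-- Drop the last two coordinates after normalising the last one to zero. -/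
def evenProj (n : ℕ) : (Fin (n + 2) → ZMod 2) →ₗ[ZMod 2] (Fin n → ZMod 2) where
  toFun x := fun j => x j.castSucc.castSucc + x (Fin.last (n + 1))
  map_add' x y := by ext j; simp only [Pi.add_apply]; ring
  map_smul' c x := by ext j; simp [mul_add]

/-- The even vector with last coordinate zero extending `y`. -/
def evenLift (n : ℕ) : (Fin n → ZMod 2) →ₗ[ZMod 2] (Fin (n + 2) → ZMod 2) where
  toFun y := Fin.snoc (Fin.snoc y (∑ j, y j)) 0
  map_add' x y := by
    ext i
    induction i using Fin.lastCases with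
    | last => simp
    | cast i =>
      induction i using Fin.lastCases with
      | last => simp [Finset.sum_add_distrib]
      | cast i => simp
  map_smul' c x := by
    ext i
    induction i using Fin.lastCases with
    | last => simp
    | cast i =>
      induction i using Fin.lastCases with
      | last => simp [Finset.mul_sum]
      | cast i => simp

theorem sum_evenLift (n : ℕ) (y : Fin n → ZMod 2) : ∑ i, evenLift n y i = 0 := by
  simp [evenLift, Fin.sum_univ_castSucc, zmod2_add_self]

theorem evenProj_lift (n : ℕ) (y : Fin n → ZMod 2) : evenProj n (evenLift n y) = y := by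
  ext j; simp [evenProj, evenLift]

theorem evenLift_proj (n : ℕ) (hn : Even n) (x : Fin (n + 2) → ZMod 2) (hx : ∑ i, x i = 0) :
    evenLift n (evenProj n x) = x + fun _ => x (Fin.last (n + 1)) := by
  ext i
  induction i using Fin.lastCases with
  | last => simp [evenLift, zmod2_add_self]
  | cast i =>
    induction i using Fin.lastCases with
    | last =>
      simp only [evenLift, evenProj, LinearMap.coe_mk, AddHom.coe_mk, Fin.snoc_castSucc, Fin.snoc_last,
        Pi.add_apply, Finset.sum_add_distrib, Finset.sum_const, Finset.card_univ, Fintype.card_fin]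
      rw [Fin.sum_univ_castSucc, Fin.sum_univ_castSucc] at hx
      have h0 : (n : ZMod 2) = 0 := (ZMod.natCast_eq_zero_iff_even).2 hn
      rw [nsmul_eq_mul, h0, zero_mul, add_zero]
      linear_combination hx - zmod2_add_self (x (Fin.last n).castSucc) - zmod2_add_self (x (Fin.last (n + 1)))
    | cast i => simp [evenLift, evenProj]

theorem wtTwo_add {α : Type*} [Fintype α] (x y : α → ZMod 2) :
    wtTwo (x + y) + 2 * (∑ i, (x i).val * (y i).val) = wtTwo x + wtTwo y := by
  have h : ∀ a b : ZMod 2, (a + b).val + 2 * (a.val * b.val) = a.val + b.val := by decide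
  simp only [wtTwo, Finset.mul_sum, ← Finset.sum_add_distrib, Pi.add_apply, h]

theorem even_wtTwo_iff {α : Type*} [Fintype α] (x : α → ZMod 2) :
    Even (wtTwo x) ↔ ∑ i, x i = 0 := by
  rw [← ZMod.natCast_eq_zero_iff_even, wtTwo, Nat.cast_sum]
  simp [ZMod.natCast_zmod_val]

theorem halfWt_add {α : Type*} [Fintype α] {x y : α → ZMod 2} (hx : ∑ i, x i = 0) (hy : ∑ i, y i = 0) :
    halfWt (x + y) = halfWt x + halfWt y + ∑ i, x i * y i := by
  obtain ⟨a, ha⟩ := (even_wtTwo_iff x).2 hx
  obtain ⟨b, hb⟩ := (even_wtTwo_iff y).2 hy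
  obtain ⟨c, hc⟩ := (even_wtTwo_iff (x + y)).2 (by simp [Finset.sum_add_distrib, hx, hy])
  have h := wtTwo_add x y
  have hs : ∑ i, x i * y i = ((∑ i, (x i).val * (y i).val : ℕ) : ZMod 2) := by
    simp [ZMod.natCast_zmod_val]
  set d := ∑ i, (x i).val * (y i).val
  simp only [halfWt, ha, hb, hc, ← two_mul, Nat.mul_div_cancel_left _ (show 0 < 2 by norm_num), hs]
  have hcd : c + d = a + b := by omega
  have hcd' : (c : ZMod 2) + (d : ZMod 2) = a + b := by exact_mod_cast congrArg (fun t : ℕ => (t : ZMod 2)) hcd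
  linear_combination hcd' - zmod2_add_self (d : ZMod 2)

theorem halfWt_const {n : ℕ} (hn : n % 4 = 0) (c : ZMod 2) : halfWt (fun _ : Fin n => c) = 0 := by
  simp only [halfWt, wtTwo, Finset.sum_const, Finset.card_univ, Fintype.card_fin, smul_eq_mul]
  rcases zmod2_cases c with rfl | rfl
  · simp
  · rw [ZMod.val_one, mul_one, ZMod.natCast_eq_zero_iff_even, Nat.even_iff]
    omega

theorem halfWt_add_const {n : ℕ} (hn : n % 4 = 0) {x : Fin n → ZMod 2} (hx : ∑ i, x i = 0) (c : ZMod 2) :
    halfWt (x + fun _ => c) = halfWt x := by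
  have hc : ∑ _i : Fin n, c = 0 := by
    rw [Finset.sum_const, Finset.card_univ, Fintype.card_fin, nsmul_eq_mul,
      (ZMod.natCast_eq_zero_iff_even).2 (Nat.even_iff.2 (by omega)), zero_mul]
  rw [halfWt_add hx hc, halfWt_const hn, ← Finset.sum_mul, hx, zero_mul, add_zero, add_zero]

/-- The quadratic form on the model. -/
def evenQ (n : ℕ) (y : Fin n → ZMod 2) : ZMod 2 := halfWt (evenLift n y)

theorem evenQ_proj {n : ℕ} (hn : n % 4 = 2) {x : Fin (n + 2) → ZMod 2} (hx : ∑ i, x i = 0) :
    evenQ n (evenProj n x) = halfWt x := by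
  rw [evenQ, evenLift_proj n (Nat.even_iff.2 (by omega)) x hx, halfWt_add_const (by omega) hx]

theorem sum_comp_perm {n : ℕ} (σ : Equiv.Perm (Fin n)) (x : Fin n → ZMod 2) :
    ∑ i, x (σ i) = ∑ i, x i := Equiv.sum_comp σ x

theorem halfWt_comp_perm {n : ℕ} (σ : Equiv.Perm (Fin n)) (x : Fin n → ZMod 2) :
    halfWt (fun i => x (σ i)) = halfWt x := by
  simp only [halfWt, wtTwo]
  rw [Equiv.sum_comp σ (fun i => (x i).val)]

/-- The linear action of a permutation. -/
def evenAct (n : ℕ) (σ : Equiv.Perm (Fin (n + 2))) : (Fin n → ZMod 2) →ₗ[ZMod 2] (Fin n → ZMod 2) :=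
  (evenProj n).comp ((LinearMap.funLeft (ZMod 2) (ZMod 2) σ.symm).comp (evenLift n))

theorem evenAct_apply (n : ℕ) (σ : Equiv.Perm (Fin (n + 2))) (y : Fin n → ZMod 2) :
    evenAct n σ y = evenProj n (fun i => evenLift n y (σ.symm i)) := rfl

theorem evenProj_const (n : ℕ) (c : ZMod 2) : evenProj n (fun _ => c) = 0 := by
  ext j; simp [evenProj, zmod2_add_self]

theorem evenAct_mul {n : ℕ} (hn : Even n) (σ τ : Equiv.Perm (Fin (n + 2))) (y : Fin n → ZMod 2) :
    evenAct n (σ * τ) y = evenAct n σ (evenAct n τ y) := by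
  have hz : ∑ i, (fun i => evenLift n y (τ.symm i)) i = 0 := by
    rw [sum_comp_perm τ.symm, sum_evenLift]
  rw [evenAct_apply, evenAct_apply, evenAct_apply, evenLift_proj n hn _ hz]
  generalize evenLift n y (τ.symm (Fin.last (n + 1))) = c
  set z : Fin (n + 2) → ZMod 2 := fun i => evenLift n y (τ.symm i)
  have e : (fun i => (z + fun _ : Fin (n + 2) => c) (σ.symm i)) =
      (fun i => evenLift n y ((σ * τ).symm i)) + fun _ => c := by
    funext i; rfl
  rw [e, map_add, evenProj_const, add_zero]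

theorem evenAct_one (n : ℕ) (y : Fin n → ZMod 2) : evenAct n 1 y = y := evenProj_lift n y

/-- The permutation action as linear automorphisms. -/
def evenEquiv (n : ℕ) (hn : n % 4 = 2) (σ : Equiv.Perm (Fin (n + 2))) :
    (Fin n → ZMod 2) ≃ₗ[ZMod 2] (Fin n → ZMod 2) :=
  LinearEquiv.ofLinearMap (evenAct n σ) (evenAct n σ⁻¹)
    (LinearMap.ext fun y => by
      rw [LinearMap.comp_apply, ← evenAct_mul (Nat.even_iff.2 (by omega)), mul_inv_cancel, evenAct_one, LinearMap.id_apply])
    (LinearMap.ext fun y => by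
      rw [LinearMap.comp_apply, ← evenAct_mul (Nat.even_iff.2 (by omega)), inv_mul_cancel, evenAct_one, LinearMap.id_apply])

theorem evenEquiv_apply (n : ℕ) (hn : n % 4 = 2) (σ : Equiv.Perm (Fin (n + 2))) (y : Fin n → ZMod 2) :
    evenEquiv n hn σ y = evenAct n σ y := rfl

theorem evenEquiv_mem (n : ℕ) (hn : n % 4 = 2) (σ : Equiv.Perm (Fin (n + 2))) :
    evenEquiv n hn σ ∈ H38.isoGroup (ZMod 2) (evenQ n) := by
  intro y
  rw [evenEquiv_apply, evenAct_apply, evenQ_proj hn (by rw [sum_comp_perm σ.symm, sum_evenLift]),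
    halfWt_comp_perm σ.symm, evenQ]

/-- The permutation action as isometries of the model. -/
def evenHom (n : ℕ) (hn : n % 4 = 2) :
    Equiv.Perm (Fin (n + 2)) →* H38.isoGroup (ZMod 2) (evenQ n) where
  toFun σ := ⟨evenEquiv n hn σ, evenEquiv_mem n hn σ⟩
  map_one' := by
    apply Subtype.ext
    apply LinearEquiv.ext
    intro y
    exact evenAct_one n y
  map_mul' σ τ := by
    apply Subtype.ext
    apply LinearEquiv.ext
    intro y
    exact evenAct_mul (Nat.even_iff.2 (by omega)) σ τ y

theorem evenHom_injective (n : ℕ) (hn : n % 4 = 2) (h3 : 3 ≤ n) : Function.Injective (evenHom n hn) := by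
  rw [injective_iff_map_eq_one]
  intro σ hσ
  have hfix : ∀ y, evenAct n σ y = y := fun y =>
    congrArg (fun g : H38.isoGroup (ZMod 2) (evenQ n) => g.1 y) hσ
  have key : ∀ x : Fin (n + 2) → ZMod 2, ∑ i, x i = 0 → ∃ c : ZMod 2, ∀ i, x (σ.symm i) = x i + c := by
    intro x hx
    have hev : Even n := Nat.even_iff.2 (by omega)
    have h1 := hfix (evenProj n x)
    rw [evenAct_apply, evenLift_proj n hev x hx] at h1
    have h2 : evenProj n (fun i => x (σ.symm i)) = evenProj n x := by
      rw [show (fun i => (x + fun _ : Fin (n + 2) => x (Fin.last (n + 1))) (σ.symm i)) =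
        (fun i => x (σ.symm i)) + fun _ => x (Fin.last (n + 1)) from rfl, map_add, evenProj_const, add_zero] at h1
      exact h1
    have h3' := congrArg (evenLift n) h2
    rw [evenLift_proj n hev x hx, evenLift_proj n hev _ (by rw [sum_comp_perm σ.symm, hx])] at h3'
    refine ⟨x (Fin.last (n + 1)) + x (σ.symm (Fin.last (n + 1))), fun i => ?_⟩
    have h4 := congrFun h3' i
    simp only [Pi.add_apply] at h4
    linear_combination h4 - zmod2_add_self (x (σ.symm (Fin.last (n + 1))))
  ext1 a
  by_contra ha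
  rw [Equiv.Perm.one_apply] at ha
  obtain ⟨b, hb⟩ : ∃ b, b ∉ ({a, σ a} : Finset (Fin (n + 2))) := by
    by_contra hcon
    push Not at hcon
    have h1 := Finset.card_le_card (show Finset.univ ⊆ ({a, σ a} : Finset (Fin (n + 2))) from fun i _ => hcon i)
    have h2 : (({a, σ a} : Finset (Fin (n + 2)))).card ≤ 2 := Finset.card_le_two
    rw [Finset.card_univ, Fintype.card_fin] at h1
    omega
  simp at hb
  obtain ⟨d, hd⟩ : ∃ d, d ∉ ({a, b, σ a, σ b} : Finset (Fin (n + 2))) := by
    by_contra hcon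
    push Not at hcon
    have h1 := Finset.card_le_card (show Finset.univ ⊆ ({a, b, σ a, σ b} : Finset (Fin (n + 2))) from fun i _ => hcon i)
    have h2 : (({a, b, σ a, σ b} : Finset (Fin (n + 2)))).card ≤ 4 := Finset.card_le_four
    rw [Finset.card_univ, Fintype.card_fin] at h1
    omega
  simp at hd
  obtain ⟨c, hc⟩ := key (fun i => (if i = a then 1 else 0) + (if i = b then 1 else 0)) (by
    simp [Finset.sum_add_distrib, zmod2_add_self])
  have e1 := hc (σ a)
  have e2 := hc d
  have n1 : σ.symm d ≠ a := fun e => hd.2.2.1 (by rw [← e]; simp)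
  have n2 : σ.symm d ≠ b := fun e => hd.2.2.2 (by rw [← e]; simp)
  simp [hb.1, Ne.symm hb.1, ha, Ne.symm ha, hb.2, Ne.symm hb.2] at e1
  simp [n1, n2, hd.1, hd.2.1] at e2
  rw [← e2] at e1
  exact one_ne_zero e1

theorem re_I_pow (c : ℕ) : (((⟨0, 1⟩ : GaussianInt)) ^ c).re = if Even c then (-1 : ℤ) ^ (c / 2) else 0 := by
  have h2 : ∀ k : ℕ, ((⟨0, 1⟩ : GaussianInt)) ^ (2 * k) = ((-1 : ℤ) ^ k : ℤ) := by
    intro k
    rw [pow_mul, show ((⟨0, 1⟩ : GaussianInt)) ^ 2 = ((-1 : ℤ) : GaussianInt) by decide]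
    push_cast; rfl
  rcases Nat.even_or_odd c with ⟨k, rfl⟩ | ⟨k, rfl⟩
  · rw [← two_mul, h2, if_pos ⟨k, by omega⟩, Nat.mul_div_cancel_left _ (by norm_num), Zsqrtd.re_intCast]
  · rw [pow_succ, h2, if_neg (Nat.not_even_iff_odd.2 ⟨k, rfl⟩), Zsqrtd.re_mul, Zsqrtd.re_intCast,
      Zsqrtd.im_intCast]
    simp

/-- The type of the model. -/
theorem signSum_evenQ (k : ℕ) : signSum (evenQ (4 * k + 2)) = (-1) ^ (k + 1) * 2 ^ (2 * k + 1) := by
  classical
  set n := 4 * k + 2 with hn
  let I : GaussianInt := ⟨0, 1⟩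
  have htot : (∑ x : Fin (n + 2) → ZMod 2, I ^ wtTwo x) = ((-4 : ℤ) : GaussianInt) ^ (k + 1) := by
    simp only [wtTwo, ← Finset.prod_pow_eq_pow_sum]
    rw [← Fintype.prod_sum (fun (_ : Fin (n + 2)) (a : ZMod 2) => I ^ a.val), Finset.prod_const, Finset.card_univ,
      Fintype.card_fin, show (∑ a : ZMod 2, I ^ a.val) = 1 + I from Fin.sum_univ_two _ |>.trans (by simp [ZMod.val]),
      show n + 2 = 4 * (k + 1) by omega, pow_mul]
    congr 1
  have hre : ∀ x : Fin (n + 2) → ZMod 2, (I ^ wtTwo x).re = if ∑ i, x i = 0 then sign2 (halfWt x) else 0 := by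
    intro x
    rw [re_I_pow]
    simp only [even_wtTwo_iff]
    split_ifs
    · rw [halfWt, sign2]
      rcases Nat.even_or_odd (wtTwo x / 2) with h | h
      · rw [h.neg_one_pow, (ZMod.natCast_eq_zero_iff_even).2 h, if_pos rfl]
      · rw [h.neg_one_pow, if_neg (fun e => Nat.not_even_iff_odd.2 h ((ZMod.natCast_eq_zero_iff_even).1 e))]
    · rfl
  have hRe : ∀ (s : Finset (Fin (n + 2) → ZMod 2)) (f : (Fin (n + 2) → ZMod 2) → GaussianInt),
      (∑ x ∈ s, f x).re = ∑ x ∈ s, (f x).re := by
    intro s f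
    induction s using Finset.induction_on with
    | empty => rfl
    | insert a t ha ih => rw [Finset.sum_insert ha, Finset.sum_insert ha, Zsqrtd.re_add, ih]
  have h1 := congrArg Zsqrtd.re htot
  rw [hRe] at h1
  simp only [hre, ← Finset.sum_filter] at h1
  -- even vectors are pairs (model vector, constant)
  have hev : Even n := Nat.even_iff.2 (by omega)
  have hbij : (∑ x ∈ Finset.univ.filter (fun x : Fin (n + 2) → ZMod 2 => ∑ i, x i = 0), sign2 (halfWt x)) =
      2 * signSum (evenQ n) := by
    have e : 2 * signSum (evenQ n) = ∑ p : (Fin n → ZMod 2) × ZMod 2, sign2 (evenQ n p.1) := by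
      rw [Fintype.sum_prod_type, signSum, Finset.mul_sum]
      simp
    rw [e]
    refine Finset.sum_bij' (fun x _ => (evenProj n x, x (Fin.last (n + 1))))
      (fun p _ => evenLift n p.1 + fun _ => p.2) (by simp) ?_ ?_ ?_ ?_
    · intro p _
      rw [Finset.mem_filter]
      refine ⟨Finset.mem_univ _, ?_⟩
      simp only [Pi.add_apply, Finset.sum_add_distrib, sum_evenLift, zero_add, Finset.sum_const, Finset.card_univ,
        Fintype.card_fin, nsmul_eq_mul]
      rw [(ZMod.natCast_eq_zero_iff_even).2 (Nat.even_iff.2 (by omega)), zero_mul]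
    · intro x hx
      rw [evenLift_proj n hev x (Finset.mem_filter.1 hx).2]
      funext i
      simp [add_assoc, zmod2_add_self]
    · intro p _
      refine Prod.ext ?_ ?_
      · show evenProj n _ = p.1
        rw [map_add, evenProj_lift, evenProj_const, add_zero]
      · simp [evenLift]
    · intro x hx
      rw [evenQ_proj (by omega) (Finset.mem_filter.1 hx).2]
  rw [hbij, ← Int.cast_pow, Zsqrtd.re_intCast] at h1
  have h2 : (-4 : ℤ) ^ (k + 1) = 2 * ((-1) ^ (k + 1) * 2 ^ (2 * k + 1)) := by
    rw [show (-4 : ℤ) = -1 * 2 ^ 2 by norm_num, mul_pow, ← pow_mul,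
      show 2 * (k + 1) = (2 * k + 1) + 1 by ring, pow_succ (2 : ℤ) (2 * k + 1)]
    ring
  omega

/-- The model as a quadratic form. -/
noncomputable def evenForm (n : ℕ) : QuadraticForm (ZMod 2) (Fin n → ZMod 2) where
  toFun := evenQ n
  toFun_smul a x := by
    rcases zmod2_cases a with rfl | rfl <;> simp [evenQ, halfWt, wtTwo]
  exists_companion' := ⟨(Matrix.toBilin' (1 : Matrix (Fin (n + 2)) (Fin (n + 2)) (ZMod 2))).compl₁₂ (evenLift n) (evenLift n),
    fun x y => by
      simp only [evenQ, map_add, halfWt_add (sum_evenLift n x) (sum_evenLift n y)]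
      simp [Matrix.toBilin'_apply', dotProduct]⟩

theorem evenForm_sep (n : ℕ) (hn : Even n) : PolarSep (evenForm n) := by
  intro y hy
  have h : ∀ z, ∑ i, evenLift n y i * evenLift n z i = 0 := fun z => by
    have := hy z
    change evenQ n (y + z) - evenQ n y - evenQ n z = 0 at this
    simp only [evenQ, map_add, halfWt_add (sum_evenLift n y) (sum_evenLift n z)] at this
    linear_combination this
  funext j
  let x : Fin (n + 2) → ZMod 2 := fun i =>
    (if i = j.castSucc.castSucc then 1 else 0) + (if i = Fin.last (n + 1) then 1 else 0)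
  have hx : ∑ i, x i = 0 := by simp [x, Finset.sum_add_distrib, zmod2_add_self]
  have := h (evenProj n x)
  rw [evenLift_proj n hn x hx] at this
  simp only [Pi.add_apply, mul_add, Finset.sum_add_distrib, ← Finset.sum_mul, sum_evenLift, zero_mul, add_zero] at this
  simp [x, mul_add, Finset.sum_add_distrib] at this
  simpa [evenLift] using this

end H44
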