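import Cfsg.Agent.H44.InvolModels
import Cfsg.Agent.H38.StdForms
import Cfsg.Agent.H38.InvolCent

/-!
Centralisers of involutions in hyperbolic orthogonal groups, characteristic two.
-/

set_option autoImplicit false

namespace H44.OCent

open H43 Matrix

section General

variable {F : Type*} [Field F] {V : Type*} [AddCommGroup V] [Module F V] [FiniteDimensional F V]
  {Q : QuadraticForm F V}

/-- Pointwise stabiliser of a family. -/
def fixO (Q : QuadraticForm F V) {ι : Type} (x : ι → V) : Subgroup (orthGroup Q) where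
  carrier := {g | ∀ i, g.1 (x i) = x i}
  mul_mem' {a b} ha hb i := by rw [orth_mul_apply, hb, ha]
  one_mem' i := orth_one_apply (x i)
  inv_mem' {a} ha i := by
    conv_lhs => rw [← ha i]
    exact orth_inv_apply_self a (x i)

omit [FiniteDimensional F V] in
theorem mem_fixO {ι : Type} {x : ι → V} {g : orthGroup Q} : g ∈ fixO Q x ↔ ∀ i, g.1 (x i) = x i :=
  Iff.rfl

omit [FiniteDimensional F V] in
theorem fixO_comp {ι κ : Type} (x : ι → V) (e : κ ≃ ι) : fixO Q (x ∘ e) = fixO Q x := by
  ext g
  exact ⟨fun h i => by simpa using h (e.symm i), fun h i => h (e i)⟩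

omit [FiniteDimensional F V] in
theorem card_fixO_of_map {ι : Type} (x y : ι → V) (g : orthGroup Q) (hg : ∀ i, g.1 (x i) = y i) :
    Nat.card (fixO Q x) = Nat.card (fixO Q y) := by
  refine Nat.card_congr ((MulAut.conj g).toEquiv.subtypeEquiv fun a => ?_)
  simp only [mem_fixO, MulEquiv.toEquiv_eq_coe, EquivLike.coe_coe, MulAut.conj_apply]
  refine forall_congr' fun i => ?_
  rw [← hg i, orth_mul_apply, orth_mul_apply, orth_inv_apply_self]
  exact g.1.injective.eq_iff.symm

theorem card_fixO_witt (hQ : (polB Q).Nondegenerate) {ι : Type} [Fintype ι] (x y : ι → V)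
    (hx : LinearIndependent F x) (hy : LinearIndependent F y) (hq : ∀ i, Q (x i) = Q (y i))
    (hp : ∀ i j, polB Q (x i) (x j) = polB Q (y i) (y j)) :
    Nat.card (fixO Q x) = Nat.card (fixO Q y) := by
  let e := (Fintype.equivFin ι).symm
  obtain ⟨g, hg⟩ := witt_family hQ (x ∘ e) (y ∘ e) (hx.comp _ e.injective) (hy.comp _ e.injective)
    (fun i => hq _) (fun i j => hp _ _)
  exact card_fixO_of_map x y g fun i => by simpa using hg (e.symm i)

/-- The centraliser is an extension of the isometry group of the Gram matrix. -/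
theorem card_cent [CharP F 2] (hQ : (polB Q).Nondegenerate) {ι : Type} [Fintype ι] [DecidableEq ι]
    {t : orthGroup Q} {x : ι → V} {G : Matrix ι ι F} (h : InvData t x G) :
    Nat.card (Subgroup.centralizer ({t} : Set (orthGroup Q))) =
      Nat.card {P : Matrix ι ι F // Pᵀ * G * P = G} * Nat.card (fixO Q x) := by
  have hC : ∀ g, g ∈ Subgroup.centralizer ({t} : Set (orthGroup Q)) ↔ g * t * g⁻¹ = t := fun g => by
    rw [Subgroup.mem_centralizer_singleton_iff, mul_inv_eq_iff_eq_mul]
  have hfix : fixO Q x ≤ Subgroup.centralizer ({t} : Set (orthGroup Q)) := fun g hg =>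
    (hC g).2 (h.data.conj_eq h.unit hg)
  rw [H48.card_eq_image_mul_stab _ (fixO Q x) (fun g i => g.1 (x i)) hfix (fun g _ k _ => by
    rw [funext_iff, mem_fixO]
    refine forall_congr' fun i => ?_
    rw [orth_mul_apply]
    constructor
    · intro e; rw [← e, orth_inv_apply_self]
    · intro e; conv_lhs => rw [← e, orth_apply_inv_self])]
  congr 1
  let ψ : {P : Matrix ι ι F // Pᵀ * G * P = G} → (ι → V) := fun P j => ∑ i, P.1 i j • x i
  have hψ : Function.Injective ψ := by
    intro P R e
    refine Subtype.ext (Matrix.ext fun i j => ?_)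
    have h1 : ∑ i, (P.1 i j - R.1 i j) • x i = 0 := by
      simp only [sub_smul, Finset.sum_sub_distrib]
      exact sub_eq_zero.2 (congrFun e j)
    exact sub_eq_zero.1 (Fintype.linearIndependent_iff.1 h.indep _ h1 i)
  have himg : (fun (g : orthGroup Q) i => g.1 (x i)) ''
      (Subgroup.centralizer ({t} : Set (orthGroup Q)) : Set (orthGroup Q)) = Set.range ψ := by
    apply Set.Subset.antisymm
    · rintro _ ⟨g, hg, rfl⟩
      have hd : IsData t (fun i => g.1 (x i)) G := by
        have h2 := h.data.conj g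
        rwa [(hC g).1 hg] at h2
      have hres := h.data.resid_eq hQ h.indep h.unit
      have hgi : LinearIndependent F fun i => g.1 (x i) :=
        h.indep.map' (g.1 : V →ₗ[F] V) (LinearEquiv.ker g.1)
      have hres' := hd.resid_eq hQ hgi h.unit
      have hex : ∀ j, ∃ c : ι → F, ∑ i, c i • x i = g.1 (x j) := fun j => by
        refine (Submodule.mem_span_range_iff_exists_fun F).1 ?_
        rw [← hres, hres']
        exact Submodule.subset_span ⟨j, rfl⟩
      choose c hc using hex
      refine ⟨⟨Matrix.of fun i j => c j i, ?_⟩, funext fun j => hc j⟩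
      set P : Matrix ι ι F := Matrix.of fun i j => c j i
      have hPx : ∀ j, g.1 (x j) = ∑ i, P i j • x i := fun j => (hc j).symm
      have key : ∀ d : ι → F, (Pᵀ * G * P) *ᵥ d = G *ᵥ d := by
        intro d
        have hmem : (∑ j, d j • g.1 (x j)) ∈ resid t := by
          rw [hres']
          exact Submodule.sum_mem _ fun j _ => Submodule.smul_mem _ _ (Submodule.subset_span ⟨j, rfl⟩)
        obtain ⟨v, hv⟩ := hmem
        obtain ⟨d', hd', hGd'⟩ := hd v
        have e1 : d' = d := by
          funext i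
          refine sub_eq_zero.1 (Fintype.linearIndependent_iff.1 hgi (fun i => d' i - d i) ?_ i)
          simp only [sub_smul, Finset.sum_sub_distrib]
          rw [← hd', hv, sub_self]
        obtain ⟨e, he, hGe⟩ := h.data v
        have e2 : e = P *ᵥ d := by
          funext i
          refine sub_eq_zero.1 (Fintype.linearIndependent_iff.1 h.indep
            (fun i => e i - (P *ᵥ d) i) ?_ i)
          simp only [sub_smul, Finset.sum_sub_distrib]
          rw [← he, hv, sub_eq_zero]
          simp only [mulVec, dotProduct, Finset.sum_smul, hPx, Finset.smul_sum, smul_smul]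
          rw [Finset.sum_comm]
          exact Finset.sum_congr rfl fun i _ => Finset.sum_congr rfl fun j _ => by rw [mul_comm]
        rw [← e1, hGd', e1, ← mulVec_mulVec, ← mulVec_mulVec, ← e2, hGe]
        funext j
        simp [hPx, mulVec, dotProduct, map_sum, transpose_apply]
      exact Matrix.ext_of_mulVec_single fun j => key _
    · rintro _ ⟨P, rfl⟩
      have h' := h.change P.1 rfl G h.unit P.2
      let e := (Fintype.equivFin ι).symm
      obtain ⟨g, hg⟩ := witt_family hQ (x ∘ e) (ψ P ∘ e) (h.indep.comp _ e.injective)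
        (h'.indep.comp _ e.injective) (fun i => (h.diag _).trans (h'.diag _).symm)
        (fun i j => (h.perp _ _).trans (h'.perp _ _).symm)
      have hgx : ∀ i, g.1 (x i) = ψ P i := fun i => by simpa using hg (e.symm i)
      have h2 := h.data.conj g
      simp only [hgx] at h2
      exact ⟨g, (hC g).2 (IsData.unique h.unit h2 h'.data), funext hgx⟩
  rw [himg, Nat.card_range_of_injective hψ]

omit [FiniteDimensional F V] in
theorem card_eq_two_mul {G : Type*} [Group G] (D : G →* Multiplicative (ZMod 2))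
    (C : Subgroup G) {r : G} (hr : r ∈ C) (hD : D r ≠ 1) :
    Nat.card C = 2 * Nat.card {g : G // D g = 1 ∧ g ∈ C} := by
  let f : C →* Multiplicative (ZMod 2) := D.comp C.subtype
  have hs : Function.Surjective f := by
    intro y
    rcases mulTwo_cases y with rfl | rfl
    · exact ⟨1, map_one f⟩
    · refine ⟨⟨r, hr⟩, ?_⟩
      rcases mulTwo_cases (D r) with e | e
      · exact absurd e hD
      · exact e
  have h := Subgroup.index_mul_card f.ker
  rw [Subgroup.index_ker, MonoidHom.range_eq_top.2 hs] at h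
  rw [← h]
  congr 1
  · simp
  · exact Nat.card_congr
      { toFun := fun g => ⟨g.1.1, g.2, g.1.2⟩
        invFun := fun g => ⟨⟨g.1, g.2.2⟩, g.2.1⟩
        left_inv := fun g => rfl
        right_inv := fun g => rfl }

end General

section Plus

variable {F : Type*} [Field F] [Fintype F]

local notation "qF" => Fintype.card F

/-- The standard singular family. -/
def sFam (F : Type*) [Field F] (m k : ℕ) (i : Fin k) : Fin m ⊕ Fin m → F :=
  Sum.elim (fun a : Fin m => if (a : ℕ) = i then 1 else 0) (fun _ => 0)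

omit [Fintype F] in
theorem sFam_inl {m k : ℕ} (i : Fin k) (a : Fin m) :
    sFam F m k i (Sum.inl a) = if (a : ℕ) = i then 1 else 0 := rfl

omit [Fintype F] in
theorem sFam_inr {m k : ℕ} (i : Fin k) (a : Fin m) : sFam F m k i (Sum.inr a) = 0 := by
  simp [sFam]

omit [Fintype F] in
theorem polB_sFam {m k : ℕ} (h : k ≤ m) (i : Fin k) (z : Fin m ⊕ Fin m → F) :
    polB (qPlus m F) (sFam F m k i) z = z (Sum.inr (Fin.castLE h i)) := by
  rw [polB_qPlus, Finset.sum_eq_single (Fin.castLE h i)]
  · simp [sFam_inl, sFam_inr]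
  · intro b _ hb
    simp [sFam_inr, sFam_inl, Fin.ext_iff] at hb ⊢
    simp [hb]
  · simp

omit [Fintype F] in
theorem qPlus_sFam {m k : ℕ} (i : Fin k) : qPlus m F (sFam F m k i) = 0 := by
  rw [coe_qPlus]
  simp [Cfsg.quadFormPlus, sFam_inr]

omit [Fintype F] in
theorem sFam_indep {m k : ℕ} (h : k ≤ m) : LinearIndependent F (sFam F m k) := by
  rw [Fintype.linearIndependent_iff]
  intro c hc i
  have := congrFun hc (Sum.inl (Fin.castLE h i))
  simpa [sFam_inl, Fin.val_inj, Finset.sum_apply] using this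

omit [Fintype F] in
theorem sFam_perp {m k : ℕ} (h : k ≤ m) (i j : Fin k) :
    polB (qPlus m F) (sFam F m k i) (sFam F m k j) = 0 := by
  rw [polB_sFam h, sFam_inr]

omit [Fintype F] in
theorem sFam_snoc (m k : ℕ) : Fin.snoc (sFam F m k) (sFam F m (k + 1) (Fin.last k)) = sFam F m (k + 1) := by
  funext i
  induction i using Fin.lastCases with
  | last => simp
  | cast i => rw [Fin.snoc_castSucc]; rfl

/-- Perpendicular of the standard singular family. -/
def perpEquiv (k r : ℕ) (p : (Fin r ⊕ Fin r → F) → Prop) :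
    {z : Fin (k + r) ⊕ Fin (k + r) → F // (∀ i : Fin k, z (Sum.inr (Fin.castAdd r i)) = 0) ∧
      p (fun j : Fin r ⊕ Fin r => z (Sum.map (Fin.natAdd k) (Fin.natAdd k) j))} ≃
    (Fin k → F) × {v : Fin r ⊕ Fin r → F // p v} where
  toFun z := (fun i => z.1 (Sum.inl (Fin.castAdd r i)), ⟨_, z.2.2⟩)
  invFun y := ⟨Sum.elim (Fin.append y.1 fun i => y.2.1 (Sum.inl i))
      (Fin.append (fun _ => 0) fun i => y.2.1 (Sum.inr i)),
    fun i => by simp, by
      convert y.2.2 using 1
      funext j; cases j <;> simp⟩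
  left_inv z := by
    apply Subtype.ext
    funext j
    rcases j with a | a <;> induction a using Fin.addCases <;> simp [z.2.1]
  right_inv y := by
    refine Prod.ext ?_ (Subtype.ext ?_)
    · funext i; simp
    · funext j; cases j <;> simp

omit [Fintype F] in
theorem qPlus_split (k r : ℕ) (z : Fin (k + r) ⊕ Fin (k + r) → F)
    (hz : ∀ i : Fin k, z (Sum.inr (Fin.castAdd r i)) = 0) :
    qPlus (k + r) F z = qPlus r F (fun j : Fin r ⊕ Fin r => z (Sum.map (Fin.natAdd k) (Fin.natAdd k) j)) := by
  rw [coe_qPlus, coe_qPlus]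
  simp [Cfsg.quadFormPlus, Fin.sum_univ_add, hz]

omit [Fintype F] in
theorem mem_span_sFam (k r : ℕ) (z : Fin (k + r) ⊕ Fin (k + r) → F) :
    z ∈ Submodule.span F (Set.range (sFam F (k + r) k)) ↔
      (∀ i : Fin k, z (Sum.inr (Fin.castAdd r i)) = 0) ∧
        (fun j : Fin r ⊕ Fin r => z (Sum.map (Fin.natAdd k) (Fin.natAdd k) j)) = 0 := by
  constructor
  · intro hz
    obtain ⟨c, rfl⟩ := (Submodule.mem_span_range_iff_exists_fun F).1 hz
    refine ⟨fun i => by simp [sFam_inr, Finset.sum_apply], funext fun j => ?_⟩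
    cases j with
    | inl a => simp [sFam_inl, Finset.sum_apply]; exact Finset.sum_eq_zero fun i _ => if_neg (by omega)
    | inr a => simp [sFam_inr, Finset.sum_apply]
  · rintro ⟨h1, h2⟩
    refine (Submodule.mem_span_range_iff_exists_fun F).2 ⟨fun i => z (Sum.inl (Fin.castAdd r i)), ?_⟩
    funext j
    have e1 : ∀ a : Fin r, z (Sum.inl (Fin.natAdd k a)) = 0 := fun a => congrFun h2 (Sum.inl a)
    have e2 : ∀ a : Fin r, z (Sum.inr (Fin.natAdd k a)) = 0 := fun a => congrFun h2 (Sum.inr a)
    rcases j with a | a <;> induction a using Fin.addCases <;>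
      simp [sFam_inl, sFam_inr, Finset.sum_apply, h1, e1, e2, Fin.val_inj]
    exact Finset.sum_eq_zero fun i _ => if_neg (by omega)

theorem card_fixO_succ_aux {k m : ℕ} (h : k ≤ m) (z₀ : Fin m ⊕ Fin m → F)
    (hp : ∀ i, polB (qPlus m F) (sFam F m k i) z₀ = 0)
    (hn : z₀ ∉ Submodule.span F (Set.range (sFam F m k))) :
    Nat.card (fixO (qPlus m F) (sFam F m k)) =
      Nat.card {z : Fin m ⊕ Fin m → F // (∀ i, polB (qPlus m F) (sFam F m k i) z = 0) ∧
        qPlus m F z = qPlus m F z₀ ∧ z ∉ Submodule.span F (Set.range (sFam F m k))} *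
      Nat.card (fixO (qPlus m F) (Fin.snoc (sFam F m k) z₀)) := by
  set S := sFam F m k
  rw [H48.card_eq_image_mul_stab (fixO (qPlus m F) S) (fixO (qPlus m F) (Fin.snoc S z₀))
    (fun g => g.1 z₀) (fun g hg i => by simpa using hg i.castSucc) (fun g hg a ha => by
      constructor
      · intro e i
        induction i using Fin.lastCases with
        | last => rw [Fin.snoc_last, orth_mul_apply, ← e, orth_inv_apply_self]
        | cast i =>
          rw [Fin.snoc_castSucc, orth_mul_apply, ha i]
          exact (fixO (qPlus m F) S).inv_mem hg i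
      · intro e
        have := e (Fin.last k)
        rw [Fin.snoc_last, orth_mul_apply] at this
        conv_lhs => rw [← this]
        rw [orth_apply_inv_self])]
  congr 1
  refine Nat.card_congr (Equiv.setCongr ?_)
  ext z
  constructor
  · rintro ⟨g, hg, rfl⟩
    refine ⟨fun i => ?_, orth_qmap g z₀, fun hmem => hn ?_⟩
    · rw [← hg i, orth_polB_map, hp]
    · obtain ⟨c, hc⟩ := (Submodule.mem_span_range_iff_exists_fun F).1 hmem
      refine (Submodule.mem_span_range_iff_exists_fun F).2 ⟨c, g.1.injective ?_⟩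
      rw [map_sum]
      exact (Finset.sum_congr rfl fun i _ => by rw [map_smul, hg i]).trans hc
  · rintro ⟨h1, h2, h3⟩
    have hS : ∀ i j, polB (qPlus m F) (S i) (S j) = 0 := sFam_perp h
    obtain ⟨g, hg⟩ := witt_family (qPlus_nondeg m) (Fin.snoc S z₀) (Fin.snoc S z)
      ((sFam_indep h).finSnoc hn) ((sFam_indep h).finSnoc h3)
      (fun i => by induction i using Fin.lastCases <;> simp [h2])
      (fun i j => by
        induction i using Fin.lastCases <;> induction j using Fin.lastCases <;>
          simp [hp, h1, hS, polB_comm (z₀ : Fin m ⊕ Fin m → F) (S _), polB_comm z (S _), polB_self, h2])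
    exact ⟨g, fun i => by simpa using hg i.castSucc, by simpa using hg (Fin.last k)⟩

theorem card_perp_level (k r : ℕ) (c : F) :
    Nat.card {z : Fin (k + r) ⊕ Fin (k + r) → F //
      (∀ i, polB (qPlus (k + r) F) (sFam F (k + r) k i) z = 0) ∧
        qPlus (k + r) F z = c ∧ z ∉ Submodule.span F (Set.range (sFam F (k + r) k))} =
      qF ^ k * Nat.card {v : Fin r ⊕ Fin r → F // qPlus r F v = c ∧ v ≠ 0} := by
  have e1 : Nat.card (Fin k → F) = qF ^ k := by simp
  rw [← e1, ← Nat.card_prod, ← Nat.card_congr (perpEquiv k r fun v => qPlus r F v = c ∧ v ≠ 0)]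
  refine Nat.card_congr (Equiv.subtypeEquivRight fun z => ?_)
  simp only [polB_sFam (Nat.le_add_right k r)]
  refine and_congr_right fun hz => ?_
  rw [qPlus_split k r z hz, mem_span_sFam, not_and]
  exact and_congr_right' ⟨fun h => h hz, fun h _ => h⟩

theorem card_zero_level (r : ℕ) :
    Nat.card {v : Fin (r + 1) ⊕ Fin (r + 1) → F // qPlus (r + 1) F v = 0 ∧ v ≠ 0} =
      (qF ^ (r + 1) - 1) * (qF ^ r + 1) := by
  classical
  rw [← H38.plus_nonzero_zeros, coe_qPlus, Nat.card_eq_fintype_card, Nat.card_eq_fintype_card,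
    Fintype.card_subtype, Fintype.card_subtype,
    show (Finset.univ.filter fun v : Fin (r + 1) ⊕ Fin (r + 1) → F =>
        Cfsg.quadFormPlus (r + 1) F v = 0 ∧ v ≠ 0) =
      (Finset.univ.filter fun v => Cfsg.quadFormPlus (r + 1) F v = 0).erase 0 by ext; simp [and_comm],
    Finset.card_erase_of_mem (Finset.mem_filter.2 ⟨Finset.mem_univ _, by simp [Cfsg.quadFormPlus]⟩)]

theorem card_one_level (r : ℕ) :
    qF * Nat.card {v : Fin r ⊕ Fin r → F // qPlus r F v = 1 ∧ v ≠ 0} + qF ^ r = qF ^ (2 * r) := by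
  classical
  have hc : ∀ n, Nat.card {v : Fin n ⊕ Fin n → F // qPlus n F v = 1 ∧ v ≠ 0} =
      Nat.card {u // H38.hypPow (H38.nilForm F) n u = 1} := fun n => by
    refine Nat.card_congr ((H38.plusEquiv F n).toEquiv.subtypeEquiv fun v => ?_)
    rw [LinearEquiv.coe_toEquiv, H38.plusEquiv_form, coe_qPlus]
    exact ⟨And.left, fun h => ⟨h, fun h0 => by simp [h0, Cfsg.quadFormPlus] at h⟩⟩
  rw [hc]
  induction r with
  | zero =>
    have : IsEmpty {u // H38.hypPow (H38.nilForm F) 0 u = 1} := ⟨fun u => by simpa [H38.nilForm] using u.2⟩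
    rw [Nat.card_of_isEmpty]
    simp
  | succ n ih =>
    rw [Nat.card_congr ((H38.hypPowSucc n).toEquiv.subtypeEquiv
      (q := fun u => H38.hyp (H38.hypPow (H38.nilForm F) n) u = 1)
      (fun v => by simp [-H38.hyp_apply, -H38.hypPow_apply, H38.hyp_hypPowSucc])), H38.card_hyp_level,
      H38.natCard_hypPow_space, show Nat.card (Fin 0 → F) = 1 from Nat.card_unique, one_mul, Nat.card_eq_fintype_card (α := F)]
    obtain ⟨u, hu⟩ := Nat.exists_eq_add_of_le (Fintype.card_pos (α := F))
    rw [hu] at ih ⊢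
    rw [Nat.add_sub_cancel_left, show 2 * (n + 1) = 2 * n + 2 by ring, pow_add _ (2 * n) 2, pow_succ]
    have := congrArg (fun y => y * (1 + u)) ih
    ring_nf at this ⊢
    linarith

/-- `|O+_{2r}|`. -/
def plusOrder (Q : ℕ) : ℕ → ℕ
  | 0 => 1
  | r + 1 => 2 * Q ^ (r * (r + 1)) * (Q ^ (r + 1) - 1) * ∏ i ∈ Finset.range r, (Q ^ (2 * (i + 1)) - 1)

theorem plusOrder_succ (Q r : ℕ) (hr : 1 ≤ r) :
    plusOrder Q (r + 1) = (Q ^ (r + 1) - 1) * (Q ^ r + 1) * Q ^ (2 * r) * plusOrder Q r := by
  obtain ⟨n, rfl⟩ := Nat.exists_eq_add_of_le hr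
  rw [show 1 + n = n + 1 by ring]
  simp only [plusOrder, Finset.prod_range_succ]
  rw [show Q ^ (2 * (n + 1)) - 1 = (Q ^ (n + 1) + 1) * (Q ^ (n + 1) - 1) by
      simpa [two_mul, pow_add, sq] using Nat.sq_sub_sq (Q ^ (n + 1)) 1,
    show (n + 1) * (n + 1 + 1) = n * (n + 1) + 2 * (n + 1) by ring, pow_add]
  ring

theorem card_orth_plus (n : ℕ) : Nat.card (orthGroup (qPlus n F)) = plusOrder qF n := by
  rcases n with - | n
  · have : Subsingleton (orthGroup (qPlus 0 F)) := ⟨fun a b => orth_ext fun v => Subsingleton.elim _ _⟩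
    simp [plusOrder]
  · rw [← Nat.card_congr (toOrth (qPlus (n + 1) F)).toEquiv, coe_qPlus, H38.card_plus]
    rfl

theorem card_fixO_sing (k : ℕ) : ∀ r, Nat.card (fixO (qPlus (k + r) F) (sFam F (k + r) k)) =
    qF ^ (2 * k * r + k.choose 2) * plusOrder qF r := by
  induction k with
  | zero =>
    intro r
    rw [show fixO (qPlus (0 + r) F) (sFam F (0 + r) 0) = ⊤ from
      top_unique fun g _ i => i.elim0, Subgroup.card_top, card_orth_plus]
    simp
  | succ k ih =>
    intro r
    have h := card_fixO_succ_aux (F := F) (k := k) (m := k + (r + 1)) (by omega)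
      (sFam F (k + (r + 1)) (k + 1) (Fin.last k))
      (fun i => by rw [polB_sFam (by omega), sFam_inr])
      (fun hmem => by
        have h1 := congrFun ((mem_span_sFam k (r + 1) _).1 hmem).2 (Sum.inl 0)
        simp [sFam_inl] at h1)
    rw [qPlus_sFam, card_perp_level, card_zero_level, sFam_snoc, ih (r + 1)] at h
    rw [show k + 1 + r = k + (r + 1) by omega]
    have hpos : 0 < qF ^ k * ((qF ^ (r + 1) - 1) * (qF ^ r + 1)) := by
      have : 1 < qF ^ (r + 1) := Nat.one_lt_pow (by omega) Fintype.one_lt_card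
      exact Nat.mul_pos (pow_pos Fintype.card_pos k) (Nat.mul_pos (Nat.sub_pos_of_lt this) (Nat.succ_pos _))
    apply Nat.eq_of_mul_eq_mul_left hpos
    rw [← h, Nat.choose_succ_succ', Nat.choose_one_right]
    rcases Nat.eq_zero_or_pos r with rfl | hr
    · simp [plusOrder]; ring
    · rw [plusOrder_succ qF r hr]; ring

theorem card_fixO_one [CharP F 2] (k r : ℕ) :
    ∃ y : Fin (k + 1) → Fin (k + (r + 1)) ⊕ Fin (k + (r + 1)) → F, LinearIndependent F y ∧
      (∀ i, qPlus (k + (r + 1)) F (y i) = 1) ∧ (∀ i j, polB (qPlus (k + (r + 1)) F) (y i) (y j) = 0) ∧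
      qF ^ k * Nat.card (fixO (qPlus (k + (r + 1)) F) y) =
        qF ^ (2 * k * (r + 1) + k.choose 2) * (2 * qF ^ (r * r) * ∏ i ∈ Finset.range r, (qF ^ (2 * (i + 1)) - 1)) := by
  set m := k + (r + 1) with hm
  set S := sFam F m k
  set a := plusOne (F := F) m (Fin.natAdd k 0) with ha
  have hSa : ∀ i, polB (qPlus m F) (S i) a = 0 := fun i => by
    rw [polB_sFam (by omega), ha]
    simp [plusOne, Pi.single_apply, Fin.ext_iff]
    omega
  have hqa : qPlus m F a = 1 := qPlus_plusOne m _
  have hna : a ∉ Submodule.span F (Set.range S) := fun hmem => by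
    have h1 := congrFun ((mem_span_sFam k (r + 1) _).1 hmem).2 (Sum.inl 0)
    simp [ha, plusOne] at h1
  have haa : polB (qPlus m F) a a = 0 := polB_self_char2 a
  have hSS : ∀ i j, polB (qPlus m F) (S i) (S j) = 0 := sFam_perp (by omega)
  let y : Fin (k + 1) → Fin m ⊕ Fin m → F := Fin.snoc (fun i => S i + a) a
  refine ⟨y, ?_, fun i => ?_, fun i j => ?_, ?_⟩
  · rw [Fintype.linearIndependent_iff]
    intro c hc
    have hsn := (sFam_indep (F := F) (show k ≤ m by omega)).finSnoc hna
    have := Fintype.linearIndependent_iff.1 hsn (Fin.snoc (fun i => c i.castSucc)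
      ((∑ i : Fin k, c i.castSucc) + c (Fin.last k))) (by
        rw [Fin.sum_univ_castSucc] at hc ⊢
        simp only [y, Fin.snoc_castSucc, Fin.snoc_last, smul_add, Finset.sum_add_distrib] at hc ⊢
        rw [add_smul, Finset.sum_smul, ← hc, add_assoc])
    have h1 : ∀ i : Fin k, c i.castSucc = 0 := fun i => by simpa using this i.castSucc
    intro i
    induction i using Fin.lastCases with
    | last => simpa [h1] using this (Fin.last k)
    | cast i => exact h1 i
  · induction i using Fin.lastCases with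
    | last => simp [y, hqa]
    | cast i => simp [y, qmap_add, hqa, hSa, S, qPlus_sFam]
  · induction i using Fin.lastCases <;> induction j using Fin.lastCases <;>
      simp [y, hSa, hSS, haa, polB_comm a (S _)]
  · have h := card_fixO_succ_aux (F := F) (show k ≤ m by omega) a hSa hna
    rw [hqa, card_perp_level, card_fixO_sing] at h
    have he : fixO (qPlus m F) (Fin.snoc S a) = fixO (qPlus m F) y := by
      ext g
      constructor
      · intro hg i
        have h0 : g.1 a = a := by simpa using hg (Fin.last k)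
        induction i using Fin.lastCases with
        | last => simpa [y] using h0
        | cast i =>
          have h1 : g.1 (S i) = S i := by simpa using hg i.castSucc
          simp [y, h1, h0]
      · intro hg i
        have h0 : g.1 a = a := by simpa [y] using hg (Fin.last k)
        induction i using Fin.lastCases with
        | last => simpa using h0
        | cast i => simpa [y, h0] using hg i.castSucc
    rw [he] at h
    have hlev := card_one_level (F := F) (r + 1)
    set L := Nat.card {v : Fin (r + 1) ⊕ Fin (r + 1) → F // qPlus (r + 1) F v = 1 ∧ v ≠ 0}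
    have hL : L = qF ^ r * (qF ^ (r + 1) - 1) := by
      apply Nat.eq_of_mul_eq_mul_left (Fintype.card_pos (α := F))
      rw [← mul_assoc, ← pow_succ', Nat.mul_sub, mul_one, ← pow_add,
        show r + 1 + (r + 1) = 2 * (r + 1) by ring, ← hlev, Nat.add_sub_cancel]
    rw [hL] at h
    have hpos : 0 < qF ^ r * (qF ^ (r + 1) - 1) :=
      Nat.mul_pos (pow_pos Fintype.card_pos r)
        (Nat.sub_pos_of_lt (Nat.one_lt_pow (by omega) Fintype.one_lt_card))
    apply Nat.eq_of_mul_eq_mul_left hpos
    calc _ = qF ^ k * (qF ^ r * (qF ^ (r + 1) - 1)) * Nat.card (fixO (qPlus m F) y) := by ring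
      _ = _ := by
        rw [← h, plusOrder, show r * (r + 1) = r * r + r by ring, pow_add _ (r * r) r]
        ring

end Plus

section Main

variable {F : Type*} [Field F] [Fintype F] [CharP F 2]

local notation "qF" => Fintype.card F

/-- Non-alternating involutions. -/
theorem card_cent_one {k r : ℕ} {t : orthGroup (qPlus (k + (r + 1)) F)} (ht : t * t = 1)
    (hna : ¬ IsAlt t) (hs : Module.finrank F (resid t) = k + 1) :
    qF ^ k * Nat.card (Subgroup.centralizer ({t} : Set (orthGroup (qPlus (k + (r + 1)) F)))) =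
      Nat.card (H38.IdOrth.Orth F (k + 1)) * (qF ^ (2 * k * (r + 1) + k.choose 2) *
        (2 * qF ^ (r * r) * ∏ i ∈ Finset.range r, (qF ^ (2 * (i + 1)) - 1))) := by
  have hQ := qPlus_nondeg (F := F) (k + (r + 1))
  obtain ⟨x, G, hd⟩ := exists_invData hQ ht
  have hne : ∃ i, G i i ≠ 0 := by
    by_contra hcon
    push Not at hcon
    exact hna ((hd.isAlt_iff hQ).2 hcon)
  have hsq : ∀ a : F, ∃ b, b * b = a := fun a =>
    (isSquare_of_two_eq_zero CharTwo.two_eq_zero a).imp fun r hr => hr.symm
  obtain ⟨P, -, hP⟩ := H48.exists_congr_one hsq _ _ _ (Fintype.card_fin _) hd.symm hd.unit hne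
  have h := hd.change P rfl _ isUnit_one hP
  clear hd hne hP
  revert h
  generalize (fun j => ∑ i, P i j • x i) = z
  clear P x G
  revert z
  rw [hs]
  intro z hz
  obtain ⟨y, hy, hy1, hy0, hcard⟩ := card_fixO_one (F := F) k r
  rw [card_cent hQ hz, card_fixO_witt hQ z y hz.indep hy (fun i => by rw [hz.diag, hy1, one_apply_eq])
    (fun i j => by rw [hz.perp, hy0]), mul_left_comm, hcard]
  congr 1
  exact Nat.card_congr (Equiv.subtypeEquivRight fun Q => by rw [Matrix.mul_one])

/-- Alternating involutions. -/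
theorem card_cent_alt {a r : ℕ} {t : orthGroup (qPlus (2 * a + r) F)} (ht : t * t = 1)
    (halt : IsAlt t) (hs : Module.finrank F (resid t) = 2 * a) :
    Nat.card (Subgroup.centralizer ({t} : Set (orthGroup (qPlus (2 * a + r) F)))) =
      Nat.card (Matrix.symplecticGroup (Fin a) F) *
        (qF ^ (2 * (2 * a) * r + (2 * a).choose 2) * plusOrder qF r) := by
  have hQ := qPlus_nondeg (F := F) (2 * a + r)
  obtain ⟨x, G, hd⟩ := exists_invData hQ ht
  obtain ⟨a', P, ha, hP⟩ := H48.exists_congr_J G hd.symm hd.unit ((hd.isAlt_iff hQ).1 halt)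
  rw [Fintype.card_fin] at ha
  obtain rfl : a' = a := by omega
  have hJ : IsUnit (Matrix.J (Fin a') F) :=
    (Matrix.isUnit_iff_isUnit_det _).2 (Matrix.isUnit_det_J _ _)
  have h := hd.change P (by simp; omega) _ hJ hP
  set z := fun j => ∑ i, P i j • x i
  let e : Fin a' ⊕ Fin a' ≃ Fin (2 * a') := finSumFinEquiv.trans (finCongr (two_mul a').symm)
  have hdiag : ∀ i, (Matrix.J (Fin a') F) i i = 0 := by rintro (i | i) <;> simp [Matrix.J]
  rw [card_cent hQ h, ← fixO_comp z e.symm, card_fixO_witt hQ (z ∘ e.symm) (sFam F (2 * a' + r) (2 * a'))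
    (h.indep.comp _ e.symm.injective) (sFam_indep (Nat.le_add_right _ _))
    (fun i => by rw [Function.comp_apply, h.diag, hdiag, qPlus_sFam])
    (fun i j => by rw [Function.comp_apply, Function.comp_apply, h.perp, sFam_perp (Nat.le_add_right _ _)]),
    card_fixO_sing]
  congr 1
  refine Nat.card_congr
    { toFun := fun Q => ⟨Q.1ᵀ, by rw [SymplecticGroup.mem_iff, Matrix.transpose_transpose]; exact Q.2⟩
      invFun := fun A => ⟨A.1ᵀ, by
        rw [Matrix.transpose_transpose]; exact SymplecticGroup.mem_iff.1 A.2⟩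
      left_inv := fun Q => Subtype.ext (Matrix.transpose_transpose _)
      right_inv := fun A => Subtype.ext (Matrix.transpose_transpose _) }

/-- Centralising elements of the commutator subgroup. -/
theorem card_omega_eq {m : ℕ} (hq : qF ≠ 2 ∨ m ≠ 2)
    (x : Cfsg.isometryGroup F (Cfsg.quadFormPlus m F)) :
    ∃ t : orthGroup (qPlus m F), (x ^ 2 = 1 → t * t = 1) ∧ (x ≠ 1 → t ≠ 1) ∧
      Module.finrank F (resid t) =
        (((x : Matrix.GeneralLinearGroup (Fin m ⊕ Fin m) F) : Matrix (Fin m ⊕ Fin m) (Fin m ⊕ Fin m) F) - 1).rank ∧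
      (IsAlt t ↔ ∀ v, Cfsg.quadFormPlus m F ((((x : Matrix.GeneralLinearGroup (Fin m ⊕ Fin m) F) :
        Matrix (Fin m ⊕ Fin m) (Fin m ⊕ Fin m) F) - 1).mulVec v) = 0) ∧
      Nat.card {g : ↥(Cfsg.Omega F (Cfsg.quadFormPlus m F)) //
        (g : ↥(Cfsg.isometryGroup F (Cfsg.quadFormPlus m F))) * x = x * g} =
        Nat.card {g : orthGroup (qPlus m F) // dickson g = 1 ∧
          g ∈ Subgroup.centralizer ({t} : Set (orthGroup (qPlus m F)))} := by
  revert x
  rw [← coe_qPlus]
  intro x
  refine ⟨toOrth _ x, fun h => by rw [← map_mul, ← sq, h, map_one], fun h e => h ?_,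
    finrank_resid_toOrth x, ?_, ?_⟩
  · exact (toOrth _).injective (e.trans (map_one _).symm)
  · rw [IsAlt, resid_toOrth]
    constructor
    · exact fun h v => h _ ⟨v, Matrix.toLin'_apply _ v⟩
    · rintro h _ ⟨v, rfl⟩
      rw [Matrix.toLin'_apply]; exact h v
  · have hmem : ∀ g, g ∈ Cfsg.Omega F ⇑(qPlus m F) ↔ dickson (toOrth (qPlus m F) g) = 1 := fun g => by
      rw [mem_Omega_iff, mem_commutator_iff_char2 CharTwo.two_eq_zero (qPlus_nondeg m) (closure_qPlus hq)]
    have hcen : ∀ g, toOrth (qPlus m F) g ∈ Subgroup.centralizer {toOrth (qPlus m F) x} ↔ g * x = x * g :=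
      fun g => by
        rw [Subgroup.mem_centralizer_singleton_iff, ← map_mul, ← map_mul, EquivLike.apply_eq_iff_eq]
    exact Nat.card_congr
      { toFun := fun g => ⟨toOrth _ g.1.1, (hmem _).1 g.1.2, (hcen _).2 g.2⟩
        invFun := fun g => ⟨⟨(toOrth _).symm g.1, (hmem _).2 (by simpa using g.2.1)⟩,
          (hcen _).1 (by simpa using g.2.2)⟩
        left_inv := fun g => by simp
        right_inv := fun g => by simp }

/-- Away from the extremal class half of the centraliser lies in the commutator subgroup. -/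
theorem two_mul_omega {m : ℕ} (hq : qF ≠ 2 ∨ m ≠ 2) {t : orthGroup (qPlus m F)} (ht : t * t = 1)
    (ht1 : t ≠ 1) (hne : ¬ (IsAlt t ∧ Module.finrank F (resid t) = m)) :
    Nat.card (Subgroup.centralizer ({t} : Set (orthGroup (qPlus m F)))) =
      2 * Nat.card {g : orthGroup (qPlus m F) // dickson g = 1 ∧
        g ∈ Subgroup.centralizer ({t} : Set (orthGroup (qPlus m F)))} := by
  have hQ := qPlus_nondeg (F := F) m
  obtain ⟨v, hv, hvt⟩ := exists_refl_commute hQ (finrank_qPlus m) ht ht1 hne
  exact card_eq_two_mul (MonoidHom.mk' dickson (dickson_mul_of_closure hQ (closure_qPlus hq))) _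
    (r := refl (qPlus m F) v)
    (Subgroup.mem_centralizer_singleton_iff.2 (mul_inv_eq_iff_eq_mul.1 hvt))
    (by simp [dickson_refl hQ hv])

/-- In the extremal class the centraliser lies in the commutator subgroup. -/
theorem omega_extremal {m : ℕ} (hq : qF ≠ 2 ∨ m ≠ 2) {t : orthGroup (qPlus m F)} (ht : t * t = 1)
    (halt : IsAlt t) (hs : Module.finrank F (resid t) = m) :
    Nat.card {g : orthGroup (qPlus m F) // dickson g = 1 ∧
        g ∈ Subgroup.centralizer ({t} : Set (orthGroup (qPlus m F)))} =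
      Nat.card (Subgroup.centralizer ({t} : Set (orthGroup (qPlus m F)))) := by
  refine Nat.card_congr (Equiv.subtypeEquivRight fun g => and_iff_right_of_imp fun hg => ?_)
  rw [dickson_iff_inter (qPlus_nondeg m) (reflGenerates_of_card (hq.imp id fun h => by rw [finrank_qPlus]; omega)) (finrank_qPlus m)
    ht halt hs g, mul_inv_eq_iff_eq_mul.2 (Subgroup.mem_centralizer_singleton_iff.1 hg), inf_idem, hs]
  exact hs ▸ even_of_isAlt (qPlus_nondeg m) ht halt

end Main

end H44.OCent
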