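import Cfsg.Agent.H44.InvolCount
import Cfsg.Agent.H43.Bridge
import Cfsg.Agent.H44.Basic

/-!
The hyperbolic and elliptic models for involutions in characteristic two, and the transfer to matrices.
-/

set_option autoImplicit false

namespace H44

open H43 Matrix

variable {F : Type*} [Field F]

/-- `e_i + f_i` in the hyperbolic space. -/
def plusOne (m : ℕ) (i : Fin m) : Fin m ⊕ Fin m → F := Pi.single (Sum.inl i) 1 + Pi.single (Sum.inr i) 1

theorem plusOne_indep (m : ℕ) : LinearIndependent F (plusOne (F := F) m) := by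
  rw [Fintype.linearIndependent_iff]
  intro c hc i
  have := congrFun hc (Sum.inl i)
  simpa [plusOne, Finset.sum_apply, Pi.single_apply] using this

theorem plusHalf_indep (m : ℕ) :
    LinearIndependent F (fun i : Fin m => (Pi.single (Sum.inl i) 1 : Fin m ⊕ Fin m → F)) := by
  rw [Fintype.linearIndependent_iff]
  intro c hc i
  have := congrFun hc (Sum.inl i)
  simpa [Finset.sum_apply, Pi.single_apply] using this

theorem qPlus_plusOne (m : ℕ) (i : Fin m) : qPlus m F (plusOne m i) = 1 := by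
  rw [coe_qPlus]
  simp [Cfsg.quadFormPlus, plusOne, Pi.single_apply]

theorem qPlus_single (m : ℕ) (i : Fin m) : qPlus m F (Pi.single (Sum.inl i) 1) = 0 := by
  rw [coe_qPlus]
  simp [Cfsg.quadFormPlus, Pi.single_apply]

theorem polB_plusOne [CharP F 2] (m : ℕ) (i j : Fin m) : polB (qPlus m F) (plusOne m i) (plusOne m j) = 0 := by
  rw [polB_qPlus]
  simp [plusOne, Pi.single_apply, CharTwo.add_self_eq_zero]

/-- The hyperbolic model. -/
theorem involModel_plus [Fintype F] [CharP F 2] (m : ℕ) :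
    InvolModel (qPlus m F) m m where
  nondeg := qPlus_nondeg m
  dim := finrank_qPlus m
  one s hs hs' := exists_type_one (qPlus_nondeg m) (plusOne m) (plusOne_indep m) (polB_plusOne m)
    (qPlus_plusOne m) hs (by simpa using hs')
  alt r hr := exists_type_alt (qPlus_nondeg m) (fun i : Fin m => (Pi.single (Sum.inl i) 1 : Fin m ⊕ Fin m → F))
    (plusHalf_indep m) (fun i j => by rw [polB_qPlus]; simp [Pi.single_apply]) (qPlus_single m) (by simpa using hr)
  le := le_rfl
  bound t ht _ := by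
    have h := finrank_resid_le (qPlus_nondeg m) ht
    rw [finrank_qPlus] at h
    omega

/-- The elliptic norm-one family. -/
def minusOne (m : ℕ) : Fin m ⊕ Unit → ((Fin m ⊕ Fin m) ⊕ Fin 2 → F) :=
  Sum.elim (fun i => Pi.single (Sum.inl (Sum.inl i)) 1 + Pi.single (Sum.inl (Sum.inr i)) 1)
    (fun _ => Pi.single (Sum.inr 0) 1)

theorem qMinus_singular_le (m : ℕ) {a b : F}
    (hab : ∀ z₁ z₂ : F, z₁ ^ 2 + a * z₁ * z₂ + b * z₂ ^ 2 = 0 → z₁ = 0 ∧ z₂ = 0)
    (U : Submodule F ((Fin m ⊕ Fin m) ⊕ Fin 2 → F)) (hU : ∀ u ∈ U, qMinus m F a b u = 0) :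
    Module.finrank F U ≤ m := by
  refine finrank_le_of_totally_singular (LinearMap.funLeft F F (fun i : Fin m => Sum.inl (Sum.inl i)))
    (LinearMap.funLeft F F (fun i : Fin m => Sum.inl (Sum.inr i))) (LinearMap.funLeft F F (Sum.inr : Fin 2 → _))
    (fun v h1 h2 h3 => ?_) ⇑(qMinus m F a b) ⇑(binForm a b) (binForm_anisotropic hab) (fun v => ?_) U hU
  · funext i
    rcases i with (i | i) | i
    · exact congrFun h1 i
    · exact congrFun h2 i
    · exact congrFun h3 i
  · rw [coe_qMinus, binForm_apply]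
    simp [Cfsg.quadFormMinus, dotProduct, LinearMap.funLeft]

/-- The elliptic model. -/
theorem involModel_minus [Fintype F] [CharP F 2] (m : ℕ) {a b : F}
    (hab : ∀ z₁ z₂ : F, z₁ ^ 2 + a * z₁ * z₂ + b * z₂ ^ 2 = 0 → z₁ = 0 ∧ z₂ = 0) :
    InvolModel (qMinus m F a b) (m + 1) m where
  nondeg := qMinus_nondeg m hab
  dim := by rw [finrank_qMinus]; ring
  one s hs hs' := by
    refine exists_type_one (qMinus_nondeg m hab) (minusOne m) ?_ ?_ ?_ hs (by simpa using hs')
    · rw [Fintype.linearIndependent_iff]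
      intro c hc i
      rcases i with i | ⟨⟩
      · have := congrFun hc (Sum.inl (Sum.inl i))
        simpa [minusOne, Finset.sum_apply, Pi.single_apply, Fintype.sum_sum_type] using this
      · have := congrFun hc (Sum.inr 0)
        simpa [minusOne, Finset.sum_apply, Pi.single_apply, Fintype.sum_sum_type] using this
    · rintro (i | ⟨⟩) (j | ⟨⟩) <;> rw [polB_qMinus]
      · simp [minusOne, Pi.single_apply, CharTwo.add_self_eq_zero]
      · simp [minusOne, Pi.single_apply]
      · simp [minusOne, Pi.single_apply]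
      · simp [minusOne, Pi.single_apply, CharTwo.two_eq_zero]
    · rintro (i | ⟨⟩) <;> rw [coe_qMinus] <;> simp [Cfsg.quadFormMinus, minusOne, Pi.single_apply]
  alt r hr := exists_type_alt (qMinus_nondeg m hab)
    (fun i : Fin m => (Pi.single (Sum.inl (Sum.inl i)) 1 : (Fin m ⊕ Fin m) ⊕ Fin 2 → F))
    (by
      rw [Fintype.linearIndependent_iff]
      intro c hc i
      have := congrFun hc (Sum.inl (Sum.inl i))
      simpa [Finset.sum_apply, Pi.single_apply] using this)
    (fun i j => by rw [polB_qMinus]; simp [Pi.single_apply])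
    (fun i => by rw [coe_qMinus]; simp [Cfsg.quadFormMinus, Pi.single_apply])
    (by simpa using hr)
  le := Nat.le_succ m
  bound t _ halt := qMinus_singular_le m hab _ halt

/-- Reflections generate the hyperbolic orthogonal group except O+4(2). -/
theorem closure_qPlus [Fintype F] {m : ℕ} (hgen : Fintype.card F ≠ 2 ∨ m ≠ 2) :
    Subgroup.closure (reflSet (qPlus m F)) = ⊤ :=
  closure_reflSet_of_card (qPlus_nondeg m) (Or.inl (hgen.imp id fun h => by rw [finrank_qPlus]; omega))

/-- Reflections generate every elliptic orthogonal group. -/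
theorem closure_qMinus [Fintype F] (m : ℕ) {a b : F}
    (hab : ∀ z₁ z₂ : F, z₁ ^ 2 + a * z₁ * z₂ + b * z₂ ^ 2 = 0 → z₁ = 0 ∧ z₂ = 0) :
    Subgroup.closure (reflSet (qMinus m F a b)) = ⊤ := by
  refine closure_reflSet_of_card (qMinus_nondeg m hab) ?_
  by_cases hm : m = 1
  · subst hm; exact Or.inr (qMinus_singular_le 1 hab)
  · exact Or.inl (Or.inr (by rw [finrank_qMinus]; omega))

variable {ι : Type} [Fintype ι] [DecidableEq ι]

/-- Class counts in the matrix group. -/
theorem card_invol_isometryGroup {Q : QuadraticForm F (ι → F)} {f : (ι → F) → F} (hf : ⇑Q = f) :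
    Nat.card {C : ConjClasses ↥(Cfsg.isometryGroup F f) // ∃ g, ConjClasses.mk g = C ∧ orderOf g = 2} =
      Nat.card {C : ConjClasses (orthGroup Q) // ∃ g, ConjClasses.mk g = C ∧ orderOf g = 2} := by
  subst hf
  exact card_classes_congr (toOrth Q) _ _ fun g => by rw [MulEquiv.orderOf_eq]

/-- Class counts in the commutator subgroup of the matrix group. -/
theorem card_invol_Omega {Q : QuadraticForm F (ι → F)} {f : (ι → F) → F} (hf : ⇑Q = f) :
    Nat.card {C : ConjClasses ↥(Cfsg.Omega F f) // ∃ g, ConjClasses.mk g = C ∧ orderOf g = 2} =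
      Nat.card {C : ConjClasses (commutator (orthGroup Q)) // ∃ g, ConjClasses.mk g = C ∧ orderOf g = 2} := by
  subst hf
  exact card_classes_congr (((toOrth Q).subgroupMap (Cfsg.Omega F ⇑Q)).trans
    (MulEquiv.subgroupCongr (omega_map_toOrth (Q := Q)))) _ _ fun g => by rw [MulEquiv.orderOf_eq]

/-- The residual space is the image of the matrix minus one. -/
theorem resid_toOrth [CharP F 2] {Q : QuadraticForm F (ι → F)} (t : Cfsg.isometryGroup F ⇑Q) :
    resid (toOrth Q t) =
      LinearMap.range (Matrix.toLin' (((t : Matrix.GeneralLinearGroup ι F) : Matrix ι ι F) - 1)) := by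
  rw [resid, resMap]
  congr 1
  refine LinearMap.ext fun x => ?_
  rw [Matrix.toLin'_apply, sub_mulVec, one_mulVec, LinearMap.sub_apply, LinearMap.id_apply, LinearEquiv.coe_coe,
    toOrth_apply]
  funext i
  simp [CharTwo.sub_eq_add, add_comm]

theorem finrank_resid_toOrth [CharP F 2] {Q : QuadraticForm F (ι → F)} (t : Cfsg.isometryGroup F ⇑Q) :
    Module.finrank F (resid (toOrth Q t)) =
      (((t : Matrix.GeneralLinearGroup ι F) : Matrix ι ι F) - 1).rank := by
  rw [resid_toOrth, Matrix.rank, Matrix.toLin'_apply']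

theorem isAlt_toOrth [CharP F 2] {Q : QuadraticForm F (ι → F)} (t : Cfsg.isometryGroup F ⇑Q) :
    IsAlt (toOrth Q t) ↔
      ∀ v, Q (v + ((t : Matrix.GeneralLinearGroup ι F) : Matrix ι ι F) *ᵥ v) = 0 := by
  have e : ∀ v, resMap (toOrth Q t) v = v + ((t : Matrix.GeneralLinearGroup ι F) : Matrix ι ι F) *ᵥ v := fun v => by
    rw [resMap_apply, toOrth_apply]
    funext i
    simp [CharTwo.sub_eq_add]
  constructor
  · exact fun h v => h _ ⟨v, e v⟩
  · rintro h u ⟨v, rfl⟩
    rw [e]; exact h v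

theorem invol_toOrth {Q : QuadraticForm F (ι → F)} {t : Cfsg.isometryGroup F ⇑Q} (ht : orderOf t = 2) :
    toOrth Q t * toOrth Q t = 1 ∧ toOrth Q t ≠ 1 := by
  rw [← orderOf_eq_two_iff', MulEquiv.orderOf_eq, ht]

/-- Symplectic conjugacy of involutions implies orthogonal conjugacy. -/
theorem isConj_iff_polar [Fintype F] [CharP F 2] {Q : QuadraticForm F (ι → F)} (hQ : (polB Q).Nondegenerate)
    (t s : Cfsg.isometryGroup F ⇑Q) (ht : orderOf t = 2) (hs : orderOf s = 2) :
    IsConj t s ↔ ∃ g ∈ Cfsg.preserving (Units.coeHom (Matrix ι ι F)) (fun u v => Q (u + v) - Q u - Q v),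
      g * (t : Matrix.GeneralLinearGroup ι F) * g⁻¹ = (s : Matrix.GeneralLinearGroup ι F) := by
  constructor
  · intro h
    obtain ⟨g, hg⟩ := isConj_iff.1 h
    refine ⟨(g : Matrix.GeneralLinearGroup ι F), fun u v => ?_, congrArg Subtype.val hg⟩
    have h1 : ∀ x, Q (((g : Matrix.GeneralLinearGroup ι F) : Matrix ι ι F) *ᵥ x) = Q x := fun x => g.2 x x
    simp only [Units.coeHom_apply, ← mulVec_add, h1]
  rintro ⟨g, hg, hgt⟩
  obtain ⟨ht1, -⟩ := invol_toOrth ht
  obtain ⟨hs1, -⟩ := invol_toOrth hs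
  have hmat : ((g : Matrix ι ι F)) * ((t : Matrix.GeneralLinearGroup ι F) : Matrix ι ι F) =
      ((s : Matrix.GeneralLinearGroup ι F) : Matrix ι ι F) * (g : Matrix ι ι F) := by
    rw [← Units.val_mul, ← Units.val_mul, ← hgt, inv_mul_cancel_right]
  have hN : ∀ v, resMap (toOrth Q s) ((g : Matrix ι ι F) *ᵥ v) = (g : Matrix ι ι F) *ᵥ resMap (toOrth Q t) v := by
    intro v
    rw [resMap_apply, resMap_apply, toOrth_apply, toOrth_apply, mulVec_sub, mulVec_mulVec, mulVec_mulVec, hmat]
  have hinv : ∀ v, (g : Matrix ι ι F) *ᵥ (((g⁻¹ : Matrix.GeneralLinearGroup ι F) : Matrix ι ι F) *ᵥ v) = v := fun v => by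
    rw [mulVec_mulVec, ← Units.val_mul, mul_inv_cancel, Units.val_one, one_mulVec]
  let e : (ι → F) ≃ₗ[F] (ι → F) := glEquiv g
  have he : ∀ v, e v = (g : Matrix ι ι F) *ᵥ v := fun v => glEquiv_apply g v
  have hrs : resid (toOrth Q s) = (resid (toOrth Q t)).map (e : (ι → F) →ₗ[F] (ι → F)) := by
    ext u
    constructor
    · rintro ⟨v, rfl⟩
      refine ⟨resMap (toOrth Q t) (((g⁻¹ : Matrix.GeneralLinearGroup ι F) : Matrix ι ι F) *ᵥ v), resMap_mem _ _, ?_⟩
      rw [LinearEquiv.coe_coe, he, ← hN, hinv]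
    · rintro ⟨_, ⟨v, rfl⟩, rfl⟩
      exact ⟨(g : Matrix ι ι F) *ᵥ v, by rw [LinearEquiv.coe_coe, he]; exact hN v⟩
  have hpol : ∀ u v, polB Q ((g : Matrix ι ι F) *ᵥ u) ((g : Matrix ι ι F) *ᵥ v) = polB Q u v := hg
  have halt : IsAlt (toOrth Q t) ↔ IsAlt (toOrth Q s) := by
    have key : ∀ v, Q (resMap (toOrth Q s) ((g : Matrix ι ι F) *ᵥ v)) = Q (resMap (toOrth Q t) v) := fun v => by
      rw [qmap_resMap, qmap_resMap, hN, hpol]
    constructor
    · rintro h u ⟨v, rfl⟩
      rw [← hinv v, key]; exact h _ ⟨_, rfl⟩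
    · rintro h u ⟨v, rfl⟩
      rw [← key]; exact h _ ⟨_, rfl⟩
  have hconj := isConj_of_invariants hQ ht1 hs1 (by rw [hrs, LinearEquiv.finrank_map_eq]) halt
  obtain ⟨c, hc⟩ := isConj_iff.1 hconj
  exact isConj_iff.2 ⟨(toOrth Q).symm c, (toOrth Q).injective (by simpa using hc)⟩

/-- An involution lies in the commutator subgroup exactly when it moves a space of even dimension. -/
theorem mem_Omega_invol_iff [Fintype F] [CharP F 2] {Q : QuadraticForm F (ι → F)} {m k : ℕ}
    (h : InvolModel Q m k) (hcl : Subgroup.closure (reflSet Q) = ⊤) (t : Cfsg.isometryGroup F ⇑Q) :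
    t ∈ Cfsg.Omega F ⇑Q ↔ Even (((t : Matrix.GeneralLinearGroup ι F) : Matrix ι ι F) - 1).rank := by
  rw [mem_Omega_iff, mem_commutator_invol h.nondeg hcl, finrank_resid_toOrth]

/-- Away from the extremal class O-conjugate involutions are conjugate in the commutator subgroup. -/
theorem exists_Omega_conj [Fintype F] [CharP F 2] {Q : QuadraticForm F (ι → F)} {m k : ℕ}
    (h : InvolModel Q m k) (hcl : Subgroup.closure (reflSet Q) = ⊤) (t s : Cfsg.isometryGroup F ⇑Q) (ht : orderOf t = 2) (hc : IsConj t s)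
    (hne : ¬ (IsAlt (toOrth Q t) ∧ Module.finrank F (resid (toOrth Q t)) = m)) :
    ∃ g ∈ Cfsg.Omega F ⇑Q, g * t * g⁻¹ = s := by
  obtain ⟨a, ha⟩ := isConj_iff.1 hc
  obtain ⟨g, hd, hg⟩ := exists_even_conj h.nondeg hcl h.dim (invol_toOrth ht).1 (invol_toOrth ht).2 hne
    (isConj_iff.2 ⟨toOrth Q a, by rw [← map_inv, ← map_mul, ← map_mul, ha]⟩)
  refine ⟨(toOrth Q).symm g, ?_, (toOrth Q).injective (by simpa using hg)⟩
  rw [mem_Omega_iff, MulEquiv.apply_symm_apply, mem_commutator_iff_char2 CharTwo.two_eq_zero h.nondeg hcl]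
  exact hd

/-- The split class: Omega-conjugacy is the parity of the intersection of the residual spaces. -/
theorem exists_Omega_conj_iff [Fintype F] [CharP F 2] {Q : QuadraticForm F (ι → F)} {m k : ℕ}
    (h : InvolModel Q m k) (hcl : Subgroup.closure (reflSet Q) = ⊤) (hgen : ReflGenerates F (ι → F)) (t s : Cfsg.isometryGroup F ⇑Q)
    (ht : orderOf t = 2) (hc : IsConj t s) (halt : IsAlt (toOrth Q t))
    (hfr : Module.finrank F (resid (toOrth Q t)) = m) :
    (∃ g ∈ Cfsg.Omega F ⇑Q, g * t * g⁻¹ = s) ↔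
      Even (Module.finrank F (resid (toOrth Q t) ⊓ resid (toOrth Q s) : Submodule F (ι → F))) := by
  obtain ⟨a, ha⟩ := isConj_iff.1 hc
  constructor
  · rintro ⟨g, hgO, rfl⟩
    rw [mem_Omega_iff, mem_commutator_iff_char2 CharTwo.two_eq_zero h.nondeg hcl] at hgO
    rw [map_mul, map_mul, map_inv]
    exact (dickson_iff_inter h.nondeg hgen h.dim (invol_toOrth ht).1 halt hfr _).1 hgO
  · intro he
    refine ⟨a, ?_, ha⟩
    rw [mem_Omega_iff, mem_commutator_iff_char2 CharTwo.two_eq_zero h.nondeg hcl,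
      dickson_iff_inter h.nondeg hgen h.dim (invol_toOrth ht).1 halt hfr, ← map_inv, ← map_mul, ← map_mul, ha]
    exact he

end H44
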