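import Cfsg.Agent.H44.EvenSets
import Cfsg.Agent.H38.StdForms

/-!
`O⁺₆(2) ≅ Sym 8`.
-/

set_option autoImplicit false

namespace H44

theorem oPlusSix_equiv :
    Nonempty (Equiv.Perm (Fin 8) ≃* ↥(Cfsg.isometryGroup (ZMod 2) (Cfsg.quadFormPlus 3 (ZMod 2)))) := by
  have hn : (4 * 1 + 2) % 4 = 2 := by norm_num
  rcases equiv_plus_or_minus (V := Fin 6 → ZMod 2) (m := 3) (by simp) (evenForm 6) (evenForm_sep _ (by decide)) with
    ⟨φ, hφ⟩ | ⟨_, ζ, φ, hζ, hφ⟩
  · let E := H38.isometryGroupCongr (Q := Cfsg.quadFormPlus 3 (ZMod 2)) (Q' := evenQ 6) φ.symm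
      (fun v => by rw [show evenQ 6 (φ.symm v) = _ from hφ (φ.symm v), LinearEquiv.apply_symm_apply])
    let f : Equiv.Perm (Fin 8) →* ↥(Cfsg.isometryGroup (ZMod 2) (Cfsg.quadFormPlus 3 (ZMod 2))) :=
      E.symm.toMonoidHom.comp (evenHom 6 (by norm_num))
    have hf : Function.Injective f := E.symm.injective.comp (evenHom_injective 6 (by norm_num) (by norm_num))
    have hcard : Nat.card (Equiv.Perm (Fin 8)) = Nat.card ↥(Cfsg.isometryGroup (ZMod 2) (Cfsg.quadFormPlus 3 (ZMod 2))) := by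
      rw [H38.card_plus 2, Nat.card_perm, ZMod.card, Nat.card_fin]
      norm_num [Finset.prod_range_succ, Nat.factorial]
    exact ⟨MulEquiv.ofBijective f ((Nat.bijective_iff_injective_and_card f).2 ⟨hf, hcard⟩)⟩
  · exfalso
    obtain rfl := zmod2_root ζ hζ
    have h1 : signSum (evenQ 6) = -(2 ^ 3) := by
      rw [show evenQ 6 = fun v => Cfsg.quadFormMinus 2 (ZMod 2) 1 1 (φ v) from funext hφ]
      exact (signSum_comp_equiv φ.toEquiv _).trans (signSum_minus _)
    rw [show evenQ 6 = evenQ (4 * 1 + 2) from rfl, signSum_evenQ 1] at h1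
    norm_num at h1

end H44
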