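import Mathlib

/-!
An element of odd order prime to the characteristic interchanges alternating and symmetric forms on its moved space:
`B(x, y) = f(x, (s - s⁻¹) y)`.
-/

set_option autoImplicit false

namespace H44

variable {F : Type*} [Field F] {V : Type*} [AddCommGroup V] [Module F V]

/-- The linear automorphisms preserving a bilinear form. -/
def bIso (f : LinearMap.BilinForm F V) : Subgroup (V ≃ₗ[F] V) where
  carrier := {g | ∀ x y, f (g x) (g y) = f x y}
  mul_mem' {a b} ha hb x y := by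
    show f (a (b x)) (a (b y)) = f x y
    rw [ha, hb]
  one_mem' x y := rfl
  inv_mem' {a} ha x y := by
    show f (a.symm x) (a.symm y) = f x y
    rw [← ha (a.symm x) (a.symm y), LinearEquiv.apply_symm_apply, LinearEquiv.apply_symm_apply]

theorem mem_bIso {f : LinearMap.BilinForm F V} {g : V ≃ₗ[F] V} : g ∈ bIso f ↔ ∀ x y, f (g x) (g y) = f x y :=
  Iff.rfl

theorem bIso_symm_right {f : LinearMap.BilinForm F V} {g : V ≃ₗ[F] V} (hg : g ∈ bIso f) (x y : V) :
    f (g x) y = f x (g.symm y) := by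
  conv_lhs => rw [← g.apply_symm_apply y]
  rw [hg]

/-- `s - s⁻¹`. -/
def skewPart (s : V ≃ₗ[F] V) : V →ₗ[F] V := (s : V →ₗ[F] V) - (s.symm : V →ₗ[F] V)

theorem skewPart_apply (s : V ≃ₗ[F] V) (x : V) : skewPart s x = s x - s.symm x := rfl

/-- The space moved by `s`. -/
def movedSp (s : V ≃ₗ[F] V) : Submodule F V := LinearMap.range ((s : V →ₗ[F] V) - LinearMap.id)

/-- The space fixed by `s`. -/
def fixedSp (s : V ≃ₗ[F] V) : Submodule F V := LinearMap.ker ((s : V →ₗ[F] V) - LinearMap.id)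

theorem mem_fixedSp {s : V ≃ₗ[F] V} {x : V} : x ∈ fixedSp s ↔ s x = x := by
  simp [fixedSp, sub_eq_zero]

theorem mem_movedSp {s : V ≃ₗ[F] V} {x : V} : x ∈ movedSp s ↔ ∃ y, s y - y = x := by
  simp [movedSp]

theorem commute_apply {s g : V ≃ₗ[F] V} (h : Commute g s) (x : V) : g (s x) = s (g x) :=
  LinearEquiv.congr_fun h.eq x

theorem commute_map_moved {s g : V ≃ₗ[F] V} (h : Commute g s) {x : V} (hx : x ∈ movedSp s) :
    g x ∈ movedSp s := by
  obtain ⟨y, rfl⟩ := mem_movedSp.1 hx
  exact mem_movedSp.2 ⟨g y, by rw [map_sub, commute_apply h]⟩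

theorem commute_map_fixed {s g : V ≃ₗ[F] V} (h : Commute g s) {x : V} (hx : x ∈ fixedSp s) :
    g x ∈ fixedSp s := by
  rw [mem_fixedSp] at hx ⊢
  rw [← commute_apply h, hx]

theorem pow_apply_succ (s : V ≃ₗ[F] V) (i : ℕ) (y : V) : (s ^ i) (s y) = (s ^ (i + 1)) y := by
  rw [pow_succ]; rfl

theorem pow_fix {s : V ≃ₗ[F] V} {x : V} (hx : s x = x) (i : ℕ) : (s ^ i) x = x := by
  induction i with
  | zero => rfl
  | succ i ih => rw [← pow_apply_succ, hx, ih]

variable {s : V ≃ₗ[F] V} {N : ℕ}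

/-- An element of order prime to the characteristic splits the space into fixed and moved parts. -/
theorem isCompl_fixed_moved (hs : s ^ N = 1) (hN : (N : F) ≠ 0) : IsCompl (fixedSp s) (movedSp s) := by
  constructor
  · rw [Submodule.disjoint_def]
    intro x hx hx'
    obtain ⟨y, rfl⟩ := mem_movedSp.1 hx'
    have hsum : ∑ i ∈ Finset.range N, (s ^ i) (s y - y) = 0 := by
      simp only [map_sub, pow_apply_succ, Finset.sum_range_sub (fun i => (s ^ i) y) N, hs]
      exact sub_self y
    rw [Finset.sum_congr rfl fun i _ => pow_fix (mem_fixedSp.1 hx) i, Finset.sum_const, Finset.card_range,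
      ← Nat.cast_smul_eq_nsmul F] at hsum
    exact (smul_eq_zero.1 hsum).resolve_left hN
  · rw [codisjoint_iff, eq_top_iff]
    intro x _
    have hfix : ∑ i ∈ Finset.range N, (s ^ i) x ∈ fixedSp s := by
      have e : ∀ i, s ((s ^ i) x) = (s ^ (i + 1)) x := fun i => by rw [pow_succ']; rfl
      have h1 := Finset.sum_range_sub (fun i => (s ^ i) x) N
      rw [hs, pow_zero, sub_self, Finset.sum_sub_distrib, sub_eq_zero] at h1
      rw [mem_fixedSp, map_sum, Finset.sum_congr rfl fun i _ => e i, h1]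
    have hmem : ∀ i, x - (s ^ i) x ∈ movedSp s := fun i => by
      induction i with
      | zero => rw [pow_zero]; show x - x ∈ _; rw [sub_self]; exact zero_mem _
      | succ i ih =>
        have : x - (s ^ (i + 1)) x = (x - (s ^ i) x) - (s ((s ^ i) x) - (s ^ i) x) := by
          rw [show (s ^ (i + 1)) x = s ((s ^ i) x) by rw [pow_succ']; rfl]; abel
        rw [this]
        exact sub_mem ih (mem_movedSp.2 ⟨_, rfl⟩)
    have hmv : ∑ i ∈ Finset.range N, (x - (s ^ i) x) ∈ movedSp s := sum_mem fun i _ => hmem i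
    rw [Finset.sum_sub_distrib, Finset.sum_const, Finset.card_range, ← Nat.cast_smul_eq_nsmul F] at hmv
    have e : x = (N : F)⁻¹ • ∑ i ∈ Finset.range N, (s ^ i) x +
        (N : F)⁻¹ • ((N : F) • x - ∑ i ∈ Finset.range N, (s ^ i) x) := by
      rw [← smul_add, add_sub_cancel, inv_smul_smul₀ hN]
    rw [e]
    exact Submodule.add_mem_sup (Submodule.smul_mem _ _ hfix) (Submodule.smul_mem _ _ hmv)

theorem fixed_orth_moved {f : LinearMap.BilinForm F V} (hs : s ∈ bIso f) {x y : V} (hx : x ∈ fixedSp s)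
    (hy : y ∈ movedSp s) : f x y = 0 ∧ f y x = 0 := by
  obtain ⟨z, rfl⟩ := mem_movedSp.1 hy
  rw [mem_fixedSp] at hx
  constructor
  · rw [map_sub]; conv_lhs => arg 1; rw [← hx]
    rw [hs, sub_self]
  · rw [map_sub, LinearMap.sub_apply]; conv_lhs => arg 1; rw [← hx]
    rw [hs, sub_self]

/-- On the moved space `s - s⁻¹` is injective when the order is odd. -/
theorem skewPart_injOn (hs : s ^ N = 1) (hN : (N : F) ≠ 0) (hodd : Odd N) {x : V} (hx : x ∈ movedSp s)
    (h : skewPart s x = 0) : x = 0 := by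
  rw [skewPart_apply, sub_eq_zero] at h
  have h2 : (s ^ 2) x = x := by
    rw [pow_two]; show s (s x) = x; rw [h, LinearEquiv.apply_symm_apply]
  obtain ⟨j, rfl⟩ := hodd
  have h3 : ((s ^ 2) ^ j) x = x := pow_fix h2 j
  have e : (s ^ (2 * j + 1)) x = s x := by
    rw [pow_succ', pow_mul]; show s (((s ^ 2) ^ j) x) = s x; rw [h3]
  rw [hs] at e
  exact Submodule.disjoint_def.1 (isCompl_fixed_moved hs hN).disjoint x (mem_fixedSp.2 e.symm) hx

theorem skewPart_adjoint {f : LinearMap.BilinForm F V} (hs : s ∈ bIso f) (x y : V) :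
    f (skewPart s x) y = -f x (skewPart s y) := by
  have h1 := bIso_symm_right hs x y
  have h2 := bIso_symm_right ((bIso f).inv_mem hs) x y
  rw [skewPart_apply, skewPart_apply, map_sub, LinearMap.sub_apply, map_sub, h1,
    show f (s.symm x) y = f x (s y) from h2]
  ring

/-- Forms on the moved space: a bilinear form and the twisted one. -/
theorem exists_moved_forms [FiniteDimensional F V] (hs : s ^ N = 1) (hN : (N : F) ≠ 0) (hodd : Odd N)
    (f : LinearMap.BilinForm F V) (hsf : s ∈ bIso f) (hf : f.IsRefl) (hnd : f.Nondegenerate) :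
    ∃ (k : ℕ) (ι : (Fin k → F) →ₗ[F] V) (f₁ f₂ : LinearMap.BilinForm F (Fin k → F)),
      Function.Injective ι ∧ LinearMap.range ι = movedSp s ∧
      k + Module.finrank F (fixedSp s) = Module.finrank F V ∧
      f₁.Nondegenerate ∧ f₂.Nondegenerate ∧ (∀ x y, f₁ x y = f (ι x) (ι y)) ∧
      (∀ x y, f₂ x y = f (ι x) (skewPart s (ι y))) ∧
      ∀ g ∈ bIso f, Commute g s → ∃ g' : (Fin k → F) ≃ₗ[F] (Fin k → F),
        g' ∈ bIso f₁ ⊓ bIso f₂ ∧ ∀ x, ι (g' x) = g (ι x) := by
  have hc := isCompl_fixed_moved hs hN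
  let b := Module.finBasis F (movedSp s)
  let e : (Fin (Module.finrank F (movedSp s)) → F) ≃ₗ[F] movedSp s := b.equivFun.symm
  let ι := (movedSp s).subtype ∘ₗ e.toLinearMap
  have hι : Function.Injective ι := (movedSp s).injective_subtype.comp e.injective
  have hr : LinearMap.range ι = movedSp s := by
    rw [LinearMap.range_comp, LinearEquiv.range, Submodule.map_top, Submodule.range_subtype]
  have hmem : ∀ x, ι x ∈ movedSp s := fun x => (e x).2
  have hnd1 : ∀ x ∈ movedSp s, (∀ y ∈ movedSp s, f x y = 0) → x = 0 := by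
    intro x hx h
    refine hnd.1 x fun y => ?_
    obtain ⟨a, ha, c, hc', rfl⟩ := Submodule.mem_sup.1 (hc.sup_eq_top ▸ Submodule.mem_top : y ∈ fixedSp s ⊔ movedSp s)
    rw [map_add, (fixed_orth_moved hsf ha hx).2, h c hc', add_zero]
  have hwmem : ∀ x ∈ movedSp s, skewPart s x ∈ movedSp s := fun x hx => by
    rw [skewPart_apply]
    exact sub_mem (commute_map_moved (Commute.refl s) hx)
      (commute_map_moved (Commute.inv_left (Commute.refl s)) hx)
  let f₁ : LinearMap.BilinForm F _ := f.comp ι ι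
  let f₂ : LinearMap.BilinForm F _ := f.comp ι (skewPart s ∘ₗ ι)
  have h1 : f₁.Nondegenerate := by
    refine ⟨fun x hx => ?_, fun x hx => ?_⟩
    · refine hι ((hnd1 _ (hmem x) fun y hy => ?_).trans (map_zero ι).symm)
      obtain ⟨z, rfl⟩ := hr ▸ hy
      exact hx z
    · refine hι ((hnd1 _ (hmem x) fun y hy => ?_).trans (map_zero ι).symm)
      obtain ⟨z, rfl⟩ := hr ▸ hy
      exact hf _ _ (hx z)
  have h2 : f₂.Nondegenerate := by
    have hleft : ∀ x, (∀ y, f₂ x y = 0) → x = 0 := by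
      intro x hx
      have e0 : skewPart s (ι x) = 0 := hnd1 _ (hwmem _ (hmem x)) fun y hy => by
        obtain ⟨z, rfl⟩ := hr ▸ hy
        rw [skewPart_adjoint hsf, show f (ι x) (skewPart s (ι z)) = 0 from hx z, neg_zero]
      exact hι ((skewPart_injOn hs hN hodd (hmem x) e0).trans (map_zero ι).symm)
    refine ⟨hleft, fun x hx => hι ((?_ : ι x = 0).trans (map_zero ι).symm)⟩
    have e0 : skewPart s (ι x) = 0 := hnd1 _ (hwmem _ (hmem x)) fun y hy => by
      obtain ⟨z, rfl⟩ := hr ▸ hy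
      exact hf _ _ (hx z)
    exact skewPart_injOn hs hN hodd (hmem x) e0
  refine ⟨_, ι, f₁, f₂, hι, hr, ?_, h1, h2, fun _ _ => rfl, fun _ _ => rfl, fun g hg hgs => ?_⟩
  · rw [add_comm, Submodule.finrank_add_eq_of_isCompl hc]
  · have hgm : ∀ y : movedSp s, g y.1 ∈ movedSp s := fun y => commute_map_moved hgs y.2
    let L : movedSp s →ₗ[F] movedSp s := (g : V →ₗ[F] V).restrict fun y hy => commute_map_moved hgs hy
    let g₀ := LinearEquiv.ofBijective L ⟨fun a b h => Subtype.ext (g.injective (congrArg Subtype.val h)),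
      fun a => ⟨⟨g.symm a.1, commute_map_moved (hgs.inv_left) a.2⟩, Subtype.ext (g.apply_symm_apply a.1)⟩⟩
    let g' := (e.trans g₀).trans e.symm
    have hg' : ∀ x, ι (g' x) = g (ι x) := fun x => by
      show ((e (e.symm (g₀ (e x)))) : V) = g (e x).1
      rw [LinearEquiv.apply_symm_apply]; rfl
    refine ⟨g', ⟨fun x y => ?_, fun x y => ?_⟩, hg'⟩
    · show f (ι (g' x)) (ι (g' y)) = f (ι x) (ι y)
      rw [hg', hg', hg]
    · show f (ι (g' x)) (skewPart s (ι (g' y))) = f (ι x) (skewPart s (ι y))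
      rw [hg', hg', skewPart_apply, ← commute_apply hgs,
        show s.symm (g (ι y)) = g (s.symm (ι y)) from (commute_apply hgs.inv_right (ι y)).symm,
        ← map_sub g, hg]
      rfl

end H44
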