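import Mathlib

/-! A permutation group of degree `n` with `t` orbits has at most `2 ^ (n - t)` conjugacy classes. -/

set_option autoImplicit false

namespace H44.PermClasses

open Equiv (Perm)

variable {α : Type*}

/-- The orbit of a point. -/
def orb (A : Subgroup (Perm α)) (x : α) : Set α := {z | ∃ g ∈ A, g x = z}

/-- The conjugates of an element under a subgroup. -/
def cl (K : Subgroup (Perm α)) (x : Perm α) : Set (Perm α) := {z | ∃ k ∈ K, k * x * k⁻¹ = z}

/-- A left coset. -/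
def coset (y : Perm α) (A : Subgroup (Perm α)) : Set (Perm α) := {x | y⁻¹ * x ∈ A}

/-- A point stabiliser inside a subgroup. -/
def st (A : Subgroup (Perm α)) (γ : α) : Subgroup (Perm α) := A ⊓ MulAction.stabilizer (Perm α) γ

theorem mem_st {A : Subgroup (Perm α)} {γ : α} {g : Perm α} : g ∈ st A γ ↔ g ∈ A ∧ g γ = γ := by
  simp [st, MulAction.mem_stabilizer_iff]

/-- The number of orbits. -/
noncomputable def nOrb (A : Subgroup (Perm α)) : ℕ := (orb A '' Set.univ).ncard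

theorem self_mem_orb (A : Subgroup (Perm α)) (x : α) : x ∈ orb A x := ⟨1, one_mem A, rfl⟩

theorem orb_eq {A : Subgroup (Perm α)} {x z : α} (h : z ∈ orb A x) : orb A z = orb A x := by
  obtain ⟨g, hg, rfl⟩ := h
  ext w
  constructor
  · rintro ⟨k, hk, rfl⟩; exact ⟨k * g, mul_mem hk hg, rfl⟩
  · rintro ⟨k, hk, rfl⟩; exact ⟨k * g⁻¹, mul_mem hk (inv_mem hg), by simp⟩

theorem orb_mono {B A : Subgroup (Perm α)} (h : B ≤ A) {x z : α} (hz : z ∈ orb B x) : z ∈ orb A x := by
  obtain ⟨g, hg, rfl⟩ := hz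
  exact ⟨g, h hg, rfl⟩

theorem cl_mono {B A : Subgroup (Perm α)} (h : B ≤ A) (x : Perm α) : cl A x = ⋃ z ∈ cl B x, cl A z := by
  ext w
  simp only [Set.mem_iUnion, exists_prop]
  constructor
  · intro hw; exact ⟨x, ⟨1, one_mem B, by simp⟩, hw⟩
  · rintro ⟨_, ⟨b, hb, rfl⟩, k, hk, rfl⟩
    exact ⟨k * b, mul_mem hk (h hb), by group⟩

theorem image_ncard_eq {β γ : Type*} {O : Set α} (hO : O.Finite) (f : α → β) (g : α → γ)
    (h : ∀ x ∈ O, ∀ z ∈ O, (f x = f z ↔ g x = g z)) : (f '' O).ncard = (g '' O).ncard := by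
  refine Set.ncard_congr (fun b hb => g hb.choose) (fun b hb => ⟨_, hb.choose_spec.1, rfl⟩)
    (fun b b' hb hb' e => ?_) fun c hc => ?_
  · rw [← hb.choose_spec.2, ← hb'.choose_spec.2]
    exact (h _ hb.choose_spec.1 _ hb'.choose_spec.1).2 e
  · obtain ⟨x, hx, rfl⟩ := hc
    have hb : f x ∈ f '' O := ⟨x, hx, rfl⟩
    exact ⟨f x, hb, (h _ hb.choose_spec.1 _ hx).1 hb.choose_spec.2⟩

variable [Finite α]

theorem cl_ncard_mono {B A : Subgroup (Perm α)} (h : B ≤ A) (C : Set (Perm α)) :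
    (cl A '' C).ncard ≤ (cl B '' C).ncard := by
  have : cl A '' C = (fun s => ⋃ z ∈ s, cl A z) '' (cl B '' C) := by
    rw [Set.image_image]
    exact Set.image_congr fun x _ => cl_mono h x
  rw [this]
  exact Set.ncard_image_le (Set.toFinite _)

/-- Orbits of a subgroup, counted over some of the orbits of the group. -/
theorem nOrb_ge {B A : Subgroup (Perm α)} (h : B ≤ A) (F : Set (Set α)) (hF : F ⊆ orb A '' Set.univ) :
    nOrb A + (orb B '' (⋃₀ F)).ncard ≤ nOrb B + F.ncard := by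
  set U := ⋃₀ F
  have hU : ∀ x, x ∈ U ↔ orb A x ∈ F := by
    intro x
    constructor
    · rintro ⟨o, ho, hx⟩
      obtain ⟨p, -, rfl⟩ := hF ho
      rwa [orb_eq hx]
    · exact fun hx => ⟨_, hx, self_mem_orb A x⟩
  have hsplit : nOrb B = (orb B '' U).ncard + (orb B '' Uᶜ).ncard := by
    rw [nOrb, ← Set.union_compl_self U, Set.image_union, Set.ncard_union_eq ?_ (Set.toFinite _) (Set.toFinite _)]
    rw [Set.disjoint_left]
    rintro _ ⟨x, hx, rfl⟩ ⟨z, hz, e⟩
    refine hz ((hU z).2 ?_)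
    rw [← orb_eq (orb_mono h (e ▸ self_mem_orb B x : x ∈ orb B z))]
    exact (hU x).1 hx
  have hout : (orb A '' Set.univ \ F).ncard ≤ (orb B '' Uᶜ).ncard := by
    have : orb A '' Set.univ \ F ⊆ (fun s => ⋃ z ∈ s, orb A z) '' (orb B '' Uᶜ) := by
      rintro _ ⟨⟨x, -, rfl⟩, hx⟩
      refine ⟨orb B x, ⟨x, fun hxU => hx ((hU x).1 hxU), rfl⟩, ?_⟩
      ext w
      simp only [Set.mem_iUnion, exists_prop]
      constructor
      · rintro ⟨z, hz, hw⟩
        rwa [orb_eq (orb_mono h hz)] at hw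
      · exact fun hw => ⟨x, self_mem_orb B x, hw⟩
    exact (Set.ncard_le_ncard this (Set.toFinite _)).trans (Set.ncard_image_le (Set.toFinite _))
  have := Set.ncard_diff_add_ncard_of_subset hF (Set.toFinite _)
  rw [hsplit, nOrb]
  omega

theorem nOrb_conj {A H : Subgroup (Perm α)} {y : Perm α} (hH : ∀ g, g ∈ H ↔ y⁻¹ * g * y ∈ A) :
    nOrb H = nOrb A := by
  have e : ∀ x, orb H (y x) = y '' orb A x := by
    intro x
    ext w
    constructor
    · rintro ⟨g, hg, rfl⟩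
      exact ⟨(y⁻¹ * g * y) x, ⟨_, (hH g).1 hg, rfl⟩, by simp⟩
    · rintro ⟨_, ⟨g, hg, rfl⟩, rfl⟩
      exact ⟨y * g * y⁻¹, (hH _).2 (by simpa [mul_assoc] using hg), by simp⟩
  have : orb H '' Set.univ = (fun s => y '' s) '' (orb A '' Set.univ) := by
    rw [Set.image_image]
    conv_lhs => rw [← (y : Equiv α α).surjective.range_eq, ← Set.range_comp']
    rw [Set.image_univ]
    exact congrArg Set.range (funext e)
  rw [nOrb, this, Set.ncard_image_of_injective _ (Set.image_injective.2 (y : Equiv α α).injective), nOrb]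

/-- The orbits of point stabilisers on two orbits correspond. -/
theorem suborbit_count (H : Subgroup (Perm α)) (a β : α) :
    (orb (st H a) '' orb H β).ncard = (orb (st H β) '' orb H a).ncard := by
  let pr : α → α → Set (α × α) := fun z w => {p | ∃ h ∈ H, h z = p.1 ∧ h w = p.2}
  have tr : ∀ g ∈ H, ∀ z w, pr (g z) (g w) = pr z w := by
    intro g hg z w
    ext p
    constructor
    · rintro ⟨h, hh, h1, h2⟩; exact ⟨h * g, mul_mem hh hg, h1, h2⟩
    · rintro ⟨h, hh, h1, h2⟩; exact ⟨h * g⁻¹, mul_mem hh (inv_mem hg), by simpa using h1, by simpa using h2⟩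
  have key : ∀ z z' w, orb (st H w) z = orb (st H w) z' ↔ pr z w = pr z' w := by
    intro z z' w
    constructor
    · intro e
      have hz : z ∈ orb (st H w) z' := e ▸ self_mem_orb _ z
      obtain ⟨g, hg, rfl⟩ := hz
      obtain ⟨hgH, hgw⟩ := mem_st.1 hg
      conv_lhs => rw [← hgw]
      exact tr g hgH z' w
    · intro e
      have : ((z, w) : α × α) ∈ pr z' w := e ▸ ⟨1, one_mem H, rfl, rfl⟩
      obtain ⟨h, hh, h1, h2⟩ := this
      exact orb_eq ⟨h, mem_st.2 ⟨hh, h2⟩, h1⟩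
  rw [image_ncard_eq (Set.toFinite _) (orb (st H a)) (fun z => pr z a) fun x _ z _ => key x z a,
    image_ncard_eq (Set.toFinite _) (orb (st H β)) (fun w => pr β w) fun x _ z _ => (key x z β).trans ?_]
  · congr 1
    ext p
    constructor
    · rintro ⟨_, ⟨g, hg, rfl⟩, rfl⟩
      refine ⟨g⁻¹ a, ⟨g⁻¹, inv_mem hg, rfl⟩, ?_⟩
      show pr β (g⁻¹ a) = pr (g β) a
      rw [← tr g hg β (g⁻¹ a)]
      simp
    · rintro ⟨_, ⟨g, hg, rfl⟩, rfl⟩
      refine ⟨g⁻¹ β, ⟨g⁻¹, inv_mem hg, rfl⟩, ?_⟩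
      show pr (g⁻¹ β) a = pr β (g a)
      rw [← tr g hg (g⁻¹ β) a]
      simp
  · have sw : ∀ u v : α, pr u v = Prod.swap '' pr v u := by
      intro u v
      ext ⟨p1, p2⟩
      simp [pr, and_comm]
    rw [sw β x, sw β z]
    exact (Set.image_injective.2 Prod.swap_injective).eq_iff.symm

/-- The numeric step. -/
theorem count_step {H : Subgroup (Perm α)} {a β : α} (hmov : ∃ g ∈ H, g β ≠ β) :
    (orb (st H a) '' orb H β).ncard * 2 ^ nOrb H ≤ 2 ^ nOrb (st H β) := by
  have hB : st H β ≤ H := inf_le_left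
  rw [suborbit_count]
  set s := (orb (st H β) '' orb H a).ncard
  have pow_aux : ∀ m, m + 1 ≤ 2 ^ m := fun m => Nat.lt_two_pow_self
  by_cases ha : a ∈ orb H β
  · have hs : 0 < s := Set.ncard_pos (Set.toFinite _) |>.2 ⟨_, ⟨a, self_mem_orb H a, rfl⟩⟩
    have h := nOrb_ge hB {orb H a} (by simp)
    rw [Set.sUnion_singleton, Set.ncard_singleton] at h
    obtain ⟨m, hm⟩ : ∃ m, s = m + 1 := ⟨s - 1, by omega⟩
    calc s * 2 ^ nOrb H ≤ 2 ^ m * 2 ^ nOrb H := Nat.mul_le_mul_right _ (hm ▸ pow_aux m)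
      _ = 2 ^ (m + nOrb H) := (pow_add _ _ _).symm
      _ ≤ _ := Nat.pow_le_pow_right two_pos (by change nOrb H + s ≤ _ at h; omega)
  · have hne : orb H β ≠ orb H a := fun e => ha (e ▸ self_mem_orb H a)
    have h := nOrb_ge hB {orb H β, orb H a} (by simp [Set.insert_subset_iff])
    rw [Set.sUnion_pair, Set.image_union, Set.ncard_pair hne, Set.ncard_union_eq ?_ (Set.toFinite _) (Set.toFinite _)] at h
    · have h2 : 2 ≤ (orb (st H β) '' orb H β).ncard := by
        obtain ⟨g, hg, hgβ⟩ := hmov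
        refine (Set.one_lt_ncard (Set.toFinite _)).2 ⟨_, ⟨β, self_mem_orb H β, rfl⟩, _, ⟨g β, ⟨g, hg, rfl⟩, rfl⟩, fun e => ?_⟩
        have : g β ∈ orb (st H β) β := e ▸ self_mem_orb _ (g β)
        obtain ⟨k, hk, hkβ⟩ := this
        exact hgβ (by rw [← hkβ, (mem_st.1 hk).2])
      calc s * 2 ^ nOrb H ≤ 2 ^ s * 2 ^ nOrb H := Nat.mul_le_mul_right _ ((Nat.le_succ _).trans (pow_aux s))
        _ = 2 ^ (s + nOrb H) := (pow_add _ _ _).symm
        _ ≤ _ := Nat.pow_le_pow_right two_pos (by omega)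
    · rw [Set.disjoint_left]
      rintro _ ⟨x, hx, rfl⟩ ⟨z, hz, e⟩
      exact hne (by rw [← orb_eq hx, ← orb_eq hz, ← orb_eq (orb_mono hB (e ▸ self_mem_orb _ x : x ∈ orb (st H β) z))])

/-- The induction: twisted classes of the group attached to a coset. -/
theorem orbs_le : ∀ (N : ℕ) (A H : Subgroup (Perm α)) (y : Perm α) (γ a : α), Nat.card A = N →
    (∀ g, g ∈ H ↔ y⁻¹ * g * y ∈ A) → st A γ = st H a →
    (cl (st A γ) '' coset y A).ncard * 2 ^ nOrb A ≤ 2 ^ Nat.card α := by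
  intro N
  induction N using Nat.strong_induction_on with
  | _ N ih =>
  intro A H y γ a hN hH hK
  -- one step along a moved point
  have step : ∀ (H : Subgroup (Perm α)) (y : Perm α) (γ a : α), (∀ g, g ∈ H ↔ y⁻¹ * g * y ∈ A) → st A γ = st H a →
      (∃ g ∈ A, g γ ≠ γ) → (cl (st A γ) '' coset y A).ncard * 2 ^ nOrb A ≤ 2 ^ Nat.card α := by
    intro H y γ a hH hK hmov
    classical
    cases nonempty_fintype α
    set K := st A γ with hKdef
    have hKA : K ≤ A := inf_le_left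
    have hlt : Nat.card K < N := by
      rw [← hN]
      refine lt_of_le_of_ne (Subgroup.card_le_of_le hKA) fun e => ?_
      obtain ⟨g, hg, hgγ⟩ := hmov
      rw [← Subgroup.eq_of_le_of_card_ge hKA e.ge] at hg
      exact hgγ (mem_st.1 hg).2
    let O' : Set α := orb H (y γ)
    have hRex : ∀ o : Set α, o ∈ orb K '' O' → ∃ β ∈ O', orb K β = o := fun o ho => ho
    choose rep hrepO hrep using hRex
    let R : Finset α := (orb K '' O').toFinset.attach.image fun o => rep o.1 (Set.mem_toFinset.1 o.2)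
    have hR : R.card ≤ (orb K '' O').ncard := by
      rw [Set.ncard_eq_toFinset_card']
      exact Finset.card_image_le.trans (Finset.card_attach).le
    have hRO : ∀ β ∈ R, β ∈ O' := fun β hβ => by
      obtain ⟨o, -, rfl⟩ := Finset.mem_image.1 hβ
      exact hrepO _ _
    let Cb : α → Set (Perm α) := fun β => {x | x ∈ coset y A ∧ x γ = β}
    have hcov : cl K '' coset y A ⊆ ⋃ β ∈ R, cl K '' Cb β := by
      rintro _ ⟨x, hx, rfl⟩
      have hxO : x γ ∈ O' := ⟨x * y⁻¹, (hH _).2 (by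
        rw [show y⁻¹ * (x * y⁻¹) * y = y⁻¹ * x by group]; exact hx), by simp⟩
      have ho : orb K (x γ) ∈ orb K '' O' := ⟨_, hxO, rfl⟩
      set β := rep _ ho with hβ
      have hβR : β ∈ R := Finset.mem_image.2 ⟨⟨_, Set.mem_toFinset.2 ho⟩, Finset.mem_attach _ _, rfl⟩
      have : β ∈ orb K (x γ) := (hrep _ ho) ▸ self_mem_orb K β
      obtain ⟨k, hk, hkβ⟩ := this
      refine Set.mem_iUnion₂.2 ⟨β, hβR, k * x * k⁻¹, ⟨?_, ?_⟩, ?_⟩
      · show y⁻¹ * (k * x * k⁻¹) ∈ A
        have h1 : y⁻¹ * k * y ∈ A := (hH k).1 (mem_st.1 (hK ▸ hk)).1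
        rw [show y⁻¹ * (k * x * k⁻¹) = (y⁻¹ * k * y) * (y⁻¹ * x) * k⁻¹ by group]
        exact mul_mem (mul_mem h1 hx) (inv_mem (mem_st.1 hk).1)
      · have hkγ : (k⁻¹ : Perm α) γ = γ := (mem_st.1 (inv_mem hk)).2
        simp only [Equiv.Perm.mul_apply, hkγ]
        exact hkβ
      · ext z
        constructor
        · rintro ⟨j, hj, rfl⟩; exact ⟨j * k, mul_mem hj hk, by group⟩
        · rintro ⟨j, hj, rfl⟩; exact ⟨j * k⁻¹, mul_mem hj (inv_mem hk), by group⟩
    have heach : ∀ β ∈ R, (cl K '' Cb β).ncard * 2 ^ nOrb K ≤ 2 ^ Nat.card α ∧ nOrb (st H β) = nOrb K := by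
      intro β hβ
      obtain ⟨h, hh, hhβ⟩ := hRO β hβ
      set y' := h * y with hy'
      have hy'γ : y' γ = β := by simp [hy', hhβ]
      have hy'A : y⁻¹ * y' ∈ A := by rw [hy', ← mul_assoc]; exact (hH h).1 hh
      have hH' : ∀ g, g ∈ st H β ↔ y'⁻¹ * g * y' ∈ K := by
        intro g
        have e1 : g ∈ H ↔ y'⁻¹ * g * y' ∈ A := by
          rw [hH, show y⁻¹ * g * y = (y⁻¹ * y') * (y'⁻¹ * g * y') * (y⁻¹ * y')⁻¹ by group,
            A.mul_mem_cancel_right (inv_mem hy'A), A.mul_mem_cancel_left hy'A]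
        have e2 : g β = β ↔ (y'⁻¹ * g * y') γ = γ := by
          simp only [Equiv.Perm.mul_apply, hy'γ, Equiv.Perm.inv_eq_iff_eq]
        rw [mem_st, hKdef, mem_st, e1, e2]
      refine ⟨?_, nOrb_conj hH'⟩
      have hK' : st K β = st (st H β) a := by
        rw [hK]
        exact inf_right_comm _ _ _
      refine le_trans (Nat.mul_le_mul_right _ ?_) (ih _ hlt K (st H β) y' β a rfl hH' hK')
      have hsub : Cb β ⊆ coset y' K := by
        rintro x ⟨hx, hxγ⟩
        refine mem_st.2 ⟨?_, ?_⟩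
        · rw [show y'⁻¹ * x = (y⁻¹ * y')⁻¹ * (y⁻¹ * x) by group]
          exact mul_mem (inv_mem hy'A) hx
        · rw [Equiv.Perm.mul_apply, hxγ, Equiv.Perm.inv_eq_iff_eq, hy'γ]
      exact (cl_ncard_mono (inf_le_left : st K β ≤ K) _).trans
        (Set.ncard_le_ncard (Set.image_mono hsub) (Set.toFinite _))
    have hne : R.Nonempty := by
      have ho : orb K (y γ) ∈ orb K '' O' := ⟨_, self_mem_orb H _, rfl⟩
      exact ⟨_, Finset.mem_image.2 ⟨⟨_, Set.mem_toFinset.2 ho⟩, Finset.mem_attach _ _, rfl⟩⟩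
    obtain ⟨β0, hβ0⟩ := hne
    have hmov' : ∃ g ∈ H, g β0 ≠ β0 := by
      obtain ⟨h, hh, hhβ⟩ := hRO β0 hβ0
      obtain ⟨g, hg, hgγ⟩ := hmov
      refine ⟨(h * y) * g * (h * y)⁻¹, ?_, fun e => hgγ ?_⟩
      · rw [hH, show y⁻¹ * ((h * y) * g * (h * y)⁻¹) * y = (y⁻¹ * h * y) * g * (y⁻¹ * h * y)⁻¹ by group]
        exact mul_mem (mul_mem ((hH h).1 hh) hg) (inv_mem ((hH h).1 hh))
      · subst hhβ
        simpa using e
    have horb : orb K '' O' = orb (st H a) '' orb H β0 := by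
      rw [hK, orb_eq (hRO β0 hβ0)]
    have hnum := count_step (a := a) hmov'
    rw [← horb, (heach β0 hβ0).2, nOrb_conj hH] at hnum
    have htot : (cl K '' coset y A).ncard * 2 ^ nOrb K ≤ R.card * 2 ^ Nat.card α := by
      refine le_trans (Nat.mul_le_mul_right _ ((Set.ncard_le_ncard hcov (Set.toFinite _)).trans
        (Finset.set_ncard_biUnion_le R _))) ?_
      rw [Finset.sum_mul]
      exact (Finset.sum_le_card_nsmul R _ _ fun β hβ => (heach β hβ).1).trans_eq (smul_eq_mul _ _)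
    refine Nat.le_of_mul_le_mul_right ?_ (Nat.two_pow_pos (nOrb K))
    calc _ = (cl K '' coset y A).ncard * 2 ^ nOrb K * 2 ^ nOrb A := by ring
      _ ≤ R.card * 2 ^ Nat.card α * 2 ^ nOrb A := Nat.mul_le_mul_right _ htot
      _ ≤ (orb K '' O').ncard * 2 ^ Nat.card α * 2 ^ nOrb A := by gcongr
      _ = 2 ^ Nat.card α * ((orb K '' O').ncard * 2 ^ nOrb A) := by ring
      _ ≤ _ := Nat.mul_le_mul_left _ hnum
  -- a normalised coset
  have loop : ∀ y, (∀ g, g ∈ A ↔ y⁻¹ * g * y ∈ A) → (cl A '' coset y A).ncard * 2 ^ nOrb A ≤ 2 ^ Nat.card α := by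
    intro y hy
    by_cases hmov : ∃ γ : α, ∃ g ∈ A, g γ ≠ γ
    · obtain ⟨γ, hγ⟩ := hmov
      exact le_trans (Nat.mul_le_mul_right _ (cl_ncard_mono inf_le_left _)) (step A y γ γ hy rfl hγ)
    · push Not at hmov
      have h1 : (cl A '' coset y A).ncard ≤ 1 := by
        refine (Set.ncard_le_one (Set.toFinite _)).2 ?_
        rintro _ ⟨x, hx, rfl⟩ _ ⟨z, hz, rfl⟩
        have e : ∀ w ∈ coset y A, w = y := fun w hw =>
          (inv_mul_eq_one.1 (Equiv.ext fun p => hmov p _ hw)).symm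
        rw [e x hx, e z hz]
      have h2 : nOrb A ≤ Nat.card α := by
        rw [nOrb, ← Set.ncard_univ]
        exact Set.ncard_image_le (Set.toFinite _)
      exact le_trans (Nat.mul_le_mul h1 (Nat.pow_le_pow_right two_pos h2)) (by rw [one_mul])
  by_cases hmov : ∃ g ∈ A, g γ ≠ γ
  · exact step H y γ a hH hK hmov
  push Not at hmov
  have hKA : st A γ = A := le_antisymm inf_le_left fun g hg => mem_st.2 ⟨hg, hmov g hg⟩
  have hAH : A ≤ H := fun g hg => (mem_st.1 (hK ▸ hKA.symm ▸ hg : g ∈ st H a)).1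
  have hcard : Nat.card H = Nat.card A := Nat.card_congr
    { toFun := fun g => ⟨y⁻¹ * g.1 * y, (hH g.1).1 g.2⟩
      invFun := fun g => ⟨y * g.1 * y⁻¹, (hH _).2 (by simpa [mul_assoc] using g.2)⟩
      left_inv := fun g => Subtype.ext (by simp [mul_assoc])
      right_inv := fun g => Subtype.ext (by simp [mul_assoc]) }
  obtain rfl : A = H := Subgroup.eq_of_le_of_card_ge hAH hcard.le
  rw [hKA]
  exact loop y hH

/-- A permutation group on `n` points with `t` orbits has at most `2 ^ (n - t)` classes. -/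
theorem card_classes_le [Nonempty α] (S : Subgroup (Perm α)) :
    Nat.card (ConjClasses S) * 2 ^ nOrb S ≤ 2 ^ Nat.card α := by
  obtain ⟨γ⟩ := ‹Nonempty α›
  have h := orbs_le _ S S 1 γ γ rfl (fun g => by simp) rfl
  refine le_trans (Nat.mul_le_mul_right _ ?_) h
  refine le_trans ?_ (cl_ncard_mono inf_le_left _)
  rw [← Nat.card_coe_set_eq]
  refine Nat.card_le_card_of_injective
    (fun c => ⟨cl S ((c.out : S) : Perm α), _, by simp [coset], rfl⟩) fun c c' e => ?_
  have e' : cl S ((c.out : S) : Perm α) = cl S ((c'.out : S) : Perm α) := congrArg Subtype.val e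
  have hmem : ((c'.out : S) : Perm α) ∈ cl S ((c.out : S) : Perm α) := e' ▸ ⟨1, one_mem S, by simp⟩
  obtain ⟨k, hk, hkc⟩ := hmem
  rw [← c.out_eq, ← c'.out_eq]
  exact ConjClasses.mk_eq_mk_iff_isConj.2 (isConj_iff.2 ⟨⟨k, hk⟩, Subtype.ext hkc⟩)

theorem card_classes_le_two_pow (S : Subgroup (Perm α)) :
    Nat.card (ConjClasses S) ≤ 2 ^ (Nat.card α - 1) := by
  rcases isEmpty_or_nonempty α with h | h
  · haveI : Subsingleton S := ⟨fun a b => Subtype.ext (Equiv.ext fun x => h.elim x)⟩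
    refine le_trans ?_ (Nat.one_le_two_pow)
    exact Finite.card_le_one_iff_subsingleton.2 ⟨fun a b => by
      rw [← a.out_eq, ← b.out_eq, Subsingleton.elim a.out b.out]⟩
  · have hpos : 0 < nOrb S := by
      rw [nOrb, Set.ncard_pos (Set.toFinite _)]
      exact ⟨_, Classical.arbitrary α, trivial, rfl⟩
    have h1 := card_classes_le S
    have h2 : 2 * Nat.card (ConjClasses S) ≤ 2 ^ Nat.card α := by
      refine le_trans ?_ h1
      rw [mul_comm]
      exact Nat.mul_le_mul_left _ (Nat.le_self_pow hpos.ne' 2)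
    have hn : 0 < Nat.card α := Nat.card_pos
    rw [show Nat.card α = Nat.card α - 1 + 1 by omega, pow_succ'] at h2
    omega

end H44.PermClasses
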