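import Cfsg.Agent.H44.PrimeClassesOdd
import Cfsg.Agent.H44.DirectSum
import Cfsg.Agent.H44.Classify

/-!
Classes of elements of odd prime order in `O^±_2m(q)`: the type of a space is read from the number of vectors of
value `1` modulo `r`.
-/

set_option autoImplicit false
set_option linter.style.haveILetI false

namespace H44

open Matrix Polynomial H43

universe u

variable {F : Type u} [Field F]

theorem exists_irred_quad [Finite F] : ∃ ζ : F, ∀ t : F, t ^ 2 + t + ζ ≠ 0 := by
  have h : ¬ Function.Surjective (fun t : F => t ^ 2 + t) := fun h => by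
    have h1 := (Finite.injective_iff_surjective.2 h) (a₁ := 0) (a₂ := -1) (by ring)
    simp at h1
  simp only [Function.Surjective, not_forall, not_exists] at h
  obtain ⟨w, hw⟩ := h
  exact ⟨-w, fun t e => hw t (by linear_combination e)⟩

theorem binary_anisotropic_of_irred {ζ : F} (hζ : ∀ t : F, t ^ 2 + t + ζ ≠ 0) :
    ∀ z₁ z₂ : F, z₁ ^ 2 + 1 * z₁ * z₂ + ζ * z₂ ^ 2 = 0 → z₁ = 0 ∧ z₂ = 0 := by
  intro z₁ z₂ h
  by_cases h2 : z₂ = 0
  · subst h2
    exact ⟨by simpa using h, rfl⟩
  · exfalso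
    apply hζ (z₁ / z₂)
    field_simp
    linear_combination h

/-- An anisotropic binary form takes the value `1` exactly `q + 1` times. -/
theorem card_conic [Fintype F] {a c : F}
    (hac : ∀ z₁ z₂ : F, z₁ ^ 2 + a * z₁ * z₂ + c * z₂ ^ 2 = 0 → z₁ = 0 ∧ z₂ = 0) :
    Nat.card {z : F × F // z.1 ^ 2 + a * z.1 * z.2 + c * z.2 ^ 2 = 1} = Fintype.card F + 1 := by
  classical
  have hd : ∀ s : F, s ^ 2 + a * s + c ≠ 0 := fun s h =>
    one_ne_zero (hac s 1 (by linear_combination h)).2
  let t : F → F := fun s => -(2 * s + a) / (s ^ 2 + a * s + c)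
  have ht : ∀ s, t s * (s ^ 2 + a * s + c) = -(2 * s + a) := fun s => div_mul_cancel₀ _ (hd s)
  let Φ : Option F → {z : F × F // z.1 ^ 2 + a * z.1 * z.2 + c * z.2 ^ 2 = 1} := fun o =>
    o.elim ⟨(-1, 0), by simp⟩ fun s => ⟨(1 + t s * s, t s), by linear_combination t s * ht s⟩
  have hΦ : Function.Bijective Φ := by
    constructor
    · intro o o' h
      have h' : (Φ o).1 = (Φ o').1 := congrArg Subtype.val h
      have key : ∀ s : F, ((-1 : F), (0 : F)) ≠ (1 + t s * s, t s) := by
        intro s e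
        obtain ⟨e1, e2⟩ := Prod.ext_iff.1 e
        simp only at e1 e2
        rw [← e2, zero_mul, add_zero] at e1
        have h2 : (2 : F) = 0 := by linear_combination -e1
        have h3 := ht s
        rw [← e2, zero_mul, h2, zero_mul, zero_add] at h3
        obtain ⟨x, hx⟩ : ∃ x : F, x ^ 2 = c := by
          haveI : CharP F 2 := CharTwo.of_one_ne_zero_of_two_eq_zero one_ne_zero h2
          obtain ⟨x, hx⟩ := FiniteField.isSquare_of_char_two (ringChar.eq F 2) c
          exact ⟨x, by rw [hx]; ring⟩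
        exact hd x (by linear_combination x ^ 2 * h2 + x * h3 - hx)
      rcases o with _ | s <;> rcases o' with _ | s'
      · rfl
      · exact absurd h' (key s')
      · exact absurd h'.symm (key s)
      · obtain ⟨e1, e2⟩ := Prod.ext_iff.1 h'
        simp only [Φ, Option.elim_some] at e1 e2
        rw [← e2] at e1
        by_cases h0 : t s = 0
        · have h3 := ht s
          have h4 := ht s'
          rw [← e2, h0, zero_mul] at h4
          rw [h0, zero_mul] at h3
          by_cases h2 : (2 : F) = 0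
          · exfalso
            rw [h2, zero_mul, zero_add] at h3
            obtain ⟨x, hx⟩ : ∃ x : F, x ^ 2 = c := by
              haveI : CharP F 2 := CharTwo.of_one_ne_zero_of_two_eq_zero one_ne_zero h2
              obtain ⟨x, hx⟩ := FiniteField.isSquare_of_char_two (ringChar.eq F 2) c
              exact ⟨x, by rw [hx]; ring⟩
            exact hd x (by linear_combination x ^ 2 * h2 + x * h3 - hx)
          · exact congrArg some (mul_left_cancel₀ h2 (by linear_combination h3 - h4))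
        · exact congrArg some (mul_left_cancel₀ h0 (add_left_cancel e1))
    · rintro ⟨⟨z₁, z₂⟩, hz⟩
      simp only at hz
      by_cases h0 : z₂ = 0
      · subst h0
        have h1 : (z₁ - 1) * (z₁ + 1) = 0 := by linear_combination hz
        rcases mul_eq_zero.1 h1 with h | h
        · by_cases h2 : (2 : F) = 0
          · exact ⟨none, Subtype.ext (Prod.ext (show -1 = z₁ by linear_combination -h - h2) rfl)⟩
          · have ht0 : t (-a / 2) = 0 := by
              simp only [t]
              rw [show -(2 * (-a / 2) + a) = 0 by field_simp; ring, zero_div]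
            refine ⟨some (-a / 2), Subtype.ext (Prod.ext ?_ ht0)⟩
            show 1 + t (-a / 2) * (-a / 2) = z₁
            rw [ht0]; linear_combination -h
        · exact ⟨none, Subtype.ext (Prod.ext (show -1 = z₁ by linear_combination -h) rfl)⟩
      · refine ⟨some ((z₁ - 1) / z₂), ?_⟩
        have hts : t ((z₁ - 1) / z₂) = z₂ := by
          refine mul_right_cancel₀ (hd ((z₁ - 1) / z₂)) ?_
          rw [ht]
          field_simp
          linear_combination -hz
        refine Subtype.ext (Prod.ext ?_ hts)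
        show 1 + t ((z₁ - 1) / z₂) * ((z₁ - 1) / z₂) = z₁
        rw [hts]; field_simp; ring
  rw [← Nat.card_eq_of_bijective Φ hΦ, Nat.card_eq_fintype_card, Fintype.card_option]

/-- Solutions of `x ⬝ y + n z = 1`. -/
theorem card_hyp_level [Fintype F] (k : ℕ) {Z : Type*} [Fintype Z] (n : Z → F) :
    Nat.card {v : (Fin k → F) × (Fin k → F) × Z // v.1 ⬝ᵥ v.2.1 + n v.2.2 = 1} * Fintype.card F =
      Fintype.card F ^ k * ((Fintype.card F ^ k - 1) * Fintype.card Z +
        Fintype.card F * Nat.card {z : Z // n z = 1}) := by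
  classical
  set q := Fintype.card F
  have hfib : ∀ x : Fin k → F, x ≠ 0 → ∀ c : F, Nat.card {y : Fin k → F // x ⬝ᵥ y = c} * q = q ^ k := by
    intro x hx c
    obtain ⟨i, hi⟩ : ∃ i, x i ≠ 0 := Function.ne_iff.1 hx
    let w : F → (Fin k → F) := fun d => Pi.single i (d / x i)
    have hw : ∀ d, x ⬝ᵥ w d = d := fun d => by
      rw [dotProduct_single, mul_div_cancel₀ _ hi]
    let e : {y : Fin k → F // x ⬝ᵥ y = c} × F ≃ (Fin k → F) :=
      { toFun := fun p => p.1.1 + w p.2
        invFun := fun y => (⟨y - w (x ⬝ᵥ y - c), by rw [dotProduct_sub, hw]; ring⟩, x ⬝ᵥ y - c)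
        left_inv := fun p => by
          have h2 : x ⬝ᵥ (p.1.1 + w p.2) - c = p.2 := by rw [dotProduct_add, hw, p.1.2]; ring
          refine Prod.ext (Subtype.ext ?_) h2
          show p.1.1 + w p.2 - w (x ⬝ᵥ (p.1.1 + w p.2) - c) = p.1.1
          rw [h2, add_sub_cancel_right]
        right_inv := fun y => sub_add_cancel y _ }
    have := Nat.card_congr e
    rw [Nat.card_prod, Nat.card_fun, Nat.card_eq_fintype_card (α := F), Nat.card_eq_fintype_card (α := Fin k),
      Fintype.card_fin] at this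
    exact this
  let e : {v : (Fin k → F) × (Fin k → F) × Z // v.1 ⬝ᵥ v.2.1 + n v.2.2 = 1} ≃
      Σ x : Fin k → F, Σ z : Z, {y : Fin k → F // x ⬝ᵥ y = 1 - n z} :=
    { toFun := fun v => ⟨v.1.1, v.1.2.2, v.1.2.1, eq_sub_of_add_eq v.2⟩
      invFun := fun p => ⟨(p.1, p.2.2.1, p.2.1), by show p.1 ⬝ᵥ p.2.2.1 + n p.2.1 = 1; rw [p.2.2.2]; ring⟩
      left_inv := fun v => rfl
      right_inv := fun p => rfl }
  rw [Nat.card_congr e, Nat.card_sigma, Finset.sum_mul]
  have h0 : Nat.card (Σ z : Z, {y : Fin k → F // (0 : Fin k → F) ⬝ᵥ y = 1 - n z}) =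
      q ^ k * Nat.card {z : Z // n z = 1} := by
    rw [Nat.card_congr (β := {z : Z // n z = 1} × (Fin k → F))
      { toFun := fun p => (⟨p.1, by have := p.2.2; rw [zero_dotProduct] at this; exact (sub_eq_zero.1 this.symm).symm⟩,
          p.2.1)
        invFun := fun p => ⟨p.1.1, p.2, by rw [zero_dotProduct, p.1.2, sub_self]⟩
        left_inv := fun p => rfl
        right_inv := fun p => rfl },
      Nat.card_prod, Nat.card_fun, Nat.card_eq_fintype_card (α := F), Nat.card_eq_fintype_card (α := Fin k),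
      Fintype.card_fin, mul_comm]
  rw [← Finset.add_sum_erase _ _ (Finset.mem_univ (0 : Fin k → F)), h0,
    Finset.sum_congr rfl (g := fun _ => Fintype.card Z * q ^ k) fun x hx => by
      rw [Nat.card_sigma, Finset.sum_mul, Finset.sum_congr rfl fun z _ => hfib x (Finset.ne_of_mem_erase hx) _,
        Finset.sum_const, Finset.card_univ, smul_eq_mul],
    Finset.sum_const, Finset.card_erase_of_mem (Finset.mem_univ _), Finset.card_univ, Fintype.card_fun,
    Fintype.card_fin, smul_eq_mul]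
  ring

/-- The number of vectors of value `1`, times `q`, reduced modulo `r`. -/
noncomputable def levelMod (r : ℕ) {V : Type*} (f : V → F) : ZMod r :=
  ((Nat.card {v : V // f v = 1} * Nat.card F : ℕ) : ZMod r)

theorem levelMod_congr (r : ℕ) {V W : Type*} {f : V → F} {g : W → F} (e : V ≃ W) (h : ∀ v, f v = g (e v)) :
    levelMod r f = levelMod r g := by
  rw [levelMod, levelMod, Nat.card_congr (e.subtypeEquiv (q := fun w => g w = 1) fun v => by rw [h])]

theorem levelMod_plus [Fintype F] (r k : ℕ) :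
    levelMod r (Cfsg.quadFormPlus k F) = (Fintype.card F : ZMod r) ^ k * ((Fintype.card F : ZMod r) ^ k - 1) := by
  classical
  let e : (Fin k ⊕ Fin k → F) ≃ (Fin k → F) × (Fin k → F) × Unit :=
    (Equiv.sumArrowEquivProdArrow _ _ _).trans ((Equiv.refl _).prodCongr (Equiv.prodPUnit _).symm)
  rw [levelMod_congr r (g := fun v : (Fin k → F) × (Fin k → F) × Unit => v.1 ⬝ᵥ v.2.1 + (0 : F)) e
    (fun v => by simp [e, Cfsg.quadFormPlus, dotProduct]), levelMod, Nat.card_eq_fintype_card (α := F),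
    card_hyp_level k (fun _ : Unit => (0 : F))]
  have h1 : 1 ≤ Fintype.card F ^ k := Nat.one_le_pow _ _ Fintype.card_pos
  rw [show Nat.card {z : Unit // (fun _ : Unit => (0 : F)) z = 1} = 0 by
    haveI : IsEmpty {z : Unit // (fun _ : Unit => (0 : F)) z = 1} := ⟨fun z => zero_ne_one z.2⟩
    exact Nat.card_of_isEmpty]
  simp [Nat.cast_sub h1]

theorem levelMod_minus [Fintype F] (r k : ℕ) {a c : F}
    (hac : ∀ z₁ z₂ : F, z₁ ^ 2 + a * z₁ * z₂ + c * z₂ ^ 2 = 0 → z₁ = 0 ∧ z₂ = 0) :
    levelMod r (Cfsg.quadFormMinus k F a c) =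
      (Fintype.card F : ZMod r) ^ (k + 1) * ((Fintype.card F : ZMod r) ^ (k + 1) - -1) := by
  classical
  let e : ((Fin k ⊕ Fin k) ⊕ Fin 2 → F) ≃ (Fin k → F) × (Fin k → F) × (F × F) :=
    ((Equiv.sumArrowEquivProdArrow _ _ _).trans
      ((Equiv.sumArrowEquivProdArrow _ _ _).prodCongr (finTwoArrowEquiv F))).trans (Equiv.prodAssoc _ _ _)
  rw [levelMod_congr r (g := fun v : (Fin k → F) × (Fin k → F) × (F × F) =>
      v.1 ⬝ᵥ v.2.1 + (v.2.2.1 ^ 2 + a * v.2.2.1 * v.2.2.2 + c * v.2.2.2 ^ 2)) e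
    (fun v => by simp [e, Cfsg.quadFormMinus, dotProduct]), levelMod, Nat.card_eq_fintype_card (α := F),
    card_hyp_level k (fun z : F × F => z.1 ^ 2 + a * z.1 * z.2 + c * z.2 ^ 2), card_conic hac, Fintype.card_prod]
  have h1 : 1 ≤ Fintype.card F ^ k := Nat.one_le_pow _ _ Fintype.card_pos
  push_cast [Nat.cast_sub h1]
  ring

section Orbit

variable {ι : Type} [Fintype ι] [DecidableEq ι]

/-- The level count is the count on the fixed vectors. -/
theorem levelMod_fixed [Fintype F] {r : ℕ} [Fact r.Prime] {V : Type*} [AddCommGroup V] [Module F V] [Finite V]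
    {f : V → F} (A : Module.End F V) (hA : A ^ r = 1) (hf : ∀ v, f (A v) = f v) :
    levelMod r f = levelMod r (fun v : {v : V // A v = v} => f v) := by
  classical
  haveI : Fintype V := Fintype.ofFinite V
  let φ : Function.End {v : V // f v = 1} := fun v => ⟨A v.1, by rw [hf]; exact v.2⟩
  have hpow : ∀ (n : ℕ) (v : {v : V // f v = 1}), ((φ ^ n) v).1 = (A ^ n) v.1 := by
    intro n
    induction n with
    | zero => intro v; rfl
    | succ n ih =>
      intro v
      rw [pow_succ', pow_succ', Module.End.mul_apply, ← ih]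
      rfl
  have h := Equiv.Perm.card_fixedPoints_modEq (f := φ) (p := r) (n := 1) (by
    rw [pow_one]
    exact funext fun v => Subtype.ext (by rw [hpow, hA]; rfl))
  have h' : (Nat.card {v : V // f v = 1} : ZMod r) = (Nat.card {v : {v : V // A v = v} // f v = 1} : ZMod r) := by
    rw [ZMod.natCast_eq_natCast_iff, Nat.card_eq_fintype_card (α := {v : V // f v = 1})]
    refine h.trans ?_
    rw [← Nat.card_eq_fintype_card, Nat.card_congr (α := φ.fixedPoints) (β := {v : {v : V // A v = v} // f v = 1})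
      { toFun := fun v => ⟨⟨v.1.1, congrArg Subtype.val (v.2 : φ v.1 = v.1)⟩, v.1.2⟩
        invFun := fun v => ⟨⟨v.1.1, v.2⟩, show φ ⟨v.1.1, v.2⟩ = ⟨v.1.1, v.2⟩ from Subtype.ext v.1.2⟩
        left_inv := fun v => rfl
        right_inv := fun v => rfl }]
  simp only [levelMod, Nat.cast_mul, h']

theorem levelMod_free [Fintype F] {r : ℕ} [Fact r.Prime] {V : Type*} [AddCommGroup V] [Module F V] [Finite V]
    (Q : QuadraticForm F V) (A : Module.End F V) (hA : A ^ r = 1) (hf : ∀ v, Q (A v) = Q v)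
    (hfree : ∀ v, A v = v → v = 0) : levelMod r Q = 0 := by
  rw [levelMod_fixed A hA hf, levelMod]
  haveI : IsEmpty {v : {v : V // A v = v} // Q (v : V) = 1} := ⟨fun v => by
    have := v.2
    rw [hfree v.1.1 v.1.2, map_zero] at this
    exact zero_ne_one this⟩
  rw [Nat.card_of_isEmpty, zero_mul, Nat.cast_zero]

/-- Two spaces of the same dimension and the same type are isometric. -/
theorem exists_equiv_of_level [Fintype F] {r : ℕ} [Fact r.Prime] (hr2 : r ≠ 2) (hq0 : (Fintype.card F : ZMod r) ≠ 0)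
    {V W : Type*} [AddCommGroup V] [Module F V] [FiniteDimensional F V] [AddCommGroup W] [Module F W]
    [FiniteDimensional F W] {Q : QuadraticForm F V} {Q' : QuadraticForm F W} (hQ : PolarSep Q) (hQ' : PolarSep Q')
    {m : ℕ} (hV : Module.finrank F V = 2 * m) (hW : Module.finrank F W = 2 * m)
    (h : levelMod r Q = levelMod r Q') : ∃ φ : V ≃ₗ[F] W, ∀ v, Q v = Q' (φ v) := by
  have hd : ∀ n : ℕ, (Fintype.card F : ZMod r) ^ n * ((Fintype.card F : ZMod r) ^ n - 1) ≠
      (Fintype.card F : ZMod r) ^ n * ((Fintype.card F : ZMod r) ^ n - -1) := fun n e => by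
    have h1 := mul_left_cancel₀ (pow_ne_zero n hq0) e
    have h2 : (2 : ZMod r) = 0 := by linear_combination -h1
    exact Ring.two_ne_zero (by rw [ZMod.ringChar_zmod_n]; exact hr2) h2
  rcases equiv_plus_or_minus hV Q hQ with ⟨φ, hφ⟩ | ⟨hm, ζ, φ, hζ, hφ⟩ <;>
    rcases equiv_plus_or_minus hW Q' hQ' with ⟨ψ, hψ⟩ | ⟨hm', ξ, ψ, hξ, hψ⟩
  · exact ⟨φ.trans ψ.symm, fun v => by rw [hψ, LinearEquiv.trans_apply, LinearEquiv.apply_symm_apply, hφ]⟩
  · exfalso
    rw [levelMod_congr r φ.toEquiv hφ, levelMod_congr r ψ.toEquiv hψ, levelMod_plus,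
      levelMod_minus r _ (binary_anisotropic_of_irred hξ), Nat.sub_add_cancel hm'] at h
    exact hd m h
  · exfalso
    rw [levelMod_congr r φ.toEquiv hφ, levelMod_congr r ψ.toEquiv hψ, levelMod_plus,
      levelMod_minus r _ (binary_anisotropic_of_irred hζ), Nat.sub_add_cancel hm] at h
    exact hd m h.symm
  · obtain ⟨χ, hχ⟩ := minus_equiv_normal hξ (m - 1) 1 ζ (binary_anisotropic_of_irred hζ)
    refine ⟨(φ.trans χ).trans ψ.symm, fun v => ?_⟩
    rw [hψ, LinearEquiv.trans_apply, LinearEquiv.apply_symm_apply, LinearEquiv.trans_apply, ← hχ, hφ]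

omit [DecidableEq ι] in
theorem quad_of_bilin_apply (U : Matrix ι ι F) [DecidableEq ι] (x : ι → F) :
    (Matrix.toBilin' U).toQuadraticMap x = x ⬝ᵥ U *ᵥ x := by
  rw [LinearMap.BilinMap.toQuadraticMap_apply]
  exact Matrix.toBilin'_apply' _ _ _

theorem isRoot_one_iff {A : Matrix ι ι F} : A.charpoly.IsRoot 1 ↔ ∃ v, v ≠ 0 ∧ A *ᵥ v = v := by
  rw [IsRoot.def, Matrix.eval_charpoly, ← Matrix.exists_mulVec_eq_zero_iff]
  refine exists_congr fun v => and_congr_right fun _ => ?_
  simp [sub_mulVec, sub_eq_zero, eq_comm]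

/-- An isometry of an even-dimensional quadratic space with prescribed spectrum. -/
theorem exists_orth_even [Fintype F] {r : ℕ} [Fact r.Prime] (hr2 : r ≠ 2) (hq0 : (Fintype.card F : ZMod r) ≠ 0)
    {Q : QuadraticForm F (ι → F)} (hQ : PolarSep Q) {m : ℕ} (hι : Fintype.card ι = 2 * m) {ε : ZMod r}
    (hε : ε = 1 ∨ ε = -1)
    (hlev : levelMod r Q = (Fintype.card F : ZMod r) ^ m * ((Fintype.card F : ZMod r) ^ m - ε))
    {L : Type u} [Field L] [Algebra F L] (M : Multiset L) (hcard : Multiset.card M = 2 * m)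
    (hM : ∀ x ∈ M, x ^ r = 1) (hq : M.map (fun x => x ^ Fintype.card F) = M) (hi : M.map (fun x => x⁻¹) = M)
    (hfull : (1 : L) ∈ M ∨ (Fintype.card F : ZMod r) ^ m = ε) :
    ∃ T : Matrix ι ι F, (∀ v, Q (T *ᵥ v) = Q v) ∧ T ^ r = 1 ∧
      T.charpoly.map (algebraMap F L) = (M.map fun x => X - C x).prod := by
  classical
  have hrp : r.Prime := Fact.out
  have hr : Odd r := hrp.odd_of_ne_two hr2
  set q := (Fintype.card F : ZMod r) with hqdef
  have hne0 : ∀ x ∈ M, x ≠ 0 := fun x hx h0 => by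
    have := hM x hx
    rw [h0, zero_pow (Nat.pos_iff_ne_zero.1 hr.pos)] at this
    exact zero_ne_one this
  set M' := M.filter (· ≠ 1) with hM'
  have hsplit : M' + Multiset.replicate (M.count 1) 1 = M := by
    rw [hM', ← Multiset.filter_eq', add_comm]
    exact Multiset.filter_add_not (· = 1) M
  have hfix : ∀ f : L → L, (∀ x ∈ M, f x = 1 ↔ x = 1) → M.map f = M → M'.map f = M' := by
    intro f hf h
    rw [hM']
    conv_rhs => rw [← h, Multiset.filter_map]
    refine congrArg _ (Multiset.filter_congr fun x hx => ?_)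
    rw [Function.comp_apply, Ne, Ne, hf x hx]
  have hi' : M'.map (fun x => x⁻¹) = M' := hfix _ (fun x _ => inv_eq_one) hi
  have hqr : ∀ x ∈ M, x ^ Fintype.card F = 1 ↔ x = 1 := fun x _ => by
    refine ⟨fun h => ?_, fun h => by rw [h, one_pow]⟩
    obtain ⟨n, hp, hn⟩ := FiniteField.card F (ringChar F)
    haveI := Fact.mk hp
    haveI : CharP L (ringChar F) := charP_of_injective_algebraMap (algebraMap F L).injective _
    rw [hn] at h
    refine iterateFrobenius_inj L (ringChar F) n ?_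
    rw [iterateFrobenius_def, map_one]
    exact h
  have hq' : M'.map (fun x => x ^ Fintype.card F) = M' := hfix _ hqr hq
  have hmem' : ∀ x ∈ M', x ∈ M ∧ x ≠ 1 := fun x hx => Multiset.mem_filter.1 hx
  obtain ⟨k, hk⟩ := even_card_of_inv (M := M') (fun x hx hx' => by
    obtain ⟨hxM, hx1⟩ := hmem' x hx
    have h2' : x ^ 2 = 1 := by
      rw [pow_two]; nth_rewrite 1 [← hx']; exact inv_mul_cancel₀ (hne0 x hxM)
    obtain ⟨j, rfl⟩ := hr
    have := hM x hxM
    rw [pow_succ, pow_mul, h2', one_pow, one_mul] at this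
    exact hx1 this) hi'
  rw [← two_mul] at hk
  obtain ⟨A, hA, hAr, hAc⟩ := exists_sp_of_spectrum hr M' hk (fun x hx => hM x (hmem' x hx).1) hq' hi'
  have hkb : 2 * k + M.count 1 = 2 * m := by
    rw [← hcard, ← hsplit, Multiset.card_add, Multiset.card_replicate, hk, hsplit]
  obtain ⟨n, hn⟩ : ∃ n, m = k + n := ⟨m - k, by omega⟩
  have h1root : ¬ A.charpoly.IsRoot 1 := by
    intro h
    have h' := h.map (f := algebraMap F L)
    rw [map_one, hAc] at h'
    have h'' : (1 : L) ∈ M' := by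
      rw [← Polynomial.roots_multiset_prod_X_sub_C M', mem_roots']
      exact ⟨(monic_multiset_prod_of_monic _ _ fun x _ => monic_X_sub_C x).ne_zero, h'⟩
    exact (hmem' _ h'').2 rfl
  have hfree : ∀ v, A *ᵥ v = v → v = 0 := fun v hv => by
    by_contra h
    exact h1root (isRoot_one_iff.2 ⟨v, h, hv⟩)
  -- the quadratic form on the moved part
  have hAu : IsUnit A := IsUnit.of_pow_eq_one hAr (Nat.pos_iff_ne_zero.1 hr.pos)
  have hAdet : IsUnit A.det := (isUnit_iff_isUnit_det A).1 hAu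
  have hJ := SymplecticGroup.mem_iff'.1 hA
  set J := Matrix.J (Fin k) F with hJdef
  have e1 : Aᵀ * J = J * A⁻¹ := by
    conv_rhs => rw [← hJ]
    rw [mul_assoc (Aᵀ * J), Matrix.mul_nonsing_inv _ hAdet, mul_one]
  let Q' : QuadraticForm F (Fin k ⊕ Fin k → F) := (Matrix.toBilin' (J * A)).toQuadraticMap
  have hinv : ∀ v, Q' (A *ᵥ v) = Q' v := fun v => by
    rw [quad_of_bilin_apply, quad_of_bilin_apply, ← vecMul_transpose A v, ← dotProduct_mulVec, vecMul_transpose,
      mulVec_mulVec, mulVec_mulVec, ← mul_assoc Aᵀ J A, hJ]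
  have hQ's : PolarSep Q' := by
    intro x hx
    have hB : ∀ y, x ⬝ᵥ (J * (A - A⁻¹)) *ᵥ y = 0 := fun y => by
      have e := hx y
      rw [LinearMap.BilinMap.polar_toQuadraticMap, Matrix.toBilin'_apply', Matrix.toBilin'_apply'] at e
      rw [← e, mul_sub, sub_mulVec, dotProduct_sub, sub_eq_add_neg]
      congr 1
      rw [dotProduct_mulVec y, dotProduct_comm _ x, ← mulVec_transpose, transpose_mul, hJdef, Matrix.J_transpose,
        ← hJdef, mul_neg, e1, neg_mulVec, dotProduct_neg]
    have hdet : IsUnit (J * (A - A⁻¹)).det := by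
      have e4 : A - A⁻¹ = A⁻¹ * (A * A - 1) := by
        rw [mul_sub, ← mul_assoc, Matrix.nonsing_inv_mul _ hAdet, one_mul, mul_one]
      rw [det_mul, e4, det_mul]
      exact isUnit_iff_ne_zero.2 (mul_ne_zero (Matrix.isUnit_det_J (Fin k) F).ne_zero
        (mul_ne_zero (((isUnit_iff_isUnit_det _).1 (isUnit_nonsing_inv_iff.2 hAu)).ne_zero)
          (det_ne_zero_of_sq_ne hr hAr h1root)))
    obtain ⟨B', hB'⟩ : ∃ B', (J * (A - A⁻¹)) * B' = 1 :=
      ⟨_, Matrix.mul_nonsing_inv _ hdet⟩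
    refine dotProduct_eq_zero x fun y => ?_
    have := hB (B' *ᵥ y)
    rwa [mulVec_mulVec, hB', one_mulVec] at this
  have hl0 : levelMod r Q' = 0 := by
    refine levelMod_free Q' (Matrix.toLinAlgEquiv' A) (by rw [← map_pow, hAr, map_one]) (fun v => ?_) fun v hv => ?_
    · exact hinv v
    · exact hfree v hv
  have hs : q ^ k * q ^ k = 1 := by
    rcases equiv_plus_or_minus (m := k) (by rw [Module.finrank_pi, Fintype.card_sum, Fintype.card_fin, two_mul])
      Q' hQ's with ⟨φ, hφ⟩ | ⟨hk1, ζ, φ, hζ, hφ⟩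
    · rw [levelMod_congr r φ.toEquiv hφ, levelMod_plus] at hl0
      rw [sub_eq_zero.1 ((mul_eq_zero.1 hl0).resolve_left (pow_ne_zero k hq0)), mul_one]
    · rw [levelMod_congr r φ.toEquiv hφ, levelMod_minus r _ (binary_anisotropic_of_irred hζ),
        Nat.sub_add_cancel hk1] at hl0
      rw [sub_eq_zero.1 ((mul_eq_zero.1 hl0).resolve_left (pow_ne_zero k hq0))]
      norm_num
  -- the complement
  obtain ⟨κ, i1, i2, R, hRs, hκ, hRl⟩ : ∃ (κ : Type) (_ : Fintype κ) (_ : DecidableEq κ)
      (R : QuadraticForm F (κ → F)), (polB R).Nondegenerate ∧ Fintype.card κ = 2 * n ∧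
        levelMod r R = q ^ n * (q ^ n - ε * q ^ k) := by
    have hsε : ε * q ^ k = 1 ∨ ε * q ^ k = -1 := by
      rcases sq_eq_one_iff.1 (by rw [pow_two]; exact hs : (q ^ k) ^ 2 = 1) with h | h <;>
        rcases hε with rfl | rfl <;> simp [h]
    rcases Nat.eq_zero_or_pos n with rfl | hn0
    · refine ⟨Fin 0 ⊕ Fin 0, inferInstance, inferInstance, qPlus 0 F, qPlus_nondeg 0, rfl, ?_⟩
      have : ε * q ^ k = 1 := by
        rcases hfull with h | h
        · exfalso
          have := Multiset.count_pos.2 h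
          omega
        · rw [← h, show m = k by omega, hs]
      rw [coe_qPlus, levelMod_plus, this]
    · rcases hsε with h | h
      · refine ⟨Fin n ⊕ Fin n, inferInstance, inferInstance, qPlus n F, qPlus_nondeg n, by simp; ring, ?_⟩
        rw [coe_qPlus, levelMod_plus, h]
      · obtain ⟨ζ, hζ⟩ := exists_irred_quad (F := F)
        refine ⟨(Fin (n - 1) ⊕ Fin (n - 1)) ⊕ Fin 2, inferInstance, inferInstance, qMinus (n - 1) F 1 ζ,
          qMinus_nondeg (n - 1) (binary_anisotropic_of_irred hζ), by simp; omega, ?_⟩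
        rw [coe_qMinus, levelMod_minus r _ (binary_anisotropic_of_irred hζ), Nat.sub_add_cancel hn0, h]
  let D : Matrix ((Fin k ⊕ Fin k) ⊕ κ) ((Fin k ⊕ Fin k) ⊕ κ) F := fromBlocks A 0 0 1
  have hDv : ∀ v, D *ᵥ v = Sum.elim (A *ᵥ (v ∘ Sum.inl)) (v ∘ Sum.inr) := fun v => by
    simp [D, fromBlocks_mulVec]
  have hDQ : ∀ v, sumForm Q' R (D *ᵥ v) = sumForm Q' R v := fun v => by
    rw [hDv, coe_sumForm]
    simp only [Sum.elim_comp_inl, Sum.elim_comp_inr, hinv]
  have hDr : D ^ r = 1 := by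
    have e5 : ∀ j : ℕ, D ^ j = fromBlocks (A ^ j) 0 0 1 := by
      intro j
      induction j with
      | zero => simp
      | succ j ih => rw [pow_succ, ih, pow_succ]; simp [D, fromBlocks_multiply]
    rw [e5, hAr, fromBlocks_one]
  have hsum : levelMod r (sumForm Q' R) = q ^ m * (q ^ m - ε) := by
    rw [levelMod_fixed (Matrix.toLinAlgEquiv' D) (by rw [← map_pow, hDr, map_one]) (fun v => hDQ v)]
    let eR : {v : (Fin k ⊕ Fin k) ⊕ κ → F // Matrix.toLinAlgEquiv' D v = v} ≃ (κ → F) :=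
      { toFun := fun v => v.1 ∘ Sum.inr
        invFun := fun y => ⟨Sum.elim 0 y, by
          show D *ᵥ Sum.elim 0 y = _
          rw [hDv, Sum.elim_comp_inl, Sum.elim_comp_inr, mulVec_zero]⟩
        left_inv := fun v => by
          have h : D *ᵥ v.1 = v.1 := v.2
          rw [hDv] at h
          have h0 : v.1 ∘ Sum.inl = 0 := hfree _ (by
            conv_rhs => rw [← h]
            rw [Sum.elim_comp_inl])
          apply Subtype.ext
          show Sum.elim (0 : Fin k ⊕ Fin k → F) (v.1 ∘ Sum.inr) = v.1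
          rw [← h0, Sum.elim_comp_inl_inr]
        right_inv := fun y => by simp }
    rw [levelMod_congr r (g := R) eR fun v => by
      have h : D *ᵥ v.1 = v.1 := v.2
      rw [hDv] at h
      have h0 : v.1 ∘ Sum.inl = 0 := hfree _ (by
        conv_rhs => rw [← h]
        rw [Sum.elim_comp_inl])
      rw [coe_sumForm]
      show Q' (v.1 ∘ Sum.inl) + _ = _
      rw [h0, map_zero, zero_add]
      rfl, hRl, hn, pow_add]
    linear_combination -(q ^ n * q ^ n) * hs
  have hrank : Module.finrank F ((Fin k ⊕ Fin k) ⊕ κ → F) = 2 * m := by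
    rw [Module.finrank_pi, Fintype.card_sum, Fintype.card_sum, Fintype.card_fin, hκ]; omega
  obtain ⟨φ, hφ⟩ := exists_equiv_of_level hr2 hq0
    (polarSep_of_nondegenerate (sumForm_nondeg (nondegenerate_of_polarSep hQ's) hRs)) hQ hrank
    (by rw [Module.finrank_pi, hι]) (by rw [hsum, hlev])
  set l : ((Fin k ⊕ Fin k) ⊕ κ → F) →ₗ[F] ((Fin k ⊕ Fin k) ⊕ κ → F) := Matrix.toLin' D with hl
  refine ⟨LinearMap.toMatrix' (φ.conj l), fun v => ?_, ?_, ?_⟩
  · obtain ⟨x, rfl⟩ := φ.surjective v
    rw [LinearMap.toMatrix'_mulVec, LinearEquiv.conj_apply_apply, LinearEquiv.symm_apply_apply, ← hφ, ← hφ, hl,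
      Matrix.toLin'_apply, hDQ]
  · have e1 : ∀ j : ℕ, LinearMap.toMatrix' (φ.conj l) ^ j = LinearMap.toMatrix' (φ.conj (Matrix.toLin' (D ^ j))) := by
      intro j
      induction j with
      | zero => simp
      | succ j ih =>
        rw [pow_succ, ih, ← LinearMap.toMatrix'_comp, ← LinearEquiv.conj_comp, hl, ← Matrix.toLin'_mul, ← pow_succ]
    rw [e1, hDr, Matrix.toLin'_one, LinearEquiv.conj_id, LinearMap.toMatrix'_id]
  · rw [← Matrix.charpoly_toLin', Matrix.toLin'_toMatrix', LinearEquiv.charpoly_conj, hl, Matrix.charpoly_toLin',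
      charpoly_fromBlocks_zero₂₁, Polynomial.map_mul, hAc, charpoly_one, hκ, show 2 * n = M.count 1 by omega]
    conv_rhs => rw [← hsplit, Multiset.map_add, Multiset.prod_add, Multiset.map_replicate, Multiset.prod_replicate]
    simp

/-- Classes of elements of order `r` in the isometry group of an even-dimensional quadratic space. -/
theorem card_classes_orth_even [Fintype F] {Q : QuadraticForm F (ι → F)} (hQ : PolarSep Q) {m : ℕ}
    (hι : Fintype.card ι = 2 * m) (hm : 1 ≤ m) {r : ℕ} [Fact r.Prime] (hr2 : r ≠ 2) (hrF : (r : F) ≠ 0)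
    (hq0 : (Fintype.card F : ZMod r) ≠ 0) (e : (ZMod r)ˣ)
    (hqe : ∃ k : ℕ, ((e ^ k : (ZMod r)ˣ) : ZMod r) = (Fintype.card F : ZMod r))
    (hne : ∃ k : ℕ, ((e ^ k : (ZMod r)ˣ) : ZMod r) = -1)
    (he : (e : ZMod r) = (Fintype.card F : ZMod r) ∨ (e : ZMod r) = -(Fintype.card F : ZMod r))
    {ε : ZMod r} (hε : ε = 1 ∨ ε = -1)
    (hlev : levelMod r Q = (Fintype.card F : ZMod r) ^ m * ((Fintype.card F : ZMod r) ^ m - ε)) :
    Nat.card {C : ConjClasses ↥(Cfsg.isometryGroup F ⇑Q) //
        ∃ g : ↥(Cfsg.isometryGroup F ⇑Q), ConjClasses.mk g = C ∧ orderOf g = r} =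
      Nat.choose ((2 * m - if (Fintype.card F : ZMod r) ^ m = ε then 0 else 1) / orderOf e +
          Nat.card ((ZMod r)ˣ ⧸ Subgroup.zpowers e))
        (Nat.card ((ZMod r)ˣ ⧸ Subgroup.zpowers e)) - 1 := by
  classical
  have hnd : (polB Q).Nondegenerate := nondegenerate_of_polarSep hQ
  have hr : r.Prime := Fact.out
  let ρ : ↥(Cfsg.isometryGroup F ⇑Q) →* Matrix ι ι F :=
    (Units.coeHom _).comp (Cfsg.isometryGroup F ⇑Q).subtype
  set S := LinearMap.BilinForm.toMatrix' (polB Q) with hSdef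
  have hpol : ∀ u v, polB Q u v = u ⬝ᵥ S *ᵥ v := fun u v => by
    conv_lhs => rw [← Matrix.toBilin'_toMatrix' (polB Q)]
    exact Matrix.toBilin'_apply' _ _ _
  have hS : IsUnit S := by
    rw [isUnit_iff_isUnit_det, isUnit_iff_ne_zero]
    have h := (LinearMap.BilinForm.nondegenerate_iff_det_ne_zero (Pi.basisFun F ι)).mp hnd
    convert h using 2
    ext i j
    rw [hSdef, LinearMap.BilinForm.toMatrix'_apply, LinearMap.BilinForm.toMatrix_apply]
    simp
  have hρ : ∀ g, (ρ g)ᵀ * S * ρ g = S := fun g => by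
    refine Matrix.ext fun a b => ?_
    have key : ∀ u v, u ⬝ᵥ ((ρ g)ᵀ * S * ρ g) *ᵥ v = u ⬝ᵥ S *ᵥ v := fun u v => by
      rw [← mulVec_mulVec, ← mulVec_mulVec, dotProduct_mulVec, vecMul_transpose, ← hpol, ← hpol]
      exact orth_polB_map (toOrth Q g) u v
    simpa [mulVec_single_one, single_dotProduct] using key (Pi.single a 1) (Pi.single b 1)
  rw [show 2 * m = Fintype.card ι from hι.symm]
  refine card_classes_form_aux ρ S hS hρ hrF e hqe hne he ?_ _ ?_ ?_ ?_ ?_
  · intro g h hg hh hc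
    obtain ⟨c, hc'⟩ := H40.exists_conj_of_charpoly _ (ι → F) (ι → F)
      (Matrix.toLinAlgEquiv' (ρ g)) (Matrix.toLinAlgEquiv' (ρ h)) rfl
      ⟨r, hrF, by rw [← map_pow, ← map_pow, hg, map_one, map_one]⟩
      ⟨r, hrF, by rw [← map_pow, ← map_pow, hh, map_one, map_one]⟩
      ((Matrix.charpoly_toLin' _).trans (hc.trans (Matrix.charpoly_toLin' _).symm))
    obtain ⟨w, hw⟩ := isConj_of_linear_conj hnd (toOrth _ g) (toOrth _ h) r (hr.odd_of_ne_two hr2)
      (by rw [← map_pow, hg, map_one]) hrF c fun x => (LinearMap.congr_fun hc' x).symm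
    refine isConj_iff.2 ⟨(toOrth Q).symm w, (toOrth Q).injective (orth_ext fun x => ?_)⟩
    rw [map_mul, map_mul, map_inv, MulEquiv.apply_symm_apply, orth_mul_apply, orth_mul_apply, hw]
    exact congrArg _ (w.1.apply_symm_apply x)
  · split_ifs <;> omega
  · split_ifs <;> omega
  · intro hj g hg
    by_cases h : (Fintype.card F : ZMod r) ^ m = ε
    · rw [if_pos h] at hj; exact absurd hj zero_ne_one
    by_contra hroot
    refine h ?_
    have hA : ρ g ^ r = 1 := by rw [← map_pow, hg, map_one]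
    have h0 := levelMod_free Q (Matrix.toLinAlgEquiv' (ρ g)) (by rw [← map_pow, hA, map_one])
      (fun v => orth_qmap (toOrth Q g) v) fun v hv => by
        by_contra hv0
        exact hroot (isRoot_one_iff.2 ⟨v, hv0, hv⟩)
    rw [hlev] at h0
    exact sub_eq_zero.1 ((mul_eq_zero.1 h0).resolve_left (pow_ne_zero m hq0))
  · intro L _ _ M hM1 hle hM2 hM3 hM4
    obtain ⟨T, hT, hTr, hTc⟩ := exists_orth_even hr2 hq0 hQ hι hε hlev M (by rw [hM1, hι]) hM2 hM3 hM4 (by
      by_cases h : (Fintype.card F : ZMod r) ^ m = ε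
      · exact Or.inr h
      · rw [if_neg h, Multiset.replicate_one, Multiset.singleton_le] at hle
        exact Or.inl hle)
    have hTu : IsUnit T := IsUnit.of_pow_eq_one hTr hr.ne_zero
    refine ⟨⟨hTu.unit, fun u _ => hT u⟩, Subtype.ext (Units.ext ?_), hTc⟩
    rw [SubmonoidClass.coe_pow, Units.val_pow_eq_pow_val]
    exact hTr

end Orbit

end H44
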