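import Cfsg.Agent.H44.NormSurj
import Cfsg.Agent.H43.Witt
import Cfsg.Agent.H43.Wall

/-!
Semisimple isometries of odd order that are conjugate in the general linear group are conjugate in the
orthogonal group.
-/

set_option autoImplicit false

namespace H44

open H43

/-- Two symmetric non-degenerate forms invariant under `a`, with `a² - 1` injective, differ by an
element commuting with `a`. -/
theorem exists_commuting_congruence {F U : Type*} [Field F] [Finite F] [AddCommGroup U] [Module F U]
    [FiniteDimensional F U] (f₁ f₂ : LinearMap.BilinForm F U) (h₁ : f₁.Nondegenerate) (h₂ : f₂.Nondegenerate)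
    (s₁ : ∀ x y, f₁ x y = f₁ y x) (s₂ : ∀ x y, f₂ x y = f₂ y x) (a : U ≃ₗ[F] U)
    (i₁ : ∀ x y, f₁ (a x) (a y) = f₁ x y) (i₂ : ∀ x y, f₂ (a x) (a y) = f₂ x y)
    (hfree : ∀ x, a (a x) = x → x = 0) :
    ∃ c : U ≃ₗ[F] U, (∀ x, c (a x) = a (c x)) ∧ ∀ x y, f₁ (c x) (c y) = f₂ x y := by
  classical
  haveI : Finite U := Module.finite_of_finite F
  haveI : Finite (Module.End F U) := Finite.of_injective _ DFunLike.coe_injective
  let S : Module.End F U := LinearMap.BilinForm.symmCompOfNondegenerate f₂ f₁ h₁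
  have hS : ∀ x y, f₁ (S x) y = f₂ x y := fun x y => LinearMap.BilinForm.symmCompOfNondegenerate_left_apply f₂ h₁ y x
  let A : Module.End F U := a.toLinearMap
  let A' : Module.End F U := a.symm.toLinearMap
  have hAA' : A * A' = 1 := LinearMap.ext a.apply_symm_apply
  have hA'A : A' * A = 1 := LinearMap.ext a.symm_apply_apply
  have hext : ∀ {p q : Module.End F U}, (∀ x y, f₁ (p x) y = f₁ (q x) y) → p = q := by
    intro p q h
    refine LinearMap.ext (fun x => sub_eq_zero.1 (h₁.1 _ (fun y => ?_)))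
    rw [map_sub, LinearMap.sub_apply, h, sub_self]
  have hA : ∀ x y, f₁ (A x) y = f₁ x (A' y) := fun x y => by
    show f₁ (a x) y = f₁ x (a.symm y)
    conv_lhs => rw [← a.apply_symm_apply y]
    rw [i₁]
  have hSA : S * A = A * S := hext (fun x y => by
    show f₁ (S (a x)) y = f₁ (a (S x)) y
    conv_rhs => rw [← a.apply_symm_apply y, i₁, hS, ← i₂, a.apply_symm_apply]
    rw [hS])
  have hSA' : S * A' = A' * S := by
    calc S * A' = A' * A * S * A' := by rw [hA'A, one_mul]
      _ = A' * (S * A) * A' := by rw [mul_assoc A' A S, ← hSA]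
      _ = A' * S := by rw [mul_assoc, mul_assoc S A A', hAA', mul_one]
  let gen : Set (Module.End F U) := {A, A', S}
  have hgen : ∀ p ∈ gen, ∀ q ∈ gen, p * q = q * p := by
    intro p hp q hq
    rcases hp with rfl | rfl | rfl <;> rcases hq with rfl | rfl | rfl <;>
      simp only [hAA', hA'A, hSA, hSA']
  letI : CommRing (Algebra.adjoin F gen) := Algebra.adjoinCommRingOfComm F hgen
  let K := Algebra.adjoin F gen
  haveI : Finite K := Subtype.finite
  -- adjoint
  let adj : Module.End F U → Module.End F U := fun p => f₁.leftAdjointOfNondegenerate h₁ p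
  have hadj : ∀ (p : Module.End F U) (x y : U), f₁ (adj p x) y = f₁ x (p y) := fun p x y =>
    LinearMap.BilinForm.isAdjointPairLeftAdjointOfNondegenerate f₁ h₁ p x y
  have adj_add : ∀ p q, adj (p + q) = adj p + adj q := fun p q => hext (fun x y => by
    simp [hadj])
  have adj_mul : ∀ p q, adj (p * q) = adj q * adj p := fun p q => hext (fun x y => by
    rw [hadj, Module.End.mul_apply, Module.End.mul_apply, hadj, hadj])
  have adj_algebraMap : ∀ t, adj (algebraMap F (Module.End F U) t) = algebraMap F (Module.End F U) t :=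
    fun t => hext (fun x y => by simp [hadj, Module.algebraMap_end_apply])
  have adjA : adj A = A' := hext (fun x y => by
    rw [hadj, s₁, hA, s₁])
  have adjA' : adj A' = A := hext (fun x y => by rw [hadj, hA])
  have adjS : adj S = S := hext (fun x y => by rw [hadj, s₁, hS, hS, s₂])
  have hmemK : ∀ p ∈ K, adj p ∈ K := by
    intro p hp
    induction hp using Algebra.adjoin_induction with
    | mem x hx =>
      rcases hx with rfl | rfl | rfl
      · rw [adjA]; exact Algebra.subset_adjoin (by simp [gen])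
      · rw [adjA']; exact Algebra.subset_adjoin (by simp [gen])
      · rw [adjS]; exact Algebra.subset_adjoin (by simp [gen])
    | algebraMap r => rw [adj_algebraMap]; exact Subalgebra.algebraMap_mem _ r
    | add x y _ _ hx hy => rw [adj_add]; exact K.add_mem hx hy
    | mul x y _ _ hx hy => rw [adj_mul]; exact K.mul_mem hy hx
  let σ : K →+* K :=
    { toFun := fun p => ⟨adj p.1, hmemK _ p.2⟩
      map_one' := Subtype.ext (hext (fun x y => by
        show f₁ (adj (1 : Module.End F U) x) y = f₁ x y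
        rw [hadj]; rfl))
      map_mul' := fun p q => by
        refine Eq.trans ?_ (mul_comm (⟨adj q.1, hmemK _ q.2⟩ : K) ⟨adj p.1, hmemK _ p.2⟩)
        exact Subtype.ext (adj_mul _ _)
      map_zero' := Subtype.ext (hext (fun x y => by
        show f₁ (adj (0 : Module.End F U) x) y = f₁ 0 y
        rw [hadj]; simp))
      map_add' := fun p q => Subtype.ext (adj_add _ _) }
  have hσ : ∀ p, σ (σ p) = p := fun p => Subtype.ext (hext (fun x y => by
    show f₁ (adj (adj p.1) x) y = _
    rw [hadj, s₁, hadj, s₁]))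
  have hunit : ∀ p : K, Function.Injective (p.1 : U →ₗ[F] U) → IsUnit p := fun p hp => by
    refine IsLeftRegular.isUnit_of_finite (fun q r h => Subtype.ext (LinearMap.ext (fun x => hp ?_)))
    exact LinearMap.congr_fun (congrArg Subtype.val h) x
  let α : K := ⟨A, Algebra.subset_adjoin (by simp [gen])⟩
  let S' : K := ⟨S, Algebra.subset_adjoin (by simp [gen])⟩
  have hα : IsUnit (α - σ α) := by
    refine hunit _ ?_
    rw [← LinearMap.ker_eq_bot, LinearMap.ker_eq_bot']
    intro x hx
    have hx' : A x - adj A x = 0 := hx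
    rw [adjA] at hx'
    apply hfree
    have h1 : a x = a.symm x := sub_eq_zero.1 hx'
    rw [h1, a.apply_symm_apply]
  have hS' : IsUnit S' := by
    refine hunit _ ?_
    rw [← LinearMap.ker_eq_bot, LinearMap.ker_eq_bot']
    intro x hx
    refine h₂.1 x (fun y => ?_)
    rw [← hS, show S x = 0 from hx, map_zero, LinearMap.zero_apply]
  obtain ⟨c, hc⟩ := exists_norm_eq_of_fixed σ hσ α hα hS'.unit (Subtype.ext adjS)
  have hc' : adj (c : K).1 * (c : K).1 = S := congrArg Subtype.val hc
  have hinvl : ((↑c⁻¹ : K)).1 * ((c : K)).1 = 1 := congrArg Subtype.val c.inv_mul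
  have hinvr : ((c : K)).1 * ((↑c⁻¹ : K)).1 = 1 := congrArg Subtype.val c.mul_inv
  refine ⟨LinearEquiv.ofLinearMap (c : K).1 (↑c⁻¹ : K).1 hinvr hinvl, fun x => ?_, fun x y => ?_⟩
  · have h := congrArg Subtype.val (mul_comm (c : K) α)
    exact LinearMap.congr_fun h x
  · show f₁ ((c : K).1 x) ((c : K).1 y) = f₂ x y
    rw [← hadj, ← Module.End.mul_apply, hc', hS]

variable {F : Type*} [Field F] {V : Type*} [AddCommGroup V] [Module F V] [FiniteDimensional F V]
  {Q : QuadraticForm F V}

/-- For semisimple `A`, nothing non-zero is fixed inside the residual space. -/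
theorem fixed_resid_eq_zero {A : orthGroup Q} {n : ℕ} (hn : A ^ n = 1) (hn0 : (n : F) ≠ 0) {x : V}
    (hx : x ∈ resid A) (hfix : A.1 x = x) : x = 0 := by
  obtain ⟨y, rfl⟩ := hx
  set z := resMap A y
  have hpow : ∀ (i : ℕ) (v : V), (A ^ (i + 1)).1 v = (A ^ i).1 (A.1 v) := fun i v => by
    rw [pow_succ, orth_mul_apply]
  have hz : ∀ i : ℕ, (A ^ i).1 z = z := by
    intro i
    induction i with
    | zero => rfl
    | succ i ih => rw [hpow, hfix, ih]
  have h1 : ∑ i ∈ Finset.range n, (A ^ i).1 z = (n : F) • z := by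
    rw [Finset.sum_congr rfl (fun i _ => hz i), Finset.sum_const, Finset.card_range, Nat.cast_smul_eq_nsmul]
  have h2 : ∀ i : ℕ, (A ^ i).1 z = (A ^ i).1 y - (A ^ (i + 1)).1 y := by
    intro i
    rw [hpow, ← map_sub]
    rfl
  rw [Finset.sum_congr rfl (fun i _ => h2 i), Finset.sum_range_sub', hn, pow_zero, sub_self] at h1
  exact (smul_eq_zero.1 h1.symm).resolve_left hn0

theorem resid_invariant (A : orthGroup Q) : ∀ x ∈ resid A, A.1 x ∈ resid A := by
  rintro x ⟨y, rfl⟩
  exact ⟨A.1 y, by rw [resMap_apply, resMap_apply, map_sub]⟩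

theorem restrict_resid_nondeg (hQ : (polB Q).Nondegenerate) {A : orthGroup Q} {n : ℕ} (hn : A ^ n = 1)
    (hn0 : (n : F) ≠ 0) {x : V} (hx : x ∈ resid A) (h : ∀ y ∈ resid A, polB Q x y = 0) : x = 0 := by
  refine fixed_resid_eq_zero hn hn0 hx ?_
  have h3 : x ∈ (polB Q).orthogonal (resid A) := fun y hy => by
    show polB Q y x = 0
    rw [polB_comm]
    exact h y hy
  rw [resid_eq_orth_fixed hQ, LinearMap.BilinForm.orthogonal_orthogonal hQ (polB_isRefl Q)] at h3
  exact mem_ker_resMap.1 h3

/-- Semisimple isometries of odd order conjugate in `GL` are conjugate in the orthogonal group. -/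
theorem isConj_of_linear_conj [Finite F] (hQ : (polB Q).Nondegenerate) (A B : orthGroup Q) (n : ℕ)
    (hodd : Odd n) (hn : A ^ n = 1) (hn0 : (n : F) ≠ 0) (g : V ≃ₗ[F] V)
    (hg : ∀ x, g (A.1 x) = B.1 (g x)) : ∃ h : orthGroup Q, ∀ x, h.1 (A.1 x) = B.1 (h.1 x) := by
  classical
  have hgpow : ∀ (i : ℕ) (x : V), g ((A ^ i).1 x) = (B ^ i).1 (g x) := by
    intro i
    induction i with
    | zero => intro x; rfl
    | succ i ih => intro x; rw [pow_succ', pow_succ', orth_mul_apply, orth_mul_apply, hg, ih]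
  have hnB : B ^ n = 1 := orth_ext (fun y => by
    rw [← g.apply_symm_apply y, ← hgpow, hn]; rfl)
  set U := resid A
  set W := resid B
  have hgU : ∀ x ∈ U, g x ∈ W := by
    rintro x ⟨y, rfl⟩
    exact ⟨g y, by rw [resMap_apply, resMap_apply, map_sub, hg]⟩
  have hgsurj : ∀ z ∈ W, ∃ x ∈ U, g x = z := by
    rintro z ⟨y, rfl⟩
    exact ⟨resMap A (g.symm y), ⟨_, rfl⟩, by rw [resMap_apply, map_sub, hg, g.apply_symm_apply, resMap_apply]⟩
  -- the restriction of A
  let a₀ : U →ₗ[F] U := (A.1 : V →ₗ[F] V).restrict (resid_invariant A)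
  have ha₀ : Function.Injective a₀ := fun x y h => Subtype.ext (A.1.injective (congrArg Subtype.val h))
  let a : U ≃ₗ[F] U := LinearEquiv.ofInjectiveEndo a₀ ha₀
  have ha : ∀ x : U, (a x : V) = A.1 x := fun x => rfl
  have hfree : ∀ x : U, a (a x) = x → x = 0 := by
    intro x hx
    have h2 : A.1 (A.1 (x : V)) = x := congrArg Subtype.val hx
    have heven : ∀ k : ℕ, (A ^ (2 * k)).1 (x : V) = x := by
      intro k
      induction k with
      | zero => rfl
      | succ k ih => rw [show 2 * (k + 1) = 2 * k + 2 by ring, pow_add, orth_mul_apply, pow_two,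
          orth_mul_apply, h2, ih]
    obtain ⟨k, rfl⟩ := hodd
    have h3 : (A ^ (2 * k + 1)).1 (x : V) = x := by rw [hn]; rfl
    rw [pow_succ', orth_mul_apply, heven] at h3
    exact Subtype.ext (fixed_resid_eq_zero hn hn0 x.2 h3)
  let f₁ : LinearMap.BilinForm F U := (polB Q).compl₁₂ U.subtype U.subtype
  let gU : U →ₗ[F] V := (g : V →ₗ[F] V).comp U.subtype
  let f₂ : LinearMap.BilinForm F U := (polB Q).compl₁₂ gU gU
  have e₁ : ∀ x y : U, f₁ x y = polB Q (x : V) (y : V) := fun _ _ => rfl
  have e₂ : ∀ x y : U, f₂ x y = polB Q (g x) (g y) := fun _ _ => rfl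
  have n₁ : f₁.Nondegenerate := by
    refine ⟨fun x hx => ?_, fun x hx => ?_⟩ <;>
      refine Subtype.ext (restrict_resid_nondeg hQ hn hn0 x.2 (fun y hy => ?_))
    · exact hx ⟨y, hy⟩
    · rw [polB_comm]; exact hx ⟨y, hy⟩
  have n₂ : f₂.Nondegenerate := by
    refine ⟨fun x hx => ?_, fun x hx => ?_⟩ <;>
    · refine Subtype.ext (g.injective ((restrict_resid_nondeg hQ hnB hn0 (hgU x x.2) (fun y hy => ?_)).trans (map_zero g).symm))
      obtain ⟨w, hw, rfl⟩ := hgsurj y hy
      first
        | exact hx ⟨w, hw⟩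
        | (rw [polB_comm]; exact hx ⟨w, hw⟩)
  obtain ⟨c, hca, hcf⟩ := exists_commuting_congruence f₁ f₂ n₁ n₂
    (fun x y => polB_comm _ _) (fun x y => polB_comm _ _) a
    (fun x y => by rw [e₁, e₁, ha, ha, orth_polB_map])
    (fun x y => by rw [e₂, e₂, ha, ha, hg, hg, orth_polB_map]) hfree
  -- the candidate isometry on U
  let f : U →ₗ[F] V := gU.comp c.symm.toLinearMap
  have hf : ∀ x, f x = g (c.symm x : V) := fun _ => rfl
  have hfa : ∀ x : U, f (a x) = B.1 (f x) := by
    intro x
    have : c.symm (a x) = a (c.symm x) := c.injective (by rw [c.apply_symm_apply, hca, c.apply_symm_apply])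
    rw [hf, hf, this, ha, hg]
  have hfpol : ∀ x y : U, polB Q (f x) (f y) = polB Q (x : V) (y : V) := by
    intro x y
    rw [hf, hf, ← e₂, ← hcf, c.apply_symm_apply, c.apply_symm_apply, e₁]
  -- equality of the quadratic forms
  let D : U → F := fun x => Q (f x) - Q (x : V)
  have hDadd : ∀ x y, D (x + y) = D x + D y := by
    intro x y
    simp only [D, Submodule.coe_add, map_add f, qmap_add, hfpol]
    ring
  have hDa : ∀ x, D (a x) = D x := by
    intro x
    simp only [D, hfa, ha, orth_qmap]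
  have hD : ∀ x, D x = 0 := by
    have hinj : Function.Injective (⇑(a₀ - (LinearMap.id : U →ₗ[F] U))) := by
      rw [← LinearMap.ker_eq_bot, LinearMap.ker_eq_bot']
      intro x hx
      exact Subtype.ext (fixed_resid_eq_zero hn hn0 x.2 (congrArg Subtype.val (sub_eq_zero.1 hx)))
    intro x
    obtain ⟨y, hy⟩ := (LinearMap.injective_iff_surjective.1 hinj) x
    have hy' : x + y = a y := by
      rw [← hy]
      show (a₀ y - y) + y = a₀ y
      abel
    have := hDadd x y
    rw [hy', hDa] at this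
    linear_combination -this
  have hfinj : Function.Injective f := g.injective.comp (Subtype.val_injective.comp c.symm.injective)
  obtain ⟨h, hh⟩ := witt_extend hQ U f hfinj (fun x => sub_eq_zero.1 (hD x))
  refine ⟨h, ?_⟩
  -- h A and B h agree on U and on the fixed space of A
  let K₁ := LinearMap.ker (resMap A)
  have hU : ∀ x ∈ U, h.1 (A.1 x) = B.1 (h.1 x) := by
    intro x hx
    have h1 := hh (a ⟨x, hx⟩)
    rw [ha] at h1
    rw [h1, hh ⟨x, hx⟩, hfa]
  have hK : ∀ x ∈ K₁, h.1 (A.1 x) = B.1 (h.1 x) := by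
    intro x hx
    rw [mem_ker_resMap.1 hx]
    have h3 : h.1 x ∈ (polB Q).orthogonal W := by
      intro y hy
      show polB Q y (h.1 x) = 0
      obtain ⟨w, hw, rfl⟩ := hgsurj y hy
      have : g w = h.1 (c ⟨w, hw⟩ : V) := by rw [hh, hf, c.symm_apply_apply]
      rw [this, orth_polB_map, polB_comm]
      exact polB_fixed_resid (mem_ker_resMap.1 hx) (c ⟨w, hw⟩).2
    rw [show W = resid B from rfl, resid_eq_orth_fixed hQ, LinearMap.BilinForm.orthogonal_orthogonal hQ (polB_isRefl Q)] at h3
    exact (mem_ker_resMap.1 h3).symm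
  have htop : U ⊔ K₁ = ⊤ := by
    refine Submodule.eq_top_of_disjoint _ _ (le_of_eq (LinearMap.finrank_range_add_finrank_ker (resMap A)).symm) ?_
    rw [Submodule.disjoint_def]
    exact fun x hx hx' => fixed_resid_eq_zero hn hn0 hx (mem_ker_resMap.1 hx')
  intro x
  obtain ⟨u, hu, k, hk, rfl⟩ := Submodule.mem_sup.1 (htop ▸ Submodule.mem_top : x ∈ U ⊔ K₁)
  simp only [map_add, hU u hu, hK k hk]

end H44
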