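import Cfsg.Agent.H44.PrimeClassesSp
import Cfsg.Agent.H44.SemisimpleConj
import Cfsg.Agent.H44.BCModels

/-!
Classes of elements of odd prime order in `O_{2m+1}(q)`, `q` odd.
-/

set_option autoImplicit false
set_option linter.style.haveILetI false

namespace H44

open Matrix Polynomial H43

universe u

variable {F : Type u} [Field F]

/-- A congruence transports an isometry, keeping its characteristic polynomial. -/
theorem exists_isometry_of_congr {ι κ : Type} [Fintype ι] [DecidableEq ι] [Fintype κ] [DecidableEq κ]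
    {S : Matrix ι ι F} {G : Matrix κ κ F} (h : H55.Congr S G) {D : Matrix ι ι F} (hD : Dᵀ * S * D = S)
    {r : ℕ} (hr : D ^ r = 1) :
    ∃ T : Matrix κ κ F, Tᵀ * G * T = G ∧ T ^ r = 1 ∧ T.charpoly = D.charpoly := by
  classical
  obtain ⟨e, c, hc, he⟩ := exists_equiv_of_congr h
  set l : (ι → F) →ₗ[F] (ι → F) := Matrix.toLin' D with hl
  have hl' : ∀ x, l x = D *ᵥ x := fun x => Matrix.toLin'_apply D x
  have hT : ∀ x, LinearMap.toMatrix' (e.conj l) *ᵥ e x = e (D *ᵥ x) := fun x => by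
    rw [LinearMap.toMatrix'_mulVec, LinearEquiv.conj_apply_apply, LinearEquiv.symm_apply_apply, hl']
  refine ⟨LinearMap.toMatrix' (e.conj l), ?_, ?_, ?_⟩
  · refine Matrix.ext fun a b => ?_
    have key : ∀ u v : κ → F, u ⬝ᵥ (((LinearMap.toMatrix' (e.conj l))ᵀ * G * LinearMap.toMatrix' (e.conj l))) *ᵥ v
        = u ⬝ᵥ G *ᵥ v := by
      intro u v
      obtain ⟨x, rfl⟩ := e.surjective u
      obtain ⟨y, rfl⟩ := e.surjective v
      rw [← mulVec_mulVec, ← mulVec_mulVec, dotProduct_mulVec, vecMul_transpose, hT, hT, he, he]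
      conv_rhs => rw [← hD, ← mulVec_mulVec, ← mulVec_mulVec, dotProduct_mulVec, vecMul_transpose]
    simpa [mulVec_single_one, single_dotProduct] using key (Pi.single a 1) (Pi.single b 1)
  · have e1 : ∀ n : ℕ, LinearMap.toMatrix' (e.conj l) ^ n = LinearMap.toMatrix' (e.conj (Matrix.toLin' (D ^ n))) := by
      intro n
      induction n with
      | zero => simp
      | succ n ih =>
        rw [pow_succ, ih, ← LinearMap.toMatrix'_comp, ← LinearEquiv.conj_comp, hl, ← Matrix.toLin'_mul, ← pow_succ]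
    rw [e1, hr, Matrix.toLin'_one, LinearEquiv.conj_id, LinearMap.toMatrix'_id]
  · rw [← Matrix.charpoly_toLin', Matrix.toLin'_toMatrix', LinearEquiv.charpoly_conj, hl, Matrix.charpoly_toLin']

theorem det_ne_zero_of_sq_ne {ι : Type*} [Fintype ι] [DecidableEq ι] {A : Matrix ι ι F} {r : ℕ} (hr : Odd r)
    (hA : A ^ r = 1) (h1 : ¬ A.charpoly.IsRoot 1) : (A * A - 1).det ≠ 0 := by
  intro h
  obtain ⟨v, hv, hv0⟩ := Matrix.exists_mulVec_eq_zero_iff.2 h
  rw [sub_mulVec, one_mulVec, sub_eq_zero] at hv0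
  have hpow : ∀ j : ℕ, (A * A) ^ j *ᵥ v = v := by
    intro j
    induction j with
    | zero => rw [pow_zero, one_mulVec]
    | succ j ih => rw [pow_succ, ← mulVec_mulVec, hv0, ih]
  obtain ⟨j, rfl⟩ := hr
  have hAv : A *ᵥ v = v := by
    have e : (A * A) ^ (j + 1) = A := by
      rw [← pow_two, ← pow_mul, show 2 * (j + 1) = 2 * j + 1 + 1 by ring, pow_succ, hA, one_mul]
    conv_lhs => rw [← e]
    exact hpow _
  apply h1
  rw [IsRoot.def, Matrix.eval_charpoly, ← Matrix.exists_mulVec_eq_zero_iff]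
  exact ⟨v, hv, by rw [sub_mulVec, hAv]; simp⟩

/-- An isometry of `x₀² + Σ xⱼyⱼ` with prescribed spectrum. -/
theorem exists_orth_of_spectrum [Fintype F] (hodd : Odd (Fintype.card F)) {L : Type u} [Field L] [Algebra F L]
    {r : ℕ} (hr : Odd r) {m : ℕ} (M : Multiset L) (hcard : Multiset.card M = 2 * m + 1)
    (hM : ∀ x ∈ M, x ^ r = 1) (hq : M.map (fun x => x ^ Fintype.card F) = M)
    (hi : M.map (fun x => x⁻¹) = M) :
    ∃ T : Matrix (Unit ⊕ (Fin m ⊕ Fin m)) (Unit ⊕ (Fin m ⊕ Fin m)) F,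
      Tᵀ * H55.gOdd m F * T = H55.gOdd m F ∧ T ^ r = 1 ∧
      T.charpoly.map (algebraMap F L) = (M.map fun x => X - C x).prod := by
  classical
  have h2 := two_ne_zero_of_odd_card hodd
  have hne0 : ∀ x ∈ M, x ≠ 0 := fun x hx h0 => by
    have := hM x hx
    rw [h0, zero_pow (Nat.pos_iff_ne_zero.1 hr.pos)] at this
    exact zero_ne_one this
  set M' := M.filter (· ≠ 1) with hM'
  have hsplit : M' + Multiset.replicate (M.count 1) 1 = M := by
    rw [hM', ← Multiset.filter_eq', add_comm]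
    exact Multiset.filter_add_not (· = 1) M
  have hfix : ∀ f : L → L, (∀ x ∈ M, f x = 1 ↔ x = 1) → M.map f = M → M'.map f = M' := by
    intro f hf h
    rw [hM']
    conv_rhs => rw [← h, Multiset.filter_map]
    refine congrArg _ (Multiset.filter_congr fun x hx => ?_)
    rw [Function.comp_apply, Ne, Ne, hf x hx]
  have hi' : M'.map (fun x => x⁻¹) = M' := hfix _ (fun x _ => inv_eq_one) hi
  have hqr : ∀ x ∈ M, x ^ Fintype.card F = 1 ↔ x = 1 := fun x _ => by
    refine ⟨fun h => ?_, fun h => by rw [h, one_pow]⟩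
    obtain ⟨n, hp, hn⟩ := FiniteField.card F (ringChar F)
    haveI := Fact.mk hp
    haveI : CharP L (ringChar F) := charP_of_injective_algebraMap (algebraMap F L).injective _
    rw [hn] at h
    refine iterateFrobenius_inj L (ringChar F) n ?_
    rw [iterateFrobenius_def, map_one]
    exact h
  have hq' : M'.map (fun x => x ^ Fintype.card F) = M' := hfix _ hqr hq
  have hmem' : ∀ x ∈ M', x ∈ M ∧ x ≠ 1 := fun x hx => Multiset.mem_filter.1 hx
  obtain ⟨k, hk⟩ := even_card_of_inv (M := M') (fun x hx hx' => by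
    obtain ⟨hxM, hx1⟩ := hmem' x hx
    have h2' : x ^ 2 = 1 := by
      rw [pow_two]; nth_rewrite 1 [← hx']; exact inv_mul_cancel₀ (hne0 x hxM)
    obtain ⟨j, rfl⟩ := hr
    have := hM x hxM
    rw [pow_succ, pow_mul, h2', one_pow, one_mul] at this
    exact hx1 this) hi'
  rw [← two_mul] at hk
  obtain ⟨A, hA, hAr, hAc⟩ := exists_sp_of_spectrum hr M' hk (fun x hx => hM x (hmem' x hx).1) hq' hi'
  set b := M.count 1 with hb
  have hkb : 2 * k + b = 2 * m + 1 := by
    rw [← hcard, ← hsplit, Multiset.card_add, Multiset.card_replicate, hk]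
  have h1root : ¬ A.charpoly.IsRoot 1 := by
    intro h
    have h' := h.map (f := algebraMap F L)
    rw [map_one, hAc] at h'
    have h'' : (1 : L) ∈ M' := by
      rw [← Polynomial.roots_multiset_prod_X_sub_C M', mem_roots']
      exact ⟨(monic_multiset_prod_of_monic _ _ fun x _ => monic_X_sub_C x).ne_zero, h'⟩
    exact (hmem' _ h'').2 rfl
  -- the symmetric form
  have hAu : IsUnit A := IsUnit.of_pow_eq_one hAr (Nat.pos_iff_ne_zero.1 hr.pos)
  have hAdet : IsUnit A.det := (isUnit_iff_isUnit_det A).1 hAu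
  have hJ := SymplecticGroup.mem_iff'.1 hA
  set J := Matrix.J (Fin k) F with hJdef
  have e1 : Aᵀ * J = J * A⁻¹ := by
    conv_rhs => rw [← hJ]
    rw [mul_assoc (Aᵀ * J), Matrix.mul_nonsing_inv _ hAdet, mul_one]
  have e2 : (A⁻¹)ᵀ * J = J * A := by
    conv_lhs => arg 2; rw [← hJ]
    rw [← mul_assoc, ← mul_assoc, ← transpose_mul, Matrix.mul_nonsing_inv _ hAdet, transpose_one, one_mul]
  have e3 : A⁻¹ * A = 1 := Matrix.nonsing_inv_mul _ hAdet
  set B := J * (A - A⁻¹) with hBdef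
  have hBs : Bᵀ = B := by
    rw [hBdef, transpose_mul, transpose_sub, hJdef, Matrix.J_transpose, ← hJdef, mul_neg, sub_mul, e1, e2, mul_sub]
    abel
  have hBi : Aᵀ * B * A = B := by
    have hcomm : (A - A⁻¹) * A = A * (A - A⁻¹) := by
      rw [sub_mul, mul_sub, e3, Matrix.mul_nonsing_inv _ hAdet]
    rw [hBdef, ← mul_assoc, mul_assoc _ (A - A⁻¹), hcomm, ← mul_assoc, hJ]
  have hB0 : B.det ≠ 0 := by
    have e4 : A - A⁻¹ = A⁻¹ * (A * A - 1) := by rw [mul_sub, ← mul_assoc, e3, one_mul, mul_one]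
    rw [hBdef, det_mul, e4, det_mul]
    exact mul_ne_zero (Matrix.isUnit_det_J (Fin k) F).ne_zero
      (mul_ne_zero (((isUnit_iff_isUnit_det _).1 (isUnit_nonsing_inv_iff.2 hAu)).ne_zero)
        (det_ne_zero_of_sq_ne hr hAr h1root))
  let S : Matrix ((Fin k ⊕ Fin k) ⊕ Fin b) ((Fin k ⊕ Fin k) ⊕ Fin b) F := fromBlocks B 0 0 1
  let D : Matrix ((Fin k ⊕ Fin k) ⊕ Fin b) ((Fin k ⊕ Fin k) ⊕ Fin b) F := fromBlocks A 0 0 1
  have hG0 : (H55.gOdd m F).det ≠ 0 := by
    rw [H55.det_gOdd]; exact mul_ne_zero h2 (pow_ne_zero _ (by norm_num))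
  have hcongr : H55.Congr S (H55.gOdd m F) := by
    refine H55.congr_of_odd hodd ?_ (H55.gOdd_symm m) ?_ hG0 ?_ ?_
    · simp [S, fromBlocks_transpose, hBs]
    · simp only [S, det_fromBlocks_zero₁₂, det_one, mul_one]; exact hB0
    · simp only [Fintype.card_sum, Fintype.card_fin, Fintype.card_unit]; omega
    · simp only [Fintype.card_sum, Fintype.card_fin]; exact ⟨m, by omega⟩
  have hDr : D ^ r = 1 := by
    have e5 : ∀ n : ℕ, D ^ n = fromBlocks (A ^ n) 0 0 1 := by
      intro n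
      induction n with
      | zero => simp
      | succ n ih => rw [pow_succ, ih, pow_succ]; simp [D, fromBlocks_multiply]
    rw [e5, hAr, fromBlocks_one]
  obtain ⟨T, hT, hTr, hTc⟩ := exists_isometry_of_congr hcongr (D := D)
    (by simp [S, D, fromBlocks_transpose, fromBlocks_multiply, hBi]) hDr
  refine ⟨T, hT, hTr, ?_⟩
  rw [hTc, charpoly_fromBlocks_zero₂₁, Polynomial.map_mul, hAc, charpoly_one, Fintype.card_fin]
  conv_rhs => rw [← hsplit, Multiset.map_add, Multiset.prod_add, Multiset.map_replicate, Multiset.prod_replicate]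
  simp

/-- The count of classes of elements of order `r` in `O_{2m+1}(q)`, `q` odd. -/
theorem card_classes_orth_odd_prime [Fintype F] {p q : ℕ} [Fact p.Prime] [CharP F p] (hF : Fintype.card F = q)
    (hqodd : Odd q) (m r i t : ℕ) (hr : r.Prime) (hr2 : r ≠ 2) (hrp : r ≠ p) (hi : i = orderOf (q : ZMod r))
    (ht : t * i = r - 1) :
    Nat.card {C : ConjClasses ↥(Cfsg.isometryGroup F (Cfsg.quadFormOdd m F)) //
        ∃ g : ↥(Cfsg.isometryGroup F (Cfsg.quadFormOdd m F)), ConjClasses.mk g = C ∧ orderOf g = r} =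
      if Odd i then Nat.choose (m / i + t / 2) (t / 2) - 1 else Nat.choose ((2 * m + 1) / i + t) t - 1 := by
  classical
  rw [← coe_qOdd]
  haveI : Fact r.Prime := ⟨hr⟩
  have hodd : Odd (Fintype.card F) := by rw [hF]; exact hqodd
  have h2 := two_ne_zero_of_odd_card hodd
  have hp : p.Prime := Fact.out
  have hrF : (r : F) ≠ 0 := by
    rw [Ne, CharP.cast_eq_zero_iff F p]
    exact fun h => hrp ((Nat.prime_dvd_prime_iff_eq hp hr).1 h).symm
  have hq0 : (q : ZMod r) ≠ 0 := by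
    rw [Ne, ZMod.natCast_eq_zero_iff]
    obtain ⟨n, -, hn⟩ := FiniteField.card F p
    rw [← hF, hn]
    exact fun h => hrp ((Nat.prime_dvd_prime_iff_eq hr hp).1 (hr.dvd_of_dvd_pow h))
  obtain ⟨e, h1, h2', h3, h4, h5⟩ := exists_class_exponent hr2 hq0 hi ht
  rw [← hF] at h1 h3
  set G := H55.gOdd m F with hG
  have hG0 : G.det ≠ 0 := by
    rw [hG, H55.det_gOdd]; exact mul_ne_zero h2 (pow_ne_zero _ (by norm_num))
  have hGu : IsUnit G := (isUnit_iff_isUnit_det G).2 (isUnit_iff_ne_zero.2 hG0)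
  have hpol : ∀ u v, polB (qOdd m F) u v = u ⬝ᵥ G *ᵥ v := fun u v => by
    rw [polB_qOdd]
    simp only [hG, H55.gOdd, H55.gPlus, fromBlocks_mulVec, dotProduct, Fintype.sum_sum_type, Sum.elim_inl,
      Sum.elim_inr, zero_mulVec, one_mulVec, zero_add, add_zero, Function.comp_apply, smul_mulVec, Pi.smul_apply,
      smul_eq_mul, Fintype.sum_unique]
    rw [PUnit.default_eq_unit, Finset.sum_add_distrib]
    ring
  let ρ : ↥(Cfsg.isometryGroup F ⇑(qOdd m F)) →* Matrix (Unit ⊕ (Fin m ⊕ Fin m)) (Unit ⊕ (Fin m ⊕ Fin m)) F :=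
    (Units.coeHom _).comp (Cfsg.isometryGroup F ⇑(qOdd m F)).subtype
  have hρ : ∀ g, (ρ g)ᵀ * G * ρ g = G := fun g => by
    refine Matrix.ext fun a b => ?_
    have key : ∀ u v, u ⬝ᵥ ((ρ g)ᵀ * G * ρ g) *ᵥ v = u ⬝ᵥ G *ᵥ v := fun u v => by
      rw [← mulVec_mulVec, ← mulVec_mulVec, dotProduct_mulVec, vecMul_transpose, ← hpol, ← hpol]
      exact orth_polB_map (toOrth (qOdd m F) g) u v
    simpa [mulVec_single_one, single_dotProduct] using key (Pi.single a 1) (Pi.single b 1)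
  have h := card_classes_form (F := F) ρ G hGu hρ hrF e h1 h2' h3
    (fun g h hg hh hc => by
      obtain ⟨c, hc'⟩ := H40.exists_conj_of_charpoly _ (Unit ⊕ (Fin m ⊕ Fin m) → F) (Unit ⊕ (Fin m ⊕ Fin m) → F)
        (Matrix.toLinAlgEquiv' (ρ g)) (Matrix.toLinAlgEquiv' (ρ h)) rfl
        ⟨r, hrF, by rw [← map_pow, ← map_pow, hg, map_one, map_one]⟩
        ⟨r, hrF, by rw [← map_pow, ← map_pow, hh, map_one, map_one]⟩
        ((Matrix.charpoly_toLin' _).trans (hc.trans (Matrix.charpoly_toLin' _).symm))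
      obtain ⟨w, hw⟩ := isConj_of_linear_conj (qOdd_nondeg h2 m) (toOrth _ g) (toOrth _ h) r (hr.odd_of_ne_two hr2)
        (by rw [← map_pow, hg, map_one]) hrF c fun x => (LinearMap.congr_fun hc' x).symm
      refine isConj_iff.2 ⟨(toOrth (qOdd m F)).symm w, (toOrth (qOdd m F)).injective (orth_ext fun x => ?_)⟩
      rw [map_mul, map_mul, map_inv, MulEquiv.apply_symm_apply, orth_mul_apply, orth_mul_apply, hw]
      exact congrArg _ (w.1.apply_symm_apply x))
    (fun L _ _ M hM1 hM2 hM3 hM4 => by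
      obtain ⟨T, hT, hTr, hTc⟩ := exists_orth_of_spectrum hodd (hr.odd_of_ne_two hr2) (m := m) M
        (by rw [hM1]; simp; ring) hM2 hM3 hM4
      have hTu : IsUnit T := IsUnit.of_pow_eq_one hTr hr.ne_zero
      refine ⟨⟨hTu.unit, fun u _ => ?_⟩, Subtype.ext (Units.ext ?_), hTc⟩
      · show qOdd m F (T *ᵥ u) = qOdd m F u
        refine mul_left_cancel₀ h2 ?_
        rw [← polB_self, ← polB_self, hpol, hpol, hG]
        conv_rhs => rw [← hT, ← mulVec_mulVec, ← mulVec_mulVec, dotProduct_mulVec, vecMul_transpose]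
      · rw [SubmonoidClass.coe_pow, Units.val_pow_eq_pow_val]
        exact hTr)
  rw [h, h4, h5, Fintype.card_sum, Fintype.card_unit, Fintype.card_sum, Fintype.card_fin]
  split_ifs with ho
  · have : (1 + (m + m)) / (2 * i) = m / i := by
      rw [← Nat.div_div_eq_div_mul, show (1 + (m + m)) / 2 = m by omega]
    rw [this]
  · rw [show 1 + (m + m) = 2 * m + 1 by ring]

end H44
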