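import Cfsg.Agent.H44.PrimeClassesEven

/-!
The class-count formulas for `O^±_2m(q)`.
-/

set_option autoImplicit false
set_option linter.style.haveILetI false

namespace H44

open H43

universe u

theorem choose_sub_pascal (n t : ℕ) (hn : 1 ≤ n) (ht : 1 ≤ t) :
    Nat.choose (n + t) t - 1 - Nat.choose (n + t - 1) (t - 1) = Nat.choose (n - 1 + t) t - 1 := by
  obtain ⟨n, rfl⟩ := Nat.exists_eq_add_of_le hn
  obtain ⟨t, rfl⟩ := Nat.exists_eq_add_of_le ht
  rw [show 1 + n + (1 + t) = (n + t + 1) + 1 by omega, show 1 + t = t + 1 by omega, Nat.choose_succ_succ',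
    Nat.add_sub_cancel, Nat.add_sub_cancel, show 1 + n - 1 + (t + 1) = n + t + 1 by omega]
  have := Nat.choose_pos (show t + 1 ≤ n + t + 1 by omega)
  omega

theorem div_pred {n d : ℕ} (hn : 1 ≤ n) : (n - 1) / d = if d ∣ n then n / d - 1 else n / d := by
  obtain ⟨n, rfl⟩ := Nat.exists_eq_add_of_le' hn
  rw [Nat.add_sub_cancel, Nat.succ_div]
  split_ifs <;> simp

/-- The classes in `O⁺` or `O⁻` as a function of whether the whole space can be moved. -/
theorem card_classes_orth_sign {F : Type u} [Field F] [Fintype F] {p q : ℕ} [Fact p.Prime] [CharP F p]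
    (hF : Fintype.card F = q) {ι : Type} [Fintype ι] [DecidableEq ι] {Q : QuadraticForm F (ι → F)} (hQ : PolarSep Q)
    {m r i t : ℕ} (hι : Fintype.card ι = 2 * m) (hm : 1 ≤ m) (hr : r.Prime) (hr2 : r ≠ 2) (hrp : r ≠ p)
    (hi : i = orderOf (q : ZMod r)) (ht : t * i = r - 1) {ε : ZMod r} (hε : ε = 1 ∨ ε = -1)
    (hlev : levelMod r Q = (q : ZMod r) ^ m * ((q : ZMod r) ^ m - ε)) :
    Nat.card {C : ConjClasses ↥(Cfsg.isometryGroup F ⇑Q) //
        ∃ g : ↥(Cfsg.isometryGroup F ⇑Q), ConjClasses.mk g = C ∧ orderOf g = r} =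
      if Odd i then Nat.choose ((if (q : ZMod r) ^ m = ε then m else m - 1) / i + t / 2) (t / 2) - 1
      else Nat.choose ((2 * m - if (q : ZMod r) ^ m = ε then 0 else 1) / i + t) t - 1 := by
  classical
  haveI : Fact r.Prime := ⟨hr⟩
  have hp : p.Prime := Fact.out
  have hrF : (r : F) ≠ 0 := by
    rw [Ne, CharP.cast_eq_zero_iff F p]
    exact fun h => hrp ((Nat.prime_dvd_prime_iff_eq hp hr).1 h).symm
  have hq0 : (q : ZMod r) ≠ 0 := by
    rw [Ne, ZMod.natCast_eq_zero_iff]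
    obtain ⟨n, -, hn⟩ := FiniteField.card F p
    rw [← hF, hn]
    exact fun h => hrp ((Nat.prime_dvd_prime_iff_eq hr hp).1 (hr.dvd_of_dvd_pow h))
  obtain ⟨e, h1, h2, h3, h4, h5⟩ := exists_class_exponent hr2 hq0 hi ht
  subst hF
  rw [card_classes_orth_even hQ hι hm hr2 hrF hq0 e h1 h2 h3 hε hlev, h4, h5]
  split_ifs with hc ho ho
  · rw [Nat.sub_zero, Nat.mul_div_mul_left _ _ two_pos]
  · rfl
  · rw [← Nat.div_div_eq_div_mul, show (2 * m - 1) / 2 = m - 1 by omega]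
  · rfl

theorem pow_sign {r i m q : ℕ} [Fact r.Prime] (hr2 : r ≠ 2) (hi : i = orderOf (q : ZMod r)) :
    ((q : ZMod r) ^ m = 1 ↔ i ∣ m) ∧ ((q : ZMod r) ^ m = -1 ↔ i ∣ 2 * m ∧ ¬ i ∣ m) := by
  have h : ∀ n : ℕ, i ∣ n ↔ (q : ZMod r) ^ n = 1 := fun n => by rw [hi]; exact orderOf_dvd_iff_pow_eq_one
  have h2 : (-1 : ZMod r) ≠ 1 := Ring.neg_one_ne_one_of_char_ne_two (by rw [ZMod.ringChar_zmod_n]; exact hr2)
  refine ⟨(h m).symm, ?_⟩
  rw [h, h, mul_comm, pow_mul]
  constructor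
  · intro e
    rw [e]
    exact ⟨neg_one_sq, h2⟩
  · rintro ⟨e1, e2⟩
    exact (sq_eq_one_iff.1 e1).resolve_left e2

theorem two_mul_quot {i m : ℕ} (hi0 : 0 < i) (h : i ∣ 2 * m) : i ∣ m ↔ Even (2 * m / i) := by
  obtain ⟨c, hc⟩ := h
  rw [hc, Nat.mul_div_cancel_left _ hi0]
  constructor
  · rintro ⟨d, rfl⟩
    refine ⟨d, ?_⟩
    exact Nat.eq_of_mul_eq_mul_left hi0 (by rw [← hc]; ring)
  · rintro ⟨d, rfl⟩
    refine ⟨d, ?_⟩
    have : 2 * m = 2 * (i * d) := by rw [hc]; ring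
    omega

theorem pos_order {F : Type u} [Field F] [Fintype F] {p q r i t : ℕ} [Fact p.Prime] [CharP F p]
    (hF : Fintype.card F = q) (hr : r.Prime) (hrp : r ≠ p) (hi : i = orderOf (q : ZMod r))
    (ht : t * i = r - 1) : 0 < i ∧ 0 < t := by
  haveI : Fact r.Prime := ⟨hr⟩
  have hi0 : 0 < i := by
    by_contra h
    have h0 : i = 0 := by omega
    rw [h0, mul_zero] at ht
    have := hr.two_le
    omega
  refine ⟨hi0, ?_⟩
  by_contra h
  have h0 : t = 0 := by omega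
  rw [h0, zero_mul] at ht
  have := hr.two_le
  omega

theorem two_le_of_odd {r i t : ℕ} (hr : r.Prime) (hr2 : r ≠ 2) (ho : Odd i) (ht : t * i = r - 1) : 1 ≤ t / 2 := by
  have he : Even (t * i) := by
    rw [ht]; exact Nat.Odd.sub_odd (hr.odd_of_ne_two hr2) odd_one
  have h2 : Even t := (Nat.even_mul.1 he).resolve_right (Nat.not_even_iff_odd.2 ho)
  obtain ⟨c, rfl⟩ := h2
  rcases Nat.eq_zero_or_pos c with rfl | hc
  · simp at ht; have := hr.two_le; omega
  · omega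

/-- Classes of elements of order `r` in `O⁺_2m(q)`. -/
theorem card_classes_orth_plus_prime {F : Type u} [Field F] [Fintype F] {p q : ℕ} [Fact p.Prime] [CharP F p]
    (hF : Fintype.card F = q) (m r i t : ℕ) (hm : 1 ≤ m) (hr : r.Prime) (hr2 : r ≠ 2) (hrp : r ≠ p)
    (hi : i = orderOf (q : ZMod r)) (ht : t * i = r - 1) :
    Nat.card {C : ConjClasses ↥(Cfsg.isometryGroup F (Cfsg.quadFormPlus m F)) //
        ∃ g : ↥(Cfsg.isometryGroup F (Cfsg.quadFormPlus m F)), ConjClasses.mk g = C ∧ orderOf g = r} =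
      if Odd i then Nat.choose (m / i + t / 2) (t / 2) - 1 else Nat.choose (2 * m / i + t) t - 1 -
        (if i ∣ 2 * m ∧ Odd (2 * m / i) then Nat.choose (2 * m / i + t - 1) (t - 1) else 0) := by
  classical
  haveI : Fact r.Prime := ⟨hr⟩
  rw [← coe_qPlus, card_classes_orth_sign hF (polarSep_of_nondegenerate (qPlus_nondeg m)) (by simp; ring) hm hr hr2
    hrp hi ht (ε := 1) (Or.inl rfl) (by rw [coe_qPlus, levelMod_plus, hF])]
  obtain ⟨hi0, ht0⟩ := pos_order hF hr hrp hi ht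
  simp only [(pow_sign hr2 hi).1]
  split_ifs with ho hf hf hd hd
  · rfl
  · rw [div_pred hm, if_neg hf]
  · exact absurd ((two_mul_quot hi0 hd.1).1 hf) (Nat.not_even_iff_odd.2 hd.2)
  · rw [Nat.sub_zero, Nat.sub_zero]
  · rw [div_pred (by omega), if_pos hd.1,
      choose_sub_pascal _ t (Nat.div_pos (Nat.le_of_dvd (by omega) hd.1) hi0) ht0]
  · rw [Nat.sub_zero, div_pred (by omega), if_neg fun h => hd ⟨h, Nat.not_even_iff_odd.1
      fun he => hf ((two_mul_quot hi0 h).2 he)⟩]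

/-- Classes of elements of order `r` in `O⁻_2m(q)`. -/
theorem card_classes_orth_minus_prime {F : Type u} [Field F] [Fintype F] {p q : ℕ} [Fact p.Prime] [CharP F p]
    (hF : Fintype.card F = q) (m r i t : ℕ) (hm : 1 ≤ m) (a c : F)
    (hac : ∀ z₁ z₂ : F, z₁ ^ 2 + a * z₁ * z₂ + c * z₂ ^ 2 = 0 → z₁ = 0 ∧ z₂ = 0)
    (hr : r.Prime) (hr2 : r ≠ 2) (hrp : r ≠ p) (hi : i = orderOf (q : ZMod r)) (ht : t * i = r - 1) :
    Nat.card {C : ConjClasses ↥(Cfsg.isometryGroup F (Cfsg.quadFormMinus (m - 1) F a c)) //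
        ∃ g : ↥(Cfsg.isometryGroup F (Cfsg.quadFormMinus (m - 1) F a c)), ConjClasses.mk g = C ∧ orderOf g = r} =
      if Odd i then Nat.choose (m / i + t / 2) (t / 2) - 1 -
        (if i ∣ m then Nat.choose (m / i + t / 2 - 1) (t / 2 - 1) else 0)
      else Nat.choose (2 * m / i + t) t - 1 -
        (if i ∣ 2 * m ∧ Even (2 * m / i) then Nat.choose (2 * m / i + t - 1) (t - 1) else 0) := by
  classical
  haveI : Fact r.Prime := ⟨hr⟩
  rw [← coe_qMinus, card_classes_orth_sign hF (polarSep_of_nondegenerate (qMinus_nondeg (m - 1) hac))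
    (m := m) (by simp; omega) hm hr hr2 hrp hi ht (ε := -1) (Or.inr rfl)
    (by rw [coe_qMinus, levelMod_minus r _ hac, hF, Nat.sub_add_cancel hm])]
  obtain ⟨hi0, ht0⟩ := pos_order hF hr hrp hi ht
  simp only [(pow_sign hr2 hi).2]
  split_ifs with ho hf hd hd hf hd hd
  all_goals first
    | (exfalso
       exact hf.2 ((Nat.Coprime.dvd_mul_left ((Nat.coprime_two_right).2 ho)).1 hf.1))
    | skip
  · rw [div_pred hm, if_pos hd,
      choose_sub_pascal _ (t / 2) (Nat.div_pos (Nat.le_of_dvd (by omega) hd) hi0) (two_le_of_odd hr hr2 ho ht)]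
  · rw [Nat.sub_zero, div_pred hm, if_neg hd]
  · exact absurd ((two_mul_quot hi0 hd.1).2 hd.2) hf.2
  · rw [Nat.sub_zero, Nat.sub_zero]
  · rw [div_pred (by omega), if_pos hd.1,
      choose_sub_pascal _ t (Nat.div_pos (Nat.le_of_dvd (by omega) hd.1) hi0) ht0]
  · rw [Nat.sub_zero, div_pred (by omega), if_neg fun h => hd ⟨h, (two_mul_quot hi0 h).1 (by
      by_contra h'
      exact hf ⟨h, h'⟩)⟩]

end H44
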