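import Cfsg.Agent.H44.PrimeClassesCore
import Cfsg.Agent.H48.SemisimpleClasses

/-!
Classes of elements of odd prime order in `Sp_2m(q)`.
-/

set_option autoImplicit false
set_option linter.style.haveILetI false

namespace H44

open Matrix Polynomial

universe u

variable {F : Type u} [Field F] [Fintype F]

/-- A symplectic element with prescribed spectrum. -/
theorem exists_sp_of_spectrum {L : Type u} [Field L] [Algebra F L] {r : ℕ} (hr : Odd r) {k : ℕ}
    (M : Multiset L) (hcard : Multiset.card M = 2 * k) (hM : ∀ x ∈ M, x ^ r = 1)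
    (hq : M.map (fun x => x ^ Fintype.card F) = M) (hi : M.map (fun x => x⁻¹) = M) :
    ∃ A ∈ Matrix.symplecticGroup (Fin k) F, A ^ r = 1 ∧
      A.charpoly.map (algebraMap F L) = (M.map fun x => X - C x).prod := by
  obtain ⟨P, hPm, hPd, hP⟩ := exists_lift_of_stable (F := F) M hq
  have hpal : H48.SS.Pal P := ⟨hPm, by rw [hPd, hcard]; exact ⟨k, two_mul k⟩,
    reverse_eq_of_stable hr (by rw [hcard]; exact ⟨k, two_mul k⟩) hM hi hP⟩
  obtain ⟨n, A, hA, ⟨j, hj, hAj⟩, hAc⟩ := hpal.real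
  obtain rfl : n = k := by
    have := congrArg natDegree hAc
    rw [Matrix.charpoly_natDegree_eq_dim, hPd, hcard, Fintype.card_sum, Fintype.card_fin] at this
    omega
  exact ⟨A, hA, pow_eq_one_of_roots' hj hAj M hM hr.pos (by rw [hAc, hP]), by rw [hAc, hP]⟩

/-- The count of classes of elements of order `r` in `Sp_2m(q)`. -/
theorem card_classes_sp_prime {p q : ℕ} [Fact p.Prime] [CharP F p] (hF : Fintype.card F = q) (m r i t : ℕ)
    (hr : r.Prime) (hr2 : r ≠ 2) (hrp : r ≠ p) (hi : i = orderOf (q : ZMod r)) (ht : t * i = r - 1) :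
    Nat.card {C : ConjClasses ↥(Matrix.symplecticGroup (Fin m) F) //
        ∃ g : Matrix.symplecticGroup (Fin m) F, ConjClasses.mk g = C ∧ orderOf g = r} =
      if Odd i then Nat.choose (m / i + t / 2) (t / 2) - 1 else Nat.choose (2 * m / i + t) t - 1 := by
  classical
  haveI : Fact r.Prime := ⟨hr⟩
  have hp : p.Prime := Fact.out
  have hrF : (r : F) ≠ 0 := by
    rw [Ne, CharP.cast_eq_zero_iff F p]
    exact fun h => hrp ((Nat.prime_dvd_prime_iff_eq hp hr).1 h).symm
  have hq0 : (q : ZMod r) ≠ 0 := by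
    rw [Ne, ZMod.natCast_eq_zero_iff]
    obtain ⟨n, -, hn⟩ := FiniteField.card F p
    rw [← hF, hn]
    exact fun h => hrp ((Nat.prime_dvd_prime_iff_eq hr hp).1 (hr.dvd_of_dvd_pow h))
  obtain ⟨e, h1, h2, h3, h4, h5⟩ := exists_class_exponent hr2 hq0 hi ht
  rw [← hF] at h1 h3
  have hJ : IsUnit (Matrix.J (Fin m) F) :=
    (isUnit_iff_isUnit_det _).2 (Matrix.isUnit_det_J (Fin m) F)
  have h := card_classes_form (F := F) (ι := Fin m ⊕ Fin m) (Matrix.symplecticGroup (Fin m) F).subtype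
    (Matrix.J (Fin m) F) hJ (fun g => SymplecticGroup.mem_iff'.1 g.2) hrF e h1 h2 h3
    (fun g h hg hh hc => H48.SS.isConj_of_charpoly (p := p) g h
      ((H40.primeToChar_iff (F := F) p).2 ⟨r, hrF, hg⟩) ((H40.primeToChar_iff (F := F) p).2 ⟨r, hrF, hh⟩) hc)
    (fun L _ _ M hM1 hM2 hM3 hM4 => by
      obtain ⟨A, hA, hAr, hAc⟩ := exists_sp_of_spectrum (hr.odd_of_ne_two hr2) (k := m) M
        (by rw [hM1, Fintype.card_sum, Fintype.card_fin, two_mul]) hM2 hM3 hM4
      exact ⟨⟨A, hA⟩, Subtype.ext (by rw [SubmonoidClass.coe_pow]; exact hAr), hAc⟩)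
  rw [h, h4, h5, Fintype.card_sum, Fintype.card_fin, ← two_mul]
  split_ifs with ho
  · rw [Nat.mul_div_mul_left _ _ two_pos]
  · rfl

end H44
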