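import Cfsg.Agent.H44.SemiRotation
import Cfsg.Agent.H44.SemisimpleConj
import Cfsg.Agent.H44.SimInvolStatements

/-!
Fusion of the classes of semisimple automorphisms of odd prime order induced by similarities.
-/

set_option autoImplicit false

namespace H44

open H43 Matrix

universe u

variable {F : Type u} [Field F] [Fintype F] {ι : Type} [Fintype ι] [DecidableEq ι] {Q : QuadraticForm F (ι → F)} {n : ℕ}

/-- An automorphism of odd order induced by a similarity lifts to an isometry of the same order. -/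
theorem exists_isometry_lift (h : EvenQ Q n) {x : MulAut (Cfsg.POmega F ⇑Q)} (hx : x ∈ Cfsg.pgoAut F ⇑Q)
    {r : ℕ} (hr : Odd r) (hxr : x ^ r = 1) : ∃ A : orthGroup Q, A ^ r = 1 ∧ simAut Q (orthSim Q A) = x := by
  rw [pgoAut_eq] at hx
  obtain ⟨g, rfl⟩ := hx
  rw [← map_pow] at hxr
  obtain ⟨c, hc⟩ := exists_scalar_of_ker h.nondeg h.five _ hxr
  have hgr : g ^ r = scalarHom Q c := hc
  obtain ⟨j, rfl⟩ := hr
  have hμ : muHom h g ^ (2 * j + 1) = c * c := by rw [← map_pow, hgr, muHom_scalar]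
  obtain ⟨e, he⟩ : ∃ e, e = muHom h g ^ j * c⁻¹ := ⟨_, rfl⟩
  obtain ⟨A, hA⟩ := exists_orthSim h (g := scalarHom Q e * g) (by
    rw [map_mul, muHom_scalar, show e * e = muHom h g ^ (2 * j) * (c * c)⁻¹ by
      rw [he, mul_mul_mul_comm, ← pow_add, ← two_mul, ← mul_inv], mul_right_comm, ← pow_succ, hμ, mul_inv_cancel])
  have hAr : orthSim Q (A ^ (2 * j + 1)) = scalarHom Q (e ^ (2 * j + 1) * c) := by
    rw [map_pow, hA, (show Commute (scalarHom Q e) g from scalarHom_central e g).mul_pow, hgr, map_mul, map_pow]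
  set d := e ^ (2 * j + 1) * c
  have hdd : d * d = 1 := by
    rw [← muHom_scalar h, ← hAr, muHom_orthSim]
  have hd : d = 1 ∨ d = -1 := by
    have : (d : F) * d = 1 := by rw [← Units.val_mul, hdd, Units.val_one]
    rcases mul_self_eq_one_iff.1 this with e' | e'
    · exact Or.inl (Units.ext e')
    · exact Or.inr (Units.ext (by rw [e', Units.val_neg, Units.val_one]))
  rcases hd with e' | e'
  · refine ⟨A, orthSim_injective (by rw [hAr, e', map_one, map_one]), ?_⟩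
    rw [hA, simAut_scalar_mul]
  · refine ⟨negOrth Q * A, orthSim_injective ?_, ?_⟩
    · rw [map_pow, map_mul, ← scalarHom_neg_one, (show Commute (scalarHom Q (-1 : Fˣ)) (orthSim Q A) from
        scalarHom_central _ _).mul_pow, ← map_pow, ← map_pow, hAr, e', ← map_mul, Odd.neg_one_pow (odd_two_mul_add_one j),
        neg_one_mul, neg_neg, map_one, map_one]
    · rw [map_mul, ← scalarHom_neg_one, simAut_scalar_mul, hA, simAut_scalar_mul]

/-- The centralizer of a semisimple element covers the multiplier class. -/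
theorem exists_commuting_similarity (h : EvenQ Q n) (hodd : Odd (Fintype.card F)) {p : ℕ} [Fact p.Prime] [CharP F p]
    {d : simG Q} (hd : sqMk (muHom h d) ≠ 1) {A : orthGroup Q} {r : ℕ} (hr : r.Prime) (hr2 : r ≠ 2) (hrp : r ≠ p)
    (hAr : A ^ r = 1) :
    ∃ z, Commute z (orthSim Q A) ∧ etaHom h z = 1 ∧ sqMk (muHom h z) ≠ 1 := by
  classical
  have hr0 : (r : F) ≠ 0 := natCast_ne_zero_of_prime hr hrp
  have hrodd := hr.odd_of_ne_two hr2
  obtain ⟨A', hA'⟩ := exists_orthSim h (g := d * orthSim Q A * d⁻¹) (by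
    rw [map_mul, map_mul, map_inv, muHom_orthSim, mul_one, mul_inv_cancel])
  have hd1 : ∀ v, ((d⁻¹).1 : Matrix ι ι F) *ᵥ ((d.1 : Matrix ι ι F) *ᵥ v) = v := fun v => by
    rw [mulVec_mulVec, ← Units.val_mul, ← Subgroup.coe_mul, inv_mul_cancel, Subgroup.coe_one, Units.val_one, one_mulVec]
  have hd2 : ∀ v, (d.1 : Matrix ι ι F) *ᵥ (((d⁻¹).1 : Matrix ι ι F) *ᵥ v) = v := fun v => by
    rw [mulVec_mulVec, ← Units.val_mul, ← Subgroup.coe_mul, mul_inv_cancel, Subgroup.coe_one, Units.val_one, one_mulVec]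
  let ge : (ι → F) ≃ₗ[F] (ι → F) :=
    { Matrix.toLin' (d.1 : Matrix ι ι F) with
      invFun := fun v => ((d⁻¹).1 : Matrix ι ι F) *ᵥ v
      left_inv := fun v => hd1 v
      right_inv := fun v => hd2 v }
  obtain ⟨k, hk⟩ := isConj_of_linear_conj h.nondeg A A' r hrodd hAr hr0 ge fun v => by
    show (d.1 : Matrix ι ι F) *ᵥ (A.1 v) = A'.1 ((d.1 : Matrix ι ι F) *ᵥ v)
    rw [← orthSim_mulVec A', hA', Subgroup.coe_mul, Subgroup.coe_mul, Units.val_mul, Units.val_mul,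
      ← mulVec_mulVec, ← mulVec_mulVec, hd1, orthSim_mulVec]
  have hk' : orthSim Q k * orthSim Q A = orthSim Q A' * orthSim Q k := by
    rw [← map_mul, ← map_mul]; exact congrArg _ (orth_ext hk)
  set z := (orthSim Q k)⁻¹ * d with hz
  have hzc : Commute z (orthSim Q A) := by
    show z * orthSim Q A = orthSim Q A * z
    calc z * orthSim Q A = (orthSim Q k)⁻¹ * (d * orthSim Q A * d⁻¹) * d := by rw [hz]; group
      _ = (orthSim Q k)⁻¹ * (orthSim Q A' * orthSim Q k) * (orthSim Q k)⁻¹ * d := by rw [← hA']; group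
      _ = orthSim Q A * z := by rw [← hk', hz]; group
  have hzμ : sqMk (muHom h z) ≠ 1 := by
    rwa [hz, map_mul, map_inv, muHom_orthSim, inv_one, one_mul]
  rcases etaHom_cases h z with e | e
  · exact ⟨z, hzc, e, hzμ⟩
  have hA1 : A.1 ^ r = 1 := congrArg Subtype.val hAr
  have hc := isCompl_fixed_moved hA1 hr0
  by_cases hf : ∃ v ∈ fixedSp A.1, Q v ≠ 0
  · obtain ⟨v, hv, hv0⟩ := hf
    have hr' : Commute (orthSim Q (refl Q v)) (orthSim Q A) := by
      have h' := refl_conj A v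
      rw [mem_fixedSp.1 hv] at h'
      exact (Commute.map (mul_inv_eq_iff_eq_mul.1 h' : Commute A (refl Q v)) (orthSim Q)).symm
    refine ⟨z * orthSim Q (refl Q v), hzc.mul_left hr', ?_, ?_⟩
    · rw [map_mul, e, etaHom_orthSim, detHom_refl hv0, neg_one_mul, neg_neg]
    · rwa [map_mul, muHom_orthSim, mul_one]
  exfalso
  push_neg at hf
  have hbot : fixedSp A.1 = ⊥ := (Submodule.eq_bot_iff _).2 fun a ha => by
    refine h.nondeg.1 a fun y => ?_
    obtain ⟨b, hb, c, hc', rfl⟩ := Submodule.mem_sup.1 (hc.sup_eq_top ▸ Submodule.mem_top : y ∈ fixedSp A.1 ⊔ movedSp A.1)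
    rw [map_add, (fixed_orth_moved (orth_mem_bIso A) ha hc').1, add_zero]
    have e1 := qmap_add (Q := Q) a b
    rw [hf _ (add_mem ha hb), hf a ha, hf b hb, zero_add, zero_add] at e1
    exact e1.symm
  have hmoved : ∀ v, v ∈ movedSp A.1 := fun v => (eq_top_of_bot_isCompl (hbot ▸ hc)) ▸ Submodule.mem_top
  set w := skewPart A.1
  have hwinj : Function.Injective w := LinearMap.ker_eq_bot.1 ((Submodule.eq_bot_iff _).2 fun v hv =>
    skewPart_injOn hA1 hr0 hrodd (hmoved v) (LinearMap.mem_ker.1 hv))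
  let f : LinearMap.BilinForm F (ι → F) := (polB Q).compRight w
  have hfa : f.IsAlt := fun v => by
    show polB Q v (w v) = 0
    have e' := skewPart_adjoint (orth_mem_bIso A) v v
    rw [polB_comm] at e'
    exact (mul_eq_zero.1 (show (2 : F) * polB Q v (w v) = 0 by linear_combination e')).resolve_left h.two
  have hfn : f.Nondegenerate := ⟨fun v hv => h.nondeg.1 v fun y => by
      obtain ⟨z', rfl⟩ := LinearMap.injective_iff_surjective.1 hwinj y; exact hv z',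
    fun y hy => hwinj ((h.nondeg.2 _ fun v => hy v).trans (map_zero w).symm)⟩
  have hcomm : ∀ v, (z.1 : Matrix ι ι F) *ᵥ (A.1 v) = A.1 ((z.1 : Matrix ι ι F) *ᵥ v) := fun v => by
    have e1 := congrArg (fun g : simG Q => (g.1 : Matrix ι ι F) *ᵥ v) hzc.eq
    simp only [Subgroup.coe_mul, Units.val_mul, ← mulVec_mulVec, orthSim_mulVec] at e1
    exact e1
  have hcomm' : ∀ v, (z.1 : Matrix ι ι F) *ᵥ (A.1.symm v) = A.1.symm ((z.1 : Matrix ι ι F) *ᵥ v) := fun v => by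
    apply A.1.injective
    rw [← hcomm, LinearEquiv.apply_symm_apply, LinearEquiv.apply_symm_apply]
  obtain ⟨e', he', hdet⟩ := det_similitude hodd hfa hfn (Matrix.toLin' (z.1 : Matrix ι ι F))
    (c := (muHom h z : F)) (Units.ne_zero _) fun v v' => by
      show polB Q _ (w _) = (muHom h z : F) * polB Q v (w v')
      rw [Matrix.toLin'_apply, Matrix.toLin'_apply, ← sim_polB h]
      congr 1
      simp only [w, skewPart_apply, mulVec_sub, hcomm, hcomm']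
  rw [Module.finrank_fintype_fun_eq_card, h.card] at he'
  rw [show e' = n by omega, toLin'_det] at hdet
  have e1 : (etaHom h z : F) = 1 := by
    rw [etaHom_val, hdet, div_self (pow_ne_zero _ (Units.ne_zero _))]
  exact neg_one_ne_one_units h (Units.ext (by rw [← e, e1, Units.val_one]))

theorem pso_mem_iff (h : EvenQ Q n) {g : MulAut (Cfsg.POmega F ⇑Q)} :
    g ∈ Cfsg.psoAut F ⇑Q ↔ ∃ y, detHom Q y = 1 ∧ simAut Q (orthSim Q y) = g := by
  rw [pso_eq_range h]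
  exact ⟨fun ⟨y, hy⟩ => ⟨y.1, y.2, hy⟩, fun ⟨y, h1, h2⟩ => ⟨⟨y, h1⟩, h2⟩⟩

/-- The fusion statement for a form of even dimension. -/
theorem semi_fusion (h : EvenQ Q n) (hodd : Odd (Fintype.card F)) {p : ℕ} [Fact p.Prime] [CharP F p]
    {d : simG Q} (hd : sqMk (muHom h d) ≠ 1) {x : MulAut (Cfsg.POmega F ⇑Q)} (hx : x ∈ Cfsg.pgoAut F ⇑Q)
    {r : ℕ} (hr : r.Prime) (hr2 : r ≠ 2) (hrp : r ≠ p) (hxr : orderOf x = r)
    {H : Subgroup (MulAut (Cfsg.POmega F ⇑Q))} (hH : H = (etaHom h).ker.map (simAut Q)) :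
    (∀ y, (Cfsg.IsConjUnder (Cfsg.Inn (Cfsg.POmega F ⇑Q)) x y ↔ Cfsg.IsConjUnder H x y) ∧
      (Cfsg.IsConjUnder (Cfsg.psoAut F ⇑Q) x y ↔ Cfsg.IsConjUnder H x y)) ∧
    ∀ y, Cfsg.IsConjUnder (Cfsg.poAut F ⇑Q) x y ↔ Cfsg.IsConjUnder (Cfsg.pgoAut F ⇑Q) x y := by
  have hxr' : x ^ r = 1 := hxr ▸ pow_orderOf_eq_one x
  obtain ⟨A, hA, rfl⟩ := exists_isometry_lift h hx (hr.odd_of_ne_two hr2) hxr'
  have hA1 : A ≠ 1 := fun e => hr.ne_one (by rw [← hxr, e, map_one, map_one, orderOf_one])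
  obtain ⟨z, hzc, hzη, hzμ⟩ := exists_commuting_similarity h hodd hd hr hr2 hrp hA
  obtain ⟨c, hcc, hcd, hcs⟩ := exists_semisimple_rotation hodd h.nondeg hr hr2 hrp hA hA1
  have hcc' : Commute (orthSim Q c) (orthSim Q A) := hcc.map (orthSim Q)
  have inner : Cfsg.Inn (Cfsg.POmega F ⇑Q) ≤ Cfsg.psoAut F ⇑Q := fun g hg => by
    rw [inn_eq] at hg
    obtain ⟨k, hk, rfl⟩ := hg
    obtain ⟨y, h1, -, rfl⟩ := (omega_range h k).1 hk
    exact (pso_mem_iff h).2 ⟨y, h1, rfl⟩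
  have psoH : Cfsg.psoAut F ⇑Q ≤ H := fun g hg => by
    obtain ⟨y, hy, rfl⟩ := (pso_mem_iff h).1 hg
    rw [hH]
    exact ⟨orthSim Q y, MonoidHom.mem_ker.2 (by rw [etaHom_orthSim, hy]), rfl⟩
  have mono : ∀ {K L : Subgroup (MulAut (Cfsg.POmega F ⇑Q))}, K ≤ L → ∀ {y},
      Cfsg.IsConjUnder K (simAut Q (orthSim Q A)) y → Cfsg.IsConjUnder L (simAut Q (orthSim Q A)) y :=
    fun hle _ ⟨g, hg, e⟩ => ⟨g, hle hg, e⟩
  have move : ∀ (g c' : simG Q), Commute c' (orthSim Q A) →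
      simAut Q g * simAut Q (orthSim Q A) * (simAut Q g)⁻¹ =
        simAut Q (g * c'⁻¹) * simAut Q (orthSim Q A) * (simAut Q (g * c'⁻¹))⁻¹ := fun g c' hc => by
    rw [← map_mul, ← map_inv, ← map_mul, ← map_mul, ← map_inv, ← map_mul]
    congr 1
    calc g * orthSim Q A * g⁻¹ = g * c'⁻¹ * (c' * orthSim Q A) * g⁻¹ := by group
      _ = _ := by rw [hc.eq]; group
  have cover : ∀ g, etaHom h g = 1 → ∃ c', Commute c' (orthSim Q A) ∧
      simAut Q (g * c'⁻¹) ∈ Cfsg.Inn (Cfsg.POmega F ⇑Q) := by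
    intro g hg
    obtain ⟨z', hz', g', hg', hη', hsq⟩ : ∃ z', Commute z' (orthSim Q A) ∧ ∃ g', g' = g * z'⁻¹ ∧
        etaHom h g' = 1 ∧ sqMk (muHom h g') = 1 := by
      rcases sqMk_dich (sqMk (muHom h g)) hzμ with e | e
      · exact ⟨1, Commute.one_left _, g, by group, hg, e⟩
      · exact ⟨z, hzc, _, rfl, by rw [map_mul, map_inv, hg, hzη, inv_one, mul_one],
          by rw [map_mul, map_mul, map_inv, map_inv, e, mul_inv_cancel]⟩
    obtain ⟨a, y, hy, e⟩ := exists_scalar_special h hsq hη'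
    rcases sqMk_dich (spinor y) hcs with e' | e'
    · refine ⟨z', hz', ?_⟩
      rw [← hg', e, scaled_rotation_mem_inn a hy h]
      exact Or.inl e'
    · refine ⟨orthSim Q c * z', hcc'.mul_left hz', ?_⟩
      rw [_root_.mul_inv_rev, ← mul_assoc, ← hg', e, ← map_inv, mul_assoc, ← map_mul,
        scaled_rotation_mem_inn a (by rw [map_mul, map_inv, hy, hcd, inv_one, one_mul]) h]
      refine Or.inl ?_
      have e1 := spinor_mul_two h (y * c⁻¹) c
      rw [inv_mul_cancel_right, e'] at e1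
      exact mul_eq_right.1 e1.symm
  have back : ∀ {y}, Cfsg.IsConjUnder H (simAut Q (orthSim Q A)) y →
      Cfsg.IsConjUnder (Cfsg.Inn (Cfsg.POmega F ⇑Q)) (simAut Q (orthSim Q A)) y := by
    rintro y ⟨u, hu, rfl⟩
    rw [hH] at hu
    obtain ⟨g, hg, rfl⟩ := hu
    obtain ⟨c', hc', hi⟩ := cover g (MonoidHom.mem_ker.1 hg)
    exact ⟨_, hi, move g c' hc'⟩
  refine ⟨fun y => ⟨⟨mono (inner.trans psoH), back⟩, ⟨mono psoH, fun hy => mono inner (back hy)⟩⟩,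
    fun y => ⟨mono ?_, ?_⟩⟩
  · rw [poAut_eq, pgoAut_eq]
    rintro _ ⟨g, -, rfl⟩
    exact ⟨g, rfl⟩
  rintro ⟨u, hu, rfl⟩
  rw [pgoAut_eq] at hu
  obtain ⟨g, rfl⟩ := hu
  obtain ⟨z', hz', hsq⟩ : ∃ z', Commute z' (orthSim Q A) ∧ sqMk (muHom h (g * z'⁻¹)) = 1 := by
    rcases sqMk_dich (sqMk (muHom h g)) hzμ with e | e
    · exact ⟨1, Commute.one_left _, by rwa [inv_one, mul_one]⟩
    · exact ⟨z, hzc, by rw [map_mul, map_mul, map_inv, map_inv, e, mul_inv_cancel]⟩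
  refine ⟨_, ?_, move g z' hz'⟩
  obtain ⟨a, ha⟩ := (sqMk_eq_one_iff _).1 hsq
  rw [poAut_eq]
  refine ⟨(scalarHom Q a)⁻¹ * (g * z'⁻¹), ?_, by rw [map_mul, map_inv, scalarHom_mem_ker, inv_one, one_mul]⟩
  show _ ∈ (Cfsg.isometryGroup F ⇑Q).subgroupOf (simG Q)
  rw [Subgroup.mem_subgroupOf, ← muHom_eq_one_iff h, map_mul, map_inv, muHom_scalar, ← ha, pow_two, inv_mul_cancel]

theorem plus_semi_fusion (hodd : Odd (Fintype.card F)) {p : ℕ} [Fact p.Prime] [CharP F p] {m : ℕ} (hm : 4 ≤ m)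
    (f : (Fin m ⊕ Fin m → F) → F) (hf : ⇑(qPlus m F) = f) (H : Subgroup (MulAut (Cfsg.POmega F f)))
    (hH : H = Cfsg.autSubgroupOf (fun β => ∃ g : GL (Fin m ⊕ Fin m) F,
      g ∈ Cfsg.Geo.quadSimilarityGroup (F := F) f ∧
      Cfsg.PreservesSingularClasses f (g : Matrix (Fin m ⊕ Fin m) (Fin m ⊕ Fin m) F) ∧
      Cfsg.IsInducedBySemilinearPOmega f g (RingEquiv.refl F) β))
    (x : MulAut (Cfsg.POmega F f)) (hx : x ∈ Cfsg.pgoAut F f) {r : ℕ} (hr : r.Prime) (hr2 : r ≠ 2) (hrp : r ≠ p)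
    (hxr : orderOf x = r) :
    (∀ y, (Cfsg.IsConjUnder (Cfsg.Inn (Cfsg.POmega F f)) x y ↔ Cfsg.IsConjUnder H x y) ∧
      (Cfsg.IsConjUnder (Cfsg.psoAut F f) x y ↔ Cfsg.IsConjUnder H x y)) ∧
    ∀ y, Cfsg.IsConjUnder (Cfsg.poAut F f) x y ↔ Cfsg.IsConjUnder (Cfsg.pgoAut F f) x y := by
  subst hf
  obtain ⟨h, ⟨d, ν, k, hd⟩, -⟩ := plus_data hodd hm
  exact semi_fusion h hodd (d := d) (by rw [hd.mu]; exact hd.nonsq) hx hr hr2 hrp hxr (hH.trans (inndiag_plus_eq h))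

theorem minus_semi_fusion (hodd : Odd (Fintype.card F)) {p : ℕ} [Fact p.Prime] [CharP F p] {m : ℕ} (hm : 3 ≤ m) {a b : F}
    (hab : ∀ z₁ z₂ : F, z₁ ^ 2 + a * z₁ * z₂ + b * z₂ ^ 2 = 0 → z₁ = 0 ∧ z₂ = 0)
    (f : ((Fin m ⊕ Fin m) ⊕ Fin 2 → F) → F) (hf : ⇑(qMinus m F a b) = f)
    (H : Subgroup (MulAut (Cfsg.POmega F f)))
    (hH : H = Cfsg.autSubgroupOf (fun β => ∃ g : GL ((Fin m ⊕ Fin m) ⊕ Fin 2) F,
      g ∈ Cfsg.Geo.quadSimilarityGroup (F := F) f ∧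
      Cfsg.PreservesSingularClassesMinus m a b
        (g : Matrix ((Fin m ⊕ Fin m) ⊕ Fin 2) ((Fin m ⊕ Fin m) ⊕ Fin 2) F) ∧
      Cfsg.IsInducedBySemilinearPOmega f g (RingEquiv.refl F) β))
    (x : MulAut (Cfsg.POmega F f)) (hx : x ∈ Cfsg.pgoAut F f) {r : ℕ} (hr : r.Prime) (hr2 : r ≠ 2) (hrp : r ≠ p)
    (hxr : orderOf x = r) :
    (∀ y, (Cfsg.IsConjUnder (Cfsg.Inn (Cfsg.POmega F f)) x y ↔ Cfsg.IsConjUnder H x y) ∧
      (Cfsg.IsConjUnder (Cfsg.psoAut F f) x y ↔ Cfsg.IsConjUnder H x y)) ∧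
    ∀ y, Cfsg.IsConjUnder (Cfsg.poAut F f) x y ↔ Cfsg.IsConjUnder (Cfsg.pgoAut F f) x y := by
  subst hf
  obtain ⟨h, ⟨d, ν, k, hd⟩, -⟩ := minus_data hodd hm hab
  exact semi_fusion h hodd (d := d) (by rw [hd.mu]; exact hd.nonsq) hx hr hr2 hrp hxr (hH.trans (inndiag_minus_eq h hab))

end H44
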