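import Cfsg.Agent.H44.BCModels
import Cfsg.Agent.H44.BCNorm
import Cfsg.Agent.H44.BCTwo

/-!
The centralizer of a semisimple isometry of odd prime order contains a rotation of non-square spinor norm.
-/

set_option autoImplicit false

namespace H44

open H43 Matrix

universe u

variable {F : Type u} [Field F] [Fintype F] {V : Type*} [AddCommGroup V] [Module F V] [FiniteDimensional F V]

/-- A similitude of a non-degenerate alternating form has determinant the power of the multiplier. -/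
theorem det_similitude (hodd : Odd (Fintype.card F)) {f : LinearMap.BilinForm F V} (hf : f.IsAlt)
    (hnd : f.Nondegenerate) (g : V →ₗ[F] V) {c : F} (hc : c ≠ 0) (hg : ∀ x y, f (g x) (g y) = c * f x y) :
    ∃ d, Module.finrank F V = 2 * d ∧ LinearMap.det g = c ^ d := by
  classical
  set k := Module.finrank F V
  let e₀ : (Fin k → F) ≃ₗ[F] V := (Module.finBasis F V).equivFun.symm
  let f' : LinearMap.BilinForm F (Fin k → F) := f.comp e₀.toLinearMap e₀.toLinearMap
  have hf' : f'.IsAlt := fun x => hf (e₀ x)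
  have hnd' : f'.Nondegenerate := ⟨fun x hx => e₀.injective ((hnd.1 _ fun y => by
      obtain ⟨z, rfl⟩ := e₀.surjective y; exact hx z).trans (map_zero e₀).symm),
    fun x hx => e₀.injective ((hnd.2 _ fun y => by
      obtain ⟨z, rfl⟩ := e₀.surjective y; exact hx z).trans (map_zero e₀).symm)⟩
  have h2 := two_ne_zero_of_odd_card hodd
  obtain ⟨d, hd⟩ := H55.even_card_of_skew h2 (alt_skew hf') (det_toMatrix'_ne_zero f' hnd')
  rw [Fintype.card_fin, ← two_mul] at hd
  obtain ⟨e, c', hc', he⟩ := exists_equiv_of_congr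
    (H55.congr_J_of_skew hodd (alt_skew hf') (det_toMatrix'_ne_zero f' hnd') (m := d) (by simpa using hd))
  let E : V ≃ₗ[F] (Fin d ⊕ Fin d → F) := e₀.symm.trans e
  have hE : ∀ x y, H48.sf (E x) (E y) = c' * f x y := fun x y => by
    rw [H48.sf_def, show E x = e (e₀.symm x) from rfl, show E y = e (e₀.symm y) from rfl, he,
      ← bilin_toMatrix']
    show c' * f (e₀ (e₀.symm x)) (e₀ (e₀.symm y)) = _
    rw [LinearEquiv.apply_symm_apply, LinearEquiv.apply_symm_apply]
  set M := LinearMap.toMatrix' (E.toLinearMap ∘ₗ g ∘ₗ E.symm.toLinearMap) with hM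
  let D : Matrix (Fin d ⊕ Fin d) (Fin d ⊕ Fin d) F := Matrix.fromBlocks (c⁻¹ • 1) 0 0 1
  have hS : D * M ∈ Matrix.symplecticGroup (Fin d) F := by
    rw [H48.mem_symplectic_iff]
    intro u v
    have hD : ∀ a b, H48.sf (D *ᵥ a) (D *ᵥ b) = c⁻¹ * H48.sf a b := fun a b => by
      simp only [D, H48.sf_apply, Matrix.fromBlocks_mulVec, Sum.elim_inl, Sum.elim_inr, zero_mulVec,
        one_mulVec, add_zero, zero_add, Function.comp_apply, smul_mulVec, Pi.smul_apply, smul_eq_mul, Finset.mul_sum]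
      refine Finset.sum_congr rfl fun i _ => ?_
      ring
    rw [← mulVec_mulVec, ← mulVec_mulVec, hD, hM, LinearMap.toMatrix'_mulVec, LinearMap.toMatrix'_mulVec]
    show c⁻¹ * H48.sf (E (g (E.symm u))) (E (g (E.symm v))) = _
    rw [hE, hg, mul_left_comm, inv_mul_cancel_left₀ hc, ← hE, LinearEquiv.apply_symm_apply,
      LinearEquiv.apply_symm_apply]
  have hdet := SymplecticGroup.det_eq_one hS
  rw [Matrix.det_mul, Matrix.det_fromBlocks_zero₂₁, Matrix.det_one, mul_one, Matrix.det_smul, Matrix.det_one, mul_one,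
    Fintype.card_fin, hM, LinearMap.det_toMatrix', LinearMap.det_conj, inv_pow] at hdet
  exact ⟨d, hd, ((inv_mul_eq_one₀ (pow_ne_zero d hc)).1 hdet).symm⟩

variable {Q : QuadraticForm F V}

/-- An invariant subspace inside the moved space on which the form is non-degenerate. -/
def IsPiece (Q : QuadraticForm F V) (s : orthGroup Q) (U : Submodule F V) : Prop :=
  U ≠ ⊥ ∧ U ≤ movedSp s.1 ∧ (∀ x ∈ U, s.1 x ∈ U) ∧ ∀ x ∈ U, (∀ y ∈ U, polB Q x y = 0) → x = 0

theorem exists_min_piece (hQ : (polB Q).Nondegenerate) {s : orthGroup Q} {N : ℕ} (hs : s.1 ^ N = 1)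
    (hN : (N : F) ≠ 0) (h1 : s ≠ 1) :
    ∃ U, IsPiece Q s U ∧ ∀ U', IsPiece Q s U' → Module.finrank F U ≤ Module.finrank F U' := by
  classical
  have hc := isCompl_fixed_moved hs hN
  have hM : IsPiece Q s (movedSp s.1) := by
    refine ⟨fun e => h1 (orth_ext fun x => ?_), le_rfl, fun x hx => commute_map_moved (Commute.refl _) hx,
      fun x hx h => hQ.1 x fun y => ?_⟩
    · have : s.1 x - x ∈ movedSp s.1 := mem_movedSp.2 ⟨x, rfl⟩
      rw [e, Submodule.mem_bot, sub_eq_zero] at this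
      exact this
    · obtain ⟨a, ha, c, hc', rfl⟩ := Submodule.mem_sup.1 (hc.sup_eq_top ▸ Submodule.mem_top : y ∈ fixedSp s.1 ⊔ movedSp s.1)
      rw [map_add, (fixed_orth_moved (orth_mem_bIso s) ha hx).2, h c hc', add_zero]
  have hex : ∃ d, ∃ U, IsPiece Q s U ∧ Module.finrank F U = d := ⟨_, _, hM, rfl⟩
  obtain ⟨U, hU, hd⟩ := Nat.find_spec hex
  exact ⟨U, hU, fun U' hU' => hd ▸ Nat.find_min' hex ⟨U', hU', rfl⟩⟩

/-- The piece in coordinates. -/
theorem piece_data (hodd : Odd (Fintype.card F)) {p : ℕ} [Fact p.Prime] [CharP F p] {s : orthGroup Q} {r : ℕ}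
    (hr : r.Prime) (hr2 : r ≠ 2) (hrp : r ≠ p) (hs : s.1 ^ r = 1) {U : Submodule F V} (hU : IsPiece Q s U)
    (hmin : ∀ U', IsPiece Q s U' → Module.finrank F U ≤ Module.finrank F U') :
    ∃ (k : ℕ) (ι : (Fin k → F) →ₗ[F] V) (B : LinearMap.BilinForm F (Fin k → F))
      (c : (Fin k → F) ≃ₗ[F] (Fin k → F)) (s' : (Fin k → F) ≃ₗ[F] (Fin k → F)),
      Function.Injective ι ∧ LinearMap.range ι = U ∧ B.Nondegenerate ∧ (∀ x y, B x y = polB Q (ι x) (ι y)) ∧
      (∀ x, ι (s' x) = s.1 (ι x)) ∧ c ∈ bIso B ∧ Commute c s' ∧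
      LinearMap.det (c : (Fin k → F) →ₗ[F] (Fin k → F)) = 1 ∧
      ¬ IsSquare (B.toMatrix'.det / LinearMap.det (LinearMap.id - (c : (Fin k → F) →ₗ[F] (Fin k → F)))) ∧
      LinearMap.det (LinearMap.id - (c : (Fin k → F) →ₗ[F] (Fin k → F))) ≠ 0 := by
  classical
  have h2 := two_ne_zero_of_odd_card hodd
  have hp2 : p ≠ 2 := by
    rintro rfl
    exact h2 CharTwo.two_eq_zero
  have hr0 : (r : F) ≠ 0 := natCast_ne_zero_of_prime hr hrp
  have hrodd := hr.odd_of_ne_two hr2
  obtain ⟨hU0, hUM, hUs, hUn⟩ := hU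
  set k := Module.finrank F U
  let e : (Fin k → F) ≃ₗ[F] U := (Module.finBasis F U).equivFun.symm
  let ι : (Fin k → F) →ₗ[F] V := U.subtype ∘ₗ e.toLinearMap
  have hι : Function.Injective ι := U.injective_subtype.comp e.injective
  have hmem : ∀ x, ι x ∈ U := fun x => (e x).2
  have hrange : ∀ y ∈ U, ∃ x, ι x = y := fun y hy => ⟨e.symm ⟨y, hy⟩, by
    show ((e (e.symm ⟨y, hy⟩)) : V) = y
    rw [LinearEquiv.apply_symm_apply]⟩
  let s₀ : U →ₗ[F] U := (s.1 : V →ₗ[F] V).restrict hUs
  have hs₀ : Function.Injective s₀ := fun x y h => Subtype.ext (s.1.injective (congrArg Subtype.val h))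
  let s' : (Fin k → F) ≃ₗ[F] (Fin k → F) := (e.trans (LinearEquiv.ofInjectiveEndo s₀ hs₀)).trans e.symm
  have hs' : ∀ x, ι (s' x) = s.1 (ι x) := fun x => by
    show ((e (e.symm ((LinearEquiv.ofInjectiveEndo s₀ hs₀) (e x)))) : V) = _
    rw [LinearEquiv.apply_symm_apply]; rfl
  let B : LinearMap.BilinForm F (Fin k → F) := (polB Q).comp ι ι
  have hBsym : ∀ x y, B x y = B y x := fun x y => polB_comm _ _
  have hBn : B.Nondegenerate := by
    have h : ∀ x, (∀ y, B x y = 0) → x = 0 := fun x hx => hι ((hUn _ (hmem x) fun y hy => by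
      obtain ⟨z, rfl⟩ := hrange y hy
      exact hx z).trans (map_zero ι).symm)
    exact ⟨h, fun x hx => h x fun y => (hBsym x y).trans (hx y)⟩
  have hsB : s' ∈ bIso B := fun x y => by
    show polB Q (ι (s' x)) (ι (s' y)) = polB Q (ι x) (ι y)
    rw [hs', hs', orth_polB_map]
  have hsr : s' ^ r = 1 := LinearEquiv.ext fun x => hι (by rw [restrict_pow hs', hs]; rfl)
  set w := skewPart s' with hw
  have hwinj : Function.Injective w := LinearMap.ker_eq_bot.1 ((Submodule.eq_bot_iff _).2 fun x hx => by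
    have e1 : s' x = s'.symm x := sub_eq_zero.1 (LinearMap.mem_ker.1 hx)
    have e2 : s.1 (s.1 (ι x)) = ι x := by
      rw [← hs', ← hs']; congr 1
      rw [e1, LinearEquiv.apply_symm_apply]
    refine hι ((skewPart_injOn hs hr0 hrodd (hUM (hmem x)) ?_).trans (map_zero ι).symm)
    rw [skewPart_apply, sub_eq_zero]
    apply s.1.injective
    rw [e2, LinearEquiv.apply_symm_apply])
  have hwsurj : Function.Surjective w := LinearMap.injective_iff_surjective.1 hwinj
  let f : LinearMap.BilinForm F (Fin k → F) := B.compRight w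
  have hfx : ∀ x y, f x y = B x (w y) := fun x y => rfl
  have hf : f.IsAlt := fun x => by
    show B x (w x) = 0
    have e' := skewPart_adjoint hsB x x
    rw [hBsym, ← hw] at e'
    exact (mul_eq_zero.1 (show (2 : F) * B x (w x) = 0 by linear_combination e')).resolve_left h2
  have hfn : f.Nondegenerate := ⟨fun x hx => hBn.1 x fun y => by
      obtain ⟨z, rfl⟩ := hwsurj y; exact hx z,
    fun y hy => hwinj ((hBn.2 _ fun x => hy x).trans (map_zero w).symm)⟩
  have hwcomm : ∀ t, Commute t s' → ∀ x, t (w x) = w (t x) := fun t ht x => by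
    rw [hw, skewPart_apply, skewPart_apply, map_sub, commute_apply ht]
    congr 1
    exact commute_apply ht.inv_right x
  have hB_of_f : ∀ t, t ∈ bIso f → Commute t s' → t ∈ bIso B := fun t ht hc x y => by
    obtain ⟨z, rfl⟩ := hwsurj y
    rw [hwcomm t hc, ← hfx, ← hfx]
    exact ht x z
  have hsf : s' ∈ bIso f := fun x y => by
    rw [hfx, hfx, ← hwcomm s' (Commute.refl _)]
    exact hsB x (w y)
  have hk : 0 < k := Nat.pos_of_ne_zero fun e0 => hU0 (Submodule.finrank_eq_zero.1 e0)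
  have hinv : ∀ t ∈ bIso f, Commute t s' → t * t = 1 → t = 1 ∨ ∀ x, t x = -x := by
    intro t htf hc htt
    by_contra hcon
    rw [not_or] at hcon
    obtain ⟨x₀, hx₀⟩ := not_forall.1 hcon.2
    obtain ⟨y₀, hy₀⟩ := not_forall.1 fun h => hcon.1 (LinearEquiv.ext h)
    have hT : ∀ x, t (t x) = x := fun x => LinearEquiv.congr_fun htt x
    let W : Submodule F (Fin k → F) := LinearMap.ker ((t : (Fin k → F) →ₗ[F] (Fin k → F)) - LinearMap.id)
    have hW : ∀ {x}, x ∈ W ↔ t x = x := fun {x} => by simp [W, sub_eq_zero]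
    have ht := hB_of_f t htf hc
    have hpiece : IsPiece Q s (W.map ι) := by
      refine ⟨fun e0 => ?_, ?_, ?_, ?_⟩
      · have hmemW : x₀ + t x₀ ∈ W := hW.2 (by rw [map_add, hT, add_comm])
        have : ι (x₀ + t x₀) ∈ W.map ι := Submodule.mem_map_of_mem hmemW
        rw [e0, Submodule.mem_bot, map_eq_zero_iff ι hι] at this
        exact hx₀ (eq_neg_of_add_eq_zero_right this)
      · rintro _ ⟨x, -, rfl⟩; exact hUM (hmem x)
      · rintro _ ⟨x, hx, rfl⟩
        exact ⟨s' x, hW.2 (by rw [commute_apply hc, hW.1 hx]), hs' x⟩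
      · rintro _ ⟨x, hx, rfl⟩ h
        refine (map_eq_zero_iff ι hι).2 (hBn.1 x fun y => ?_)
        have e1 : B x (y + t y) = 0 := h _ (Submodule.mem_map_of_mem (hW.2 (by rw [map_add, hT, add_comm])))
        have e2 : B x (t y) = B x y := by
          have := mem_bIso.1 ht x y
          rwa [hW.1 hx] at this
        rw [map_add, e2] at e1
        exact (mul_eq_zero.1 ((two_mul _).trans e1)).resolve_left h2
    have h1 := hmin _ hpiece
    rw [(Submodule.equivMapOfInjective ι hι W).finrank_eq.symm] at h1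
    have h3 := Submodule.finrank_lt (show W ≠ ⊤ from fun e0 => hy₀ (hW.1 (e0 ▸ Submodule.mem_top)))
    rw [Module.finrank_fin_fun] at h3
    omega
  obtain ⟨-, c, hcf, hcs, hsq⟩ := indecomposable_centralizer hp2 hf hfn hk hr hrp hsr hsf hwinj hinv
  obtain ⟨d, hd, hdet⟩ := det_similitude hodd hf hfn (c : (Fin k → F) →ₗ[F] (Fin k → F)) one_ne_zero
    (fun x y => by rw [one_mul]; exact hcf x y)
  have hX : LinearMap.det (LinearMap.id - (c : (Fin k → F) →ₗ[F] (Fin k → F))) ≠ 0 := fun e0 => hsq (by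
    rw [e0, zero_mul]; exact IsSquare.zero)
  refine ⟨k, ι, B, c, s', hι, ?_, hBn, fun _ _ => rfl, hs', hB_of_f c hcf hcs, hcs, by rw [hdet, one_pow], ?_, hX⟩
  · refine le_antisymm ?_ fun y hy => hrange y hy
    rintro _ ⟨x, rfl⟩; exact hmem x
  intro hB
  refine hsq ?_
  have h := (isSquare_det_alt hodd hf hfn).div hB
  rw [LinearMap.BilinForm.toMatrix'_compRight, Matrix.det_mul, LinearMap.det_toMatrix'] at h
  have hD := det_toMatrix'_ne_zero B hBn
  rw [div_div_eq_mul_div, mul_assoc, mul_div_cancel_left₀ _ hD, mul_comm] at h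
  exact h

/-- A rotation of non-square spinor norm commuting with a semisimple element. -/
theorem exists_semisimple_rotation (hodd : Odd (Fintype.card F)) {p : ℕ} [Fact p.Prime] [CharP F p]
    (hQ : (polB Q).Nondegenerate) {s : orthGroup Q} {r : ℕ} (hr : r.Prime) (hr2 : r ≠ 2) (hrp : r ≠ p)
    (hs : s ^ r = 1) (h1 : s ≠ 1) :
    ∃ c : orthGroup Q, Commute c s ∧ detHom Q c = 1 ∧ spinor c ≠ 1 := by
  classical
  have h2 := two_ne_zero_of_odd_card hodd
  have hs' : s.1 ^ r = 1 := congrArg Subtype.val hs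
  obtain ⟨U, hU, hmin⟩ := exists_min_piece hQ hs' (natCast_ne_zero_of_prime (F := F) hr hrp) h1
  obtain ⟨k, ι, B, c, s', hι, hrange, hBn, hB, hss, hcB, hcs, hcdet, hsq, hX⟩ :=
    piece_data hodd hr hr2 hrp hs' hU hmin
  obtain ⟨-, -, hUs, hUn⟩ := hU
  set U' := (polB Q).orthogonal U
  have hc : IsCompl U U' := (LinearMap.BilinForm.isCompl_orthogonal_iff_disjoint (polB_isRefl Q)).2 (by
    rw [Submodule.disjoint_def]
    exact fun x hx hx' => hUn x hx fun y hy => by rw [polB_comm]; exact hx' y hy)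
  let eU : (Fin k → F) ≃ₗ[F] U := (LinearEquiv.ofInjective ι hι).trans (LinearEquiv.ofEq _ _ hrange)
  have heU : ∀ x, (eU x : V) = ι x := fun x => rfl
  let Φ := Submodule.prodEquivOfIsCompl _ _ hc
  let C : V ≃ₗ[F] V := (Φ.symm.trans (LinearEquiv.prodCongr ((eU.symm.trans c).trans eU) (LinearEquiv.refl F U'))).trans Φ
  have hC : ∀ x, ∀ m ∈ U', C (ι x + m) = ι (c x) + m := fun x m hm => by
    have e : ι x + m = Φ (eU x, ⟨m, hm⟩) := rfl
    rw [e]
    show Φ ((LinearEquiv.prodCongr ((eU.symm.trans c).trans eU) (LinearEquiv.refl F U')) (Φ.symm (Φ _))) = _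
    rw [LinearEquiv.symm_apply_apply]
    show ((eU (c (eU.symm (eU x)))) : V) + m = _
    rw [LinearEquiv.symm_apply_apply]; rfl
  have hdec : ∀ y, ∃ x, ∃ m ∈ U', y = ι x + m := fun y => by
    obtain ⟨⟨a, m⟩, rfl⟩ := Φ.surjective y
    obtain ⟨x, rfl⟩ := eU.surjective a
    exact ⟨x, m, m.2, rfl⟩
  have horth : ∀ x, ∀ m ∈ U', polB Q (ι x) m = 0 := fun x m hm => hm _ (hrange ▸ LinearMap.mem_range_self ι x)
  have hmem : C ∈ orthGroup Q := fun y => by
    obtain ⟨x, m, hm, rfl⟩ := hdec y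
    rw [hC x m hm, qmap_add, qmap_add, horth _ m hm, horth _ m hm]
    have e := mem_bIso.1 hcB x x
    rw [hB, hB, polB_self, polB_self] at e
    rw [mul_left_cancel₀ h2 e]
  let g : orthGroup Q := ⟨C, hmem⟩
  have hsU' : ∀ m ∈ U', s.1 m ∈ U' := fun m hm y hy => by
    have hmap : Submodule.map (s.1 : V →ₗ[F] V) U = U :=
      Submodule.eq_of_le_of_finrank_eq (Submodule.map_le_iff_le_comap.2 hUs) (LinearEquiv.finrank_map_eq s.1 U)
    obtain ⟨y', hy', rfl⟩ := (hmap.symm ▸ hy : y ∈ Submodule.map (s.1 : V →ₗ[F] V) U)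
    show polB Q (s.1 y') (s.1 m) = 0
    rw [orth_polB_map]; exact hm y' hy'
  refine ⟨g, orth_ext fun y => ?_, ?_, fun hsp => ?_⟩
  · obtain ⟨x, m, hm, rfl⟩ := hdec y
    show C (s.1 (ι x + m)) = s.1 (C (ι x + m))
    rw [hC x m hm, map_add s.1, map_add s.1, ← hss, hC _ _ (hsU' m hm), commute_apply hcs, hss]
  · apply Units.ext
    rw [coe_detHom]
    have e : (g.1 : V →ₗ[F] V) = Φ.toLinearMap ∘ₗ
        (LinearMap.prodMap (eU.toLinearMap ∘ₗ (c : (Fin k → F) →ₗ[F] (Fin k → F)) ∘ₗ eU.symm.toLinearMap)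
          LinearMap.id) ∘ₗ Φ.symm.toLinearMap := rfl
    rw [e, LinearMap.det_conj, LinearMap.det_prodMap, LinearMap.det_conj, hcdet, LinearMap.det_id, mul_one]
    rfl
  · set L := LinearMap.id - (c : (Fin k → F) →ₗ[F] (Fin k → F)) with hL
    let Le := LinearMap.equivOfDetNeZero L hX
    have hLe : ∀ x, Le.symm x - c (Le.symm x) = x := fun x => Le.apply_symm_apply x
    have hres : resid g = U := by
      refine le_antisymm ?_ fun y hy => ?_
      · rintro _ ⟨y, rfl⟩
        obtain ⟨x, m, hm, rfl⟩ := hdec y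
        rw [resMap_apply, show g.1 = C from rfl, hC x m hm, ← hrange,
          show ι x + m - (ι (c x) + m) = ι x - ι (c x) by abel, ← map_sub]
        exact LinearMap.mem_range_self ι _
      · obtain ⟨x, rfl⟩ := hrange.symm ▸ hy
        refine ⟨ι (Le.symm x), ?_⟩
        have e := hC (Le.symm x) 0 (zero_mem _)
        rw [add_zero, add_zero] at e
        rw [resMap_apply, show g.1 = C from rfl, e, ← map_sub, hLe]
    let u : Fin k → V := fun i => ι (Pi.single i 1)
    let w : Fin k → V := fun i => ι (Le.symm (Pi.single i 1))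
    have hfam := sqc_wallDisc_of_family hQ g u w
      (by
        have h := (Pi.basisFun F (Fin k)).linearIndependent.map' ι (LinearMap.ker_eq_bot.2 hι)
        have : u = ι ∘ (Pi.basisFun F (Fin k)) := funext fun i => by simp [u]
        rw [this]; exact h)
      (by
        rw [hres, ← hrange, show Set.range u = ι '' Set.range (Pi.basisFun F (Fin k)) by
          rw [← Set.range_comp]; congr 1; funext i; simp [u], Submodule.span_image, (Pi.basisFun F (Fin k)).span_eq,
          Submodule.map_top])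
      (fun i => by
        have e := hC (Le.symm (Pi.single i 1)) 0 (zero_mem _)
        rw [add_zero, add_zero] at e
        rw [resMap_apply, show g.1 = C from rfl]
        show ι _ - C (ι _) = ι _
        rw [e, ← map_sub, hLe])
    have hmat : (Matrix.of fun i j => polB Q (w i) (u j)) =
        (B.compLeft (Le.symm : (Fin k → F) →ₗ[F] (Fin k → F))).toMatrix' := by
      ext i j
      rw [of_apply, LinearMap.BilinForm.toMatrix'_apply]
      exact (hB _ _).symm
    have hLdet : LinearMap.det (Le.symm : (Fin k → F) →ₗ[F] (Fin k → F)) = (LinearMap.det L)⁻¹ := by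
      refine eq_inv_of_mul_eq_one_left ?_
      have : (Le.symm : (Fin k → F) →ₗ[F] (Fin k → F)) ∘ₗ L = LinearMap.id := LinearMap.ext Le.symm_apply_apply
      rw [← LinearMap.det_comp, this, LinearMap.det_id]
    rw [spinor, ← hfam, hmat, LinearMap.BilinForm.toMatrix'_compLeft, Matrix.det_mul, Matrix.det_transpose,
      LinearMap.det_toMatrix', hLdet, ← div_eq_inv_mul,
      sqc_eq_one_iff (div_ne_zero (det_toMatrix'_ne_zero B hBn) hX)] at hsp
    exact hsq hsp

end H44
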