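import Mathlib

/-!
Nilpotent skew endomorphisms of alternating spaces: Jordan frames with their Gram matrices.
-/

set_option autoImplicit false

namespace H44.SkewFrame

open Matrix

variable {F : Type*} [Field F]

/-- `N` is skew for `B`. -/
structure SkewData {V : Type*} [AddCommGroup V] [Module F V] (B : LinearMap.BilinForm F V)
    (N : Module.End F V) : Prop where
  alt : ∀ x, B x x = 0
  nondeg : ∀ x, (∀ y, B x y = 0) → x = 0
  skew : ∀ x y, B (N x) y = -B x (N y)

/-- Chains of heights below `n` with Gram matrix `G`, spanning the space. -/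
structure Frame {V : Type*} [AddCommGroup V] [Module F V] (B : LinearMap.BilinForm F V) (N : Module.End F V)
    (n : ℕ) {ι : Type} [Fintype ι] [DecidableEq ι] (h : ι → ℕ) (G : Matrix ι ι F) (x : ι → V) : Prop where
  lt : ∀ a, h a < n
  kill : ∀ a, (N ^ (h a + 1)) (x a) = 0
  pair : ∀ a b j, B (x a) ((N ^ j) (x b)) = if h a = h b ∧ j = h b then G a b else 0
  block : ∀ a b, h a ≠ h b → G a b = 0
  unit : IsUnit G
  card : Module.finrank F V = ∑ a, (h a + 1)

/-- The Gram block of height `k`. -/
def blk {ι : Type} (h : ι → ℕ) (G : Matrix ι ι F) (k : ℕ) : Matrix {a : ι // h a = k} {a : ι // h a = k} F :=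
  Matrix.of fun a b => G a.1 b.1

variable {V : Type*} [AddCommGroup V] [Module F V] {B : LinearMap.BilinForm F V} {N : Module.End F V}

theorem SkewData.swap (hd : SkewData B N) (u v : V) : B v u = -B u v := by
  have h := hd.alt (u + v)
  simp only [map_add, LinearMap.add_apply, hd.alt, zero_add, add_zero] at h
  exact eq_neg_of_add_eq_zero_left h

theorem SkewData.pow_apply (hd : SkewData B N) : ∀ (i : ℕ) (x y : V),
    B ((N ^ i) x) y = (-1) ^ i * B x ((N ^ i) y) := by
  intro i
  induction i with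
  | zero => intro x y; simp
  | succ i ih =>
    intro x y
    rw [pow_succ', Module.End.mul_apply, hd.skew, ih, ← Module.End.mul_apply, ← pow_succ, ← pow_succ',
      pow_succ (-1 : F), mul_neg_one, neg_mul]

theorem SkewData.pow_self_symm (hd : SkewData B N) (j : ℕ) (x y : V) :
    B y ((N ^ j) x) = (-1) ^ (j + 1) * B x ((N ^ j) y) := by
  rw [hd.swap, hd.pow_apply, pow_succ]; ring

theorem pow_kill {k i : ℕ} {x : V} (h : (N ^ k) x = 0) (hi : k ≤ i) : (N ^ i) x = 0 := by
  obtain ⟨d, rfl⟩ := Nat.exists_eq_add_of_le hi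
  rw [add_comm, pow_add, Module.End.mul_apply, h, map_zero]

namespace Frame

variable {n : ℕ} {ι : Type} [Fintype ι] [DecidableEq ι] {h : ι → ℕ} {G : Matrix ι ι F} {x : ι → V}

theorem pair_pow (hd : SkewData B N) (hf : Frame B N n h G x) (a b : ι) (i j : ℕ) :
    B ((N ^ i) (x a)) ((N ^ j) (x b)) =
      if h a = h b ∧ i + j = h b then (-1) ^ i * G a b else 0 := by
  rw [hd.pow_apply, ← Module.End.mul_apply, ← pow_add, hf.pair]
  by_cases hc : h a = h b ∧ i + j = h b <;> simp [hc]

theorem symm (hd : SkewData B N) (hf : Frame B N n h G x) (a b : ι) :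
    G b a = (-1) ^ (h a + 1) * G a b := by
  by_cases hab : h a = h b
  · have h1 := hf.pair b a (h a)
    have h2 := hf.pair a b (h a)
    rw [if_pos ⟨hab.symm, rfl⟩] at h1
    rw [if_pos ⟨hab, hab⟩] at h2
    rw [← h1, hd.pow_self_symm, h2]
  · rw [hf.block a b hab, hf.block b a fun e => hab e.symm, mul_zero]

/-- Coefficients at one level of height and depth. -/
def lev (h : ι → ℕ) (c : ((a : ι) × Fin (h a + 1)) → F) (l j : ℕ) (a : ι) : F :=
  ∑ i : Fin (h a + 1), if h a = l ∧ (i : ℕ) = j then c ⟨a, i⟩ else 0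

omit [Fintype ι] [DecidableEq ι] in
theorem lev_apply (c : ((a : ι) × Fin (h a + 1)) → F) {l : ℕ} {a : ι} (ha : h a = l) (i : Fin (h a + 1)) :
    lev h c l (i : ℕ) a = c ⟨a, i⟩ := by
  rw [lev, Finset.sum_eq_single i]
  · rw [if_pos ⟨ha, rfl⟩]
  · exact fun i' _ hi => if_neg fun e => hi (Fin.ext e.2)
  · simp

omit [Fintype ι] [DecidableEq ι] in
theorem lev_off (c : ((a : ι) × Fin (h a + 1)) → F) {l : ℕ} (j : ℕ) {a : ι} (ha : h a ≠ l) :
    lev h c l j a = 0 :=
  Finset.sum_eq_zero fun _ _ => if_neg fun e => ha e.1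

theorem pair_combination (hd : SkewData B N) (hf : Frame B N n h G x) (c : ((a : ι) × Fin (h a + 1)) → F)
    (a : ι) (i : ℕ) (hi : i ≤ h a) :
    B ((N ^ i) (x a)) (∑ p, c p • (N ^ (p.2 : ℕ)) (x p.1)) =
      (-1) ^ i * (G *ᵥ lev h c (h a) (h a - i)) a := by
  simp only [map_sum, map_smul, smul_eq_mul, hf.pair_pow hd, Fintype.sum_sigma, mulVec, dotProduct, lev,
    Finset.mul_sum]
  refine Finset.sum_congr rfl fun a' _ => Finset.sum_congr rfl fun j _ => ?_
  by_cases hc : h a = h a' ∧ i + (j : ℕ) = h a'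
  · rw [if_pos hc, if_pos ⟨hc.1.symm, by omega⟩]; ring
  · rw [if_neg hc, if_neg fun e => hc ⟨e.1.symm, by omega⟩]; simp

theorem lev_eq_zero (hd : SkewData B N) (hf : Frame B N n h G x) (c : ((a : ι) × Fin (h a + 1)) → F)
    (l j : ℕ) (hj : j ≤ l)
    (hc : ∀ a, h a = l → B ((N ^ (l - j)) (x a)) (∑ p, c p • (N ^ (p.2 : ℕ)) (x p.1)) = 0) :
    lev h c l j = 0 := by
  refine Matrix.mulVec_injective_iff_isUnit.2 hf.unit (funext fun a => ?_)
  rw [mulVec_zero, Pi.zero_apply]
  by_cases ha : h a = l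
  · have h1 := hc a ha
    rw [pair_combination hd hf c a _ (by omega), ha, show l - (l - j) = j by omega] at h1
    exact (mul_eq_zero.1 h1).resolve_left (pow_ne_zero _ (neg_ne_zero.2 one_ne_zero))
  · refine Finset.sum_eq_zero fun a' _ => ?_
    by_cases ha' : h a' = l
    · exact mul_eq_zero_of_left (hf.block a a' (by omega)) _
    · exact mul_eq_zero_of_right _ (lev_off c j ha')

/-- The chains form a basis. -/
theorem indep (hd : SkewData B N) (hf : Frame B N n h G x) :
    LinearIndependent F fun p : (a : ι) × Fin (h a + 1) => (N ^ (p.2 : ℕ)) (x p.1) := by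
  rw [Fintype.linearIndependent_iff]
  rintro c hc ⟨a, j⟩
  rw [← lev_apply c rfl j, hf.lev_eq_zero hd c (h a) j (Nat.lt_succ_iff.1 j.2) fun b _ => by rw [hc, map_zero]]
  rfl

/-- The basis of chains. -/
noncomputable def basis (hd : SkewData B N) (hf : Frame B N n h G x) [FiniteDimensional F V] :
    Module.Basis ((a : ι) × Fin (h a + 1)) F V :=
  Module.Basis.mk (indep hd hf) ((indep hd hf).span_eq_top_of_card_eq_finrank'
    (by simp [hf.card])).ge

theorem basis_apply (hd : SkewData B N) (hf : Frame B N n h G x) [FiniteDimensional F V]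
    (p : (a : ι) × Fin (h a + 1)) : hf.basis hd p = (N ^ (p.2 : ℕ)) (x p.1) := by
  simp [basis]

theorem pow_combination (hf : Frame B N n h G x) (k : ℕ)
    (c : (a : ι) × Fin (h a + 1) → F) :
    (N ^ k) (∑ p, c p • (N ^ (p.2 : ℕ)) (x p.1)) = ∑ p, c p • (N ^ (k + (p.2 : ℕ))) (x p.1) := by
  rw [map_sum]
  exact Finset.sum_congr rfl fun p _ => by rw [map_smul, ← Module.End.mul_apply, ← pow_add]

/-- Spaces with frames of the same Gram data are isometric. -/
theorem exists_equiv (hd : SkewData B N) (hf : Frame B N n h G x) [FiniteDimensional F V]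
    {V' : Type*} [AddCommGroup V'] [Module F V'] [FiniteDimensional F V'] {B' : LinearMap.BilinForm F V'}
    {N' : Module.End F V'} (hd' : SkewData B' N') {x' : ι → V'} (hf' : Frame B' N' n h G x') :
    ∃ φ : V ≃ₗ[F] V', (∀ u v, B' (φ u) (φ v) = B u v) ∧ ∀ u, φ (N u) = N' (φ u) := by
  let φ : V ≃ₗ[F] V' := (hf.basis hd).equiv (hf'.basis hd') (Equiv.refl _)
  have hφ : ∀ p : (a : ι) × Fin (h a + 1), φ ((N ^ (p.2 : ℕ)) (x p.1)) = (N' ^ (p.2 : ℕ)) (x' p.1) := by
    intro p
    rw [← hf.basis_apply hd, Module.Basis.equiv_apply, Equiv.refl_apply, hf'.basis_apply hd']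
  refine ⟨φ, fun u v => ?_, fun u => ?_⟩
  · have : B'.compl₁₂ φ.toLinearMap φ.toLinearMap = B := (hf.basis hd).ext fun p =>
      (hf.basis hd).ext fun p' => by
        rw [LinearMap.compl₁₂_apply, LinearEquiv.coe_coe, hf.basis_apply hd, hf.basis_apply hd, hφ, hφ,
          hf.pair_pow hd, hf'.pair_pow hd']
    rw [← this]; rfl
  · have : φ.toLinearMap.comp N = N'.comp φ.toLinearMap := (hf.basis hd).ext fun p => by
      rw [LinearMap.comp_apply, LinearMap.comp_apply, LinearEquiv.coe_coe, hf.basis_apply hd, hφ,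
        ← Module.End.mul_apply, ← pow_succ', ← Module.End.mul_apply, ← pow_succ']
      rcases (Nat.lt_succ_iff.1 p.2.2).lt_or_eq with hlt | heq
      · exact hφ ⟨p.1, ⟨(p.2 : ℕ) + 1, by omega⟩⟩
      · rw [heq, hf.kill, hf'.kill, map_zero]
    exact LinearMap.congr_fun this u

/-- The Gram blocks of two frames of one space are congruent. -/
theorem exists_congr (hd : SkewData B N) (hf : Frame B N n h G x) [FiniteDimensional F V]
    {ι' : Type} [Fintype ι'] [DecidableEq ι'] {h' : ι' → ℕ} {G' : Matrix ι' ι' F} {x' : ι' → V}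
    (hf' : Frame B N n h' G' x') (k : ℕ) :
    ∃ C : Matrix {a : ι // h a = k} {a : ι' // h' a = k} F,
      Cᵀ * blk h G k * C = blk h' G' k := by
  let c : ι' → ((a : ι) × Fin (h a + 1)) → F := fun b p => (hf.basis hd).repr (x' b) p
  have hc : ∀ b, x' b = ∑ p, c b p • (N ^ (p.2 : ℕ)) (x p.1) := fun b => by
    conv_lhs => rw [← (hf.basis hd).sum_repr (x' b)]
    exact Finset.sum_congr rfl fun p _ => by rw [hf.basis_apply hd]
  refine ⟨Matrix.of fun a b => lev h (c b.1) k 0 a.1, Matrix.ext fun b₁ b₂ => ?_⟩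
  have hk2 : (N ^ (k + 1)) (x' b₂.1) = 0 := by have := hf'.kill b₂.1; rwa [b₂.2] at this
  have hk1 : (N ^ (k + 1)) (x' b₁.1) = 0 := by have := hf'.kill b₁.1; rwa [b₁.2] at this
  have hterm : ∀ (a : ι) (i : Fin (h a + 1)),
      c b₁.1 ⟨a, i⟩ * B ((N ^ (i : ℕ)) (x a)) ((N ^ k) (x' b₂.1)) =
        if h a = k ∧ (i : ℕ) = 0 then c b₁.1 ⟨a, i⟩ * (G *ᵥ lev h (c b₂.1) k 0) a else 0 := by
    intro a i
    rcases Nat.eq_zero_or_pos (i : ℕ) with hi | hi
    · rcases lt_trichotomy (h a) k with hl | he | hg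
      · rw [if_neg (by omega), hi, pow_zero, Module.End.one_apply, hc b₂.1, hf.pow_combination]
        simp only [map_sum, map_smul, smul_eq_mul, hf.pair]
        rw [Finset.sum_eq_zero fun q _ => by rw [if_neg (by omega), mul_zero], mul_zero]
      · rw [if_pos ⟨he, hi⟩, hi, pow_zero, Module.End.one_apply]
        have h1 := pair_combination hd hf (c b₂.1) a k (by omega)
        rw [← hc, hd.pow_apply, he, Nat.sub_self] at h1
        exact congrArg _ (mul_left_cancel₀ (pow_ne_zero _ (neg_ne_zero.2 one_ne_zero)) h1)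
      · rw [if_neg (by omega), ← lev_apply (c b₁.1) rfl i,
          hf.lev_eq_zero hd (c b₁.1) (h a) i (by omega) fun a' _ => by
            rw [← hc, hd.pow_apply, pow_kill hk1 (by omega), map_zero, mul_zero]]
        simp
    · rw [if_neg (by omega), hd.pow_apply, ← Module.End.mul_apply, ← pow_add, pow_kill hk2 (by omega)]
      simp
  have h2 := hf'.pair b₁.1 b₂.1 k
  rw [if_pos ⟨b₁.2.trans b₂.2.symm, b₂.2.symm⟩] at h2
  have hsub : ∀ f : ι → F, (∀ a, h a ≠ k → f a = 0) → ∑ a, f a = ∑ a : {a : ι // h a = k}, f a.1 := fun f hf0 => by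
    rw [← Finset.sum_subtype (p := fun a => h a = k) (Finset.univ.filter fun a => h a = k) (fun a => by simp),
      Finset.sum_filter_of_ne fun a _ ha => by_contra fun e => ha (hf0 a e)]
  conv_rhs => rw [blk, Matrix.of_apply, ← h2, hc b₁.1]
  simp only [map_sum, map_smul, LinearMap.sum_apply, LinearMap.smul_apply, smul_eq_mul]
  rw [Fintype.sum_sigma, Finset.sum_congr rfl fun a _ => Finset.sum_congr rfl fun i _ => hterm a i,
    Finset.sum_congr rfl (g := fun a => lev h (c b₁.1) k 0 a * (G *ᵥ lev h (c b₂.1) k 0) a) fun a _ => by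
      simp only [lev, Finset.sum_mul, ite_mul, zero_mul],
    hsub _ fun a ha => by rw [lev_off _ _ ha, zero_mul], Matrix.mul_assoc, Matrix.mul_apply]
  refine Finset.sum_congr rfl fun a _ => ?_
  rw [mulVec, dotProduct, hsub _ fun a' ha' => by rw [lev_off _ _ ha', mul_zero]]
  simp [Matrix.mul_apply, blk]

/-- Change of frame inside the blocks. -/
theorem change (hd : SkewData B N) (hf : Frame B N n h G x) {κ : Type} [Fintype κ] [DecidableEq κ]
    (e : κ → ℕ) (P : Matrix ι κ F) (hP : ∀ a b, h a ≠ e b → P a b = 0) (hU : IsUnit (Pᵀ * G * P))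
    (hlt : ∀ b, e b < n) (hcard : Module.finrank F V = ∑ b, (e b + 1)) :
    Frame B N n e (Pᵀ * G * P) (fun b => ∑ a, P a b • x a) where
  lt := hlt
  kill b := by
    rw [map_sum]
    refine Finset.sum_eq_zero fun a _ => ?_
    by_cases hab : h a = e b
    · rw [map_smul, ← hab, hf.kill, smul_zero]
    · rw [hP a b hab, zero_smul, map_zero]
  pair b₁ b₂ j := by
    simp only [map_sum, map_smul, LinearMap.sum_apply, LinearMap.smul_apply, smul_eq_mul, hf.pair]
    by_cases hc : e b₁ = e b₂ ∧ j = e b₂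
    · rw [if_pos hc, Matrix.mul_apply]
      refine Finset.sum_congr rfl fun a' _ => ?_
      rw [Matrix.mul_apply, Finset.sum_mul, Finset.mul_sum]
      refine Finset.sum_congr rfl fun a _ => ?_
      rw [transpose_apply]
      by_cases h1 : h a = e b₁
      · by_cases h2 : h a' = e b₂
        · rw [if_pos ⟨by omega, by omega⟩]; ring
        · rw [hP a' b₂ h2]; simp
      · rw [hP a b₁ h1]; simp
    · rw [if_neg hc]
      refine Finset.sum_eq_zero fun a' _ => ?_
      rw [Finset.mul_sum]
      refine Finset.sum_eq_zero fun a _ => ?_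
      by_cases h1 : h a = e b₁
      · by_cases h2 : h a' = e b₂
        · rw [if_neg fun h3 => hc ⟨by omega, by omega⟩]; ring
        · rw [hP a' b₂ h2]; simp
      · rw [hP a b₁ h1]; simp
  block b₁ b₂ hb := by
    rw [Matrix.mul_apply]
    refine Finset.sum_eq_zero fun a' _ => ?_
    rw [Matrix.mul_apply, Finset.sum_mul]
    refine Finset.sum_eq_zero fun a _ => ?_
    rw [transpose_apply]
    by_cases h1 : h a = e b₁
    · by_cases h2 : h a' = e b₂
      · rw [hf.block a a' (by omega)]; simp
      · rw [hP a' b₂ h2]; simp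
    · rw [hP a b₁ h1]; simp
  unit := hU
  card := hcard

end Frame

/-- Correcting a top family to have pairings only in the top power. -/
theorem exists_clean (hd : SkewData B N) (h2 : (2 : F) ≠ 0) {n : ℕ} (hN : ∀ v, (N ^ (n + 1)) v = 0)
    {ι : Type} [Fintype ι] [DecidableEq ι] (x₀ : ι → V) (G : Matrix ι ι F) (hG : IsUnit G)
    (hx₀ : ∀ a b, B (x₀ a) ((N ^ n) (x₀ b)) = G a b) (d : ℕ) (hd' : d ≤ n) :
    ∃ x : ι → V, (∀ a, (N ^ n) (x a) = (N ^ n) (x₀ a)) ∧ (∀ a b, B (x a) ((N ^ n) (x b)) = G a b) ∧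
      ∀ j, n - d ≤ j → j < n → ∀ a b, B (x a) ((N ^ j) (x b)) = 0 := by
  induction d with
  | zero => exact ⟨x₀, fun a => rfl, hx₀, fun j h1 h2 => by omega⟩
  | succ d ih =>
    obtain ⟨x, hxN, hxG, hxj⟩ := ih (by omega)
    set j₀ := n - (d + 1) with hj₀
    set δ := d + 1 with hδ
    have hjd : j₀ + δ = n := by omega
    let M : Matrix ι ι F := Matrix.of fun a b => B (x a) ((N ^ j₀) (x b))
    have hMs : Mᵀ = (-1 : F) ^ (j₀ + 1) • M := Matrix.ext fun a b => by
      simp only [M, transpose_apply, Matrix.of_apply, Matrix.smul_apply, smul_eq_mul]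
      exact hd.pow_self_symm j₀ (x a) (x b)
    have hGs : Gᵀ = (-1 : F) ^ (n + 1) • G := Matrix.ext fun a b => by
      simp only [transpose_apply, Matrix.smul_apply, smul_eq_mul, ← hxG]
      exact hd.pow_self_symm n (x a) (x b)
    have hGd : IsUnit G.det := (Matrix.isUnit_iff_isUnit_det _).1 hG
    let C : Matrix ι ι F := (-(2⁻¹ : F)) • (G⁻¹ * M)ᵀ
    let x' : ι → V := fun a => x a + ∑ b, C a b • (N ^ δ) (x b)
    have hδn : ∀ v, (N ^ (n + δ)) v = 0 := fun v => pow_kill (hN v) (by omega)
    have hN' : ∀ a, (N ^ n) (x' a) = (N ^ n) (x a) := fun a => by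
      simp only [x', map_add, map_sum, map_smul, ← Module.End.mul_apply, ← pow_add, hδn, smul_zero,
        Finset.sum_const_zero, add_zero]
    have hexp : ∀ a b i, j₀ ≤ i → B (x' a) ((N ^ i) (x' b)) = B (x a) ((N ^ i) (x b)) +
        (if i = j₀ then (G * Cᵀ) a b + (-1) ^ δ * (C * G) a b else 0) := by
      intro a b i hi
      have e1 : ∀ c, B (x a) ((N ^ (i + δ)) (x c)) = if i = j₀ then G a c else 0 := fun c => by
        split_ifs with e
        · rw [e, hjd, hxG]
        · rw [pow_kill (hN _) (by omega), map_zero]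
      have e2 : ∀ c, B ((N ^ δ) (x c)) ((N ^ i) (x b)) = if i = j₀ then (-1) ^ δ * G c b else 0 := fun c => by
        rw [hd.pow_apply, ← Module.End.mul_apply, ← pow_add]
        split_ifs with e
        · rw [e, add_comm, hjd, hxG]
        · rw [pow_kill (hN _) (by omega), map_zero, mul_zero]
      have e3 : ∀ c c', B ((N ^ δ) (x c)) ((N ^ (i + δ)) (x c')) = 0 := fun c c' => by
        rw [hd.pow_apply, ← Module.End.mul_apply, ← pow_add, pow_kill (hN _) (by omega), map_zero, mul_zero]
      simp only [x', map_add, map_sum, map_smul, LinearMap.add_apply, LinearMap.sum_apply,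
        LinearMap.smul_apply, smul_eq_mul, ← Module.End.mul_apply, ← pow_add, e1, e2, e3, mul_zero,
        Finset.sum_const_zero, add_zero]
      split_ifs with e
      · simp only [Matrix.mul_apply, transpose_apply, Finset.mul_sum]
        rw [add_assoc]
        congr 1
        rw [add_comm]
        congr 1
        · exact Finset.sum_congr rfl fun c _ => by ring
        · exact Finset.sum_congr rfl fun c _ => by ring
      · simp
    have hsum : M + G * Cᵀ + (-1 : F) ^ δ • (C * G) = 0 := by
      have hGC : G * Cᵀ = (-(2⁻¹ : F)) • M := by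
        simp only [C, transpose_smul, transpose_transpose, Matrix.mul_smul]
        rw [← Matrix.mul_assoc, Matrix.mul_nonsing_inv _ hGd, Matrix.one_mul]
      have hCG : C * G = (-(2⁻¹ : F) * (-1) ^ (j₀ + n)) • M := by
        have hGinv : (G⁻¹)ᵀ = (-1 : F) ^ (n + 1) • G⁻¹ := by
          rw [Matrix.transpose_nonsing_inv, hGs]
          refine Matrix.inv_eq_left_inv ?_
          rw [Matrix.smul_mul, Matrix.mul_smul, Matrix.nonsing_inv_mul _ hGd, smul_smul, ← pow_add,
            ← two_mul, (even_two_mul (n + 1)).neg_one_pow, one_smul]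
        simp only [C, transpose_mul, hMs, hGinv, Matrix.smul_mul, Matrix.mul_smul, smul_smul, Matrix.mul_assoc,
          Matrix.nonsing_inv_mul _ hGd, Matrix.mul_one]
        congr 1
        rw [← pow_add]
        congr 1
        rw [show n + 1 + (j₀ + 1) = j₀ + n + 2 by ring, pow_add, neg_one_sq, mul_one]
      rw [hGC, hCG, smul_smul, ← mul_assoc, mul_comm ((-1 : F) ^ δ), mul_assoc, ← pow_add,
        show δ + (j₀ + n) = 2 * n by omega, (even_two_mul n).neg_one_pow, mul_one]
      conv_lhs => rw [← one_smul F M]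
      rw [smul_smul, mul_one, ← add_smul, ← add_smul, show (1 : F) + -2⁻¹ + -2⁻¹ = 0 by field_simp; ring,
        zero_smul]
    refine ⟨x', fun a => (hN' a).trans (hxN a), fun a b => ?_, fun j h1 h2' a b => ?_⟩
    · rw [hexp a b n (by omega), if_neg (by omega), add_zero, hxG]
    · rw [hexp a b j h1]
      split_ifs with e
      · have := congrFun (congrFun hsum a) b
        simp only [Matrix.add_apply, Matrix.smul_apply, smul_eq_mul, Matrix.zero_apply, M, Matrix.of_apply] at this
        rw [e]; linear_combination this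
      · rw [add_zero]; exact hxj j (by omega) h2' a b

universe u v

/-- Every nilpotent skew endomorphism has a frame. -/
theorem exists_frame {F : Type u} [Field F] (h2 : (2 : F) ≠ 0) (n : ℕ) :
    ∀ (V : Type v) [AddCommGroup V] [Module F V] [FiniteDimensional F V] (B : LinearMap.BilinForm F V)
      (N : Module.End F V), SkewData B N → (∀ v, (N ^ n) v = 0) →
      ∃ (ι : Type) (_ : Fintype ι) (_ : DecidableEq ι) (h : ι → ℕ) (G : Matrix ι ι F) (x : ι → V),
        Frame B N n h G x := by
  classical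
  induction n with
  | zero =>
    intro V _ _ _ B N _ hN
    have : Subsingleton V := ⟨fun a b => by simpa using (hN a).trans (hN b).symm⟩
    exact ⟨Empty, inferInstance, inferInstance, Empty.elim, 0, Empty.elim,
      ⟨fun a => a.elim, fun a => a.elim, fun a => a.elim, fun a => a.elim, isUnit_of_subsingleton _,
        by simp [Module.finrank_zero_of_subsingleton]⟩⟩
  | succ n ih =>
    intro V _ _ _ B N hd hN
    let K := LinearMap.ker (N ^ n)
    obtain ⟨X, hX⟩ := K.exists_isCompl
    let r := Module.finrank F X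
    let b := Module.finBasis F X
    let x₀ : Fin r → V := fun a => (b a : V)
    let G : Matrix (Fin r) (Fin r) F := Matrix.of fun a c => B (x₀ a) ((N ^ n) (x₀ c))
    have hdec : ∀ v, ∃ (k : V) (c : Fin r → F), k ∈ K ∧ v = k + ∑ a, c a • x₀ a := fun v => by
      obtain ⟨k, hk, y, hy, rfl⟩ := Submodule.mem_sup.1 (hX.sup_eq_top ▸ Submodule.mem_top (x := v))
      refine ⟨k, b.repr ⟨y, hy⟩, hk, ?_⟩
      have := congrArg Subtype.val (b.sum_repr ⟨y, hy⟩)
      simp only [Submodule.coe_sum, Submodule.coe_smul] at this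
      exact congrArg _ this.symm
    have hKz : ∀ k ∈ K, ∀ y, B k ((N ^ n) y) = 0 := fun k hk y => by
      have h1 := hd.pow_apply n k y
      rw [LinearMap.mem_ker.1 hk, LinearMap.map_zero, LinearMap.zero_apply] at h1
      exact (mul_eq_zero.1 h1.symm).resolve_left (pow_ne_zero _ (neg_ne_zero.2 one_ne_zero))
    have hG : IsUnit G := by
      rw [← Matrix.mulVec_injective_iff_isUnit]
      intro c c' hcc
      rw [← sub_eq_zero]
      let z := ∑ a, (c - c') a • x₀ a
      have hz : (N ^ n) z = 0 := hd.nondeg _ fun y => by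
        rw [hd.swap]
        obtain ⟨k, e, hk, rfl⟩ := hdec y
        rw [map_add, LinearMap.add_apply, hKz k hk, zero_add, map_sum, LinearMap.sum_apply, neg_eq_zero]
        refine Finset.sum_eq_zero fun a _ => ?_
        rw [map_smul, LinearMap.smul_apply]
        have h0 : (G *ᵥ (c - c')) a = 0 := by rw [mulVec_sub, Pi.sub_apply, sub_eq_zero]; exact congrFun hcc a
        rw [show B (x₀ a) ((N ^ n) z) = (G *ᵥ (c - c')) a by
          simp [z, G, mulVec, dotProduct, map_sum, mul_comm], h0, smul_zero]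
      have hzX : z ∈ X := Submodule.sum_mem _ fun a _ => Submodule.smul_mem _ _ (b a).2
      have hz0 : z = 0 := (Submodule.mem_bot F).1 (hX.inf_eq_bot ▸ ⟨LinearMap.mem_ker.2 hz, hzX⟩)
      exact funext (Fintype.linearIndependent_iff.1 (b.linearIndependent.map' X.subtype X.ker_subtype) _ hz0)
    obtain ⟨x, hxN, hxG, hxj⟩ := exists_clean hd h2 hN x₀ G hG (fun a c => rfl) n le_rfl
    have hpair : ∀ (a c : Fin r) (i j : ℕ), B ((N ^ i) (x a)) ((N ^ j) (x c)) =
        if i + j = n then (-1) ^ i * G a c else 0 := fun a c i j => by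
      rw [hd.pow_apply, ← Module.End.mul_apply, ← pow_add]
      rcases lt_trichotomy (i + j) n with hl | he | hg
      · rw [hxj _ (by omega) hl, if_neg (by omega), mul_zero]
      · rw [he, hxG, if_pos rfl]
      · rw [pow_kill (hN _) hg, map_zero, mul_zero, if_neg (by omega)]
    let y : Fin r × Fin (n + 1) → V := fun p => (N ^ (p.2 : ℕ)) (x p.1)
    let W := Submodule.span F (Set.range y)
    have hW : ∀ c : Fin r × Fin (n + 1) → F, (∀ p, B (y p) (∑ q, c q • y q) = 0) → c = 0 := by
      intro c hc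
      funext ⟨a, j⟩
      have h1 : G *ᵥ (fun a' => c (a', j)) = 0 := by
        funext a'
        have h := hc (a', j.rev)
        simp only [y, map_sum, map_smul, smul_eq_mul, hpair] at h
        rw [Fintype.sum_prod_type] at h
        rw [Finset.sum_congr rfl fun a'' _ => Finset.sum_eq_single_of_mem j (Finset.mem_univ _) (fun i _ hi => by
          rw [if_neg (fun e => hi (Fin.ext (by simp [Fin.val_rev] at e; omega))), mul_zero])] at h
        simp only [Fin.val_rev, if_pos (show n + 1 - ((j : ℕ) + 1) + (j : ℕ) = n by omega)] at h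
        rw [Finset.sum_congr rfl (g := fun a'' => (-1 : F) ^ (n + 1 - ((j : ℕ) + 1)) * (G a' a'' * c (a'', j)))
          fun a'' _ => by ring, ← Finset.mul_sum] at h
        exact (mul_eq_zero.1 h).resolve_left (pow_ne_zero _ (neg_ne_zero.2 one_ne_zero))
      exact congrFun (Matrix.mulVec_injective_iff_isUnit.2 hG (h1.trans (mulVec_zero G).symm)) a
    have hyi : LinearIndependent F y := Fintype.linearIndependent_iff.2 fun c hc q =>
      congrFun (hW c fun p => by rw [hc, map_zero]) q
    have hrefl : B.IsRefl := fun u v h => by rw [hd.swap, h, neg_zero]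
    have hWU : IsCompl W (B.orthogonal W) := by
      refine LinearMap.BilinForm.isCompl_orthogonal_of_restrict_nondegenerate hrefl ?_
      have hsep : ∀ w : W, (∀ w' : W, B (w' : V) (w : V) = 0) → w = 0 := by
        rintro ⟨w, hw⟩ hh
        obtain ⟨c, rfl⟩ := (Submodule.mem_span_range_iff_exists_fun F).1 hw
        have := hW c fun p => hh ⟨y p, Submodule.subset_span ⟨p, rfl⟩⟩
        exact Subtype.ext (by simp [this])
      exact ⟨fun w hw => hsep w fun w' => hrefl _ _ (hw w'), fun w hw => hsep w hw⟩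
    let U := B.orthogonal W
    have hWN : ∀ w ∈ W, N w ∈ W := fun w hw => by
      obtain ⟨c, rfl⟩ := (Submodule.mem_span_range_iff_exists_fun F).1 hw
      rw [map_sum]
      refine Submodule.sum_mem _ fun p _ => ?_
      rw [map_smul]
      refine Submodule.smul_mem _ _ ?_
      show N ((N ^ (p.2 : ℕ)) (x p.1)) ∈ W
      rw [← Module.End.mul_apply, ← pow_succ']
      rcases (Nat.lt_succ_iff.1 p.2.2).lt_or_eq with hlt | heq
      · exact Submodule.subset_span ⟨(p.1, ⟨(p.2 : ℕ) + 1, by omega⟩), rfl⟩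
      · rw [heq, hN]; exact Submodule.zero_mem _
    have hUN : ∀ u ∈ U, N u ∈ U := fun u hu w hw => by
      show B w (N u) = 0
      have h1 := hd.skew w u
      rw [show B (N w) u = 0 from hu _ (hWN w hw)] at h1
      exact neg_eq_zero.1 h1.symm
    let N' : Module.End F U := N.restrict hUN
    let B' : LinearMap.BilinForm F U := B.restrict U
    have hN'p : ∀ (i : ℕ) (u : U), (((N' ^ i) u : U) : V) = (N ^ i) (u : V) := fun i u => by
      induction i with
      | zero => simp
      | succ i ih => rw [pow_succ', pow_succ', Module.End.mul_apply, Module.End.mul_apply, ← ih]; rfl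
    have hN'n : ∀ u, (N' ^ n) u = 0 := fun u => Subtype.ext <| by
      rw [hN'p, Submodule.coe_zero]
      refine hd.nondeg _ fun v => ?_
      rw [hd.swap]
      obtain ⟨k, c, hk, rfl⟩ := hdec v
      rw [map_add, LinearMap.add_apply, hKz k hk, zero_add, map_sum, LinearMap.sum_apply, neg_eq_zero]
      refine Finset.sum_eq_zero fun a _ => ?_
      rw [map_smul, LinearMap.smul_apply]
      have h1 : B ((N ^ n) (x₀ a)) (u : V) = 0 := by
        rw [← hxN]
        exact u.2 _ (Submodule.subset_span ⟨(a, Fin.last n), rfl⟩)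
      rw [hd.pow_apply] at h1
      rw [(mul_eq_zero.1 h1).resolve_left (pow_ne_zero _ (neg_ne_zero.2 one_ne_zero)), smul_zero]
    have hd' : SkewData B' N' := by
      refine ⟨fun u => hd.alt _, fun u hu => Subtype.ext (hd.nondeg _ fun v => ?_), fun u v => hd.skew _ _⟩
      obtain ⟨w, hw, u', hu', rfl⟩ := Submodule.mem_sup.1 (hWU.sup_eq_top ▸ Submodule.mem_top (x := v))
      rw [map_add, show B (u : V) w = 0 from hrefl _ _ (u.2 w hw), zero_add]
      exact hu ⟨u', hu'⟩
    obtain ⟨ι, _, _, h, G', z, hz⟩ := ih U B' N' hd' hN'n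
    refine ⟨ι ⊕ Fin r, inferInstance, inferInstance, Sum.elim h (fun _ => n), Matrix.fromBlocks G' 0 0 G,
      Sum.elim (fun a => (z a : V)) x, ⟨?_, ?_, ?_, ?_, ?_, ?_⟩⟩
    · rintro (a | a)
      · exact (hz.lt a).trans (Nat.lt_succ_self n)
      · exact Nat.lt_succ_self n
    · rintro (a | a)
      · show (N ^ (h a + 1)) (z a : V) = 0
        rw [← hN'p, hz.kill]; rfl
      · exact hN _
    · have hUW : ∀ (u : U) (j : ℕ) (a : Fin r), B (x a) ((N ^ j) (u : V)) = 0 := fun u j a => by
        rw [← hN'p]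
        exact ((N' ^ j) u).2 _ (Submodule.subset_span ⟨(a, 0), by simp [y]⟩)
      rintro (a | a) (c | c) j
      · show B (z a : V) ((N ^ j) (z c : V)) = if h a = h c ∧ j = h c then G' a c else 0
        rw [← hz.pair a c j, ← hN'p]; rfl
      · show B (z a : V) ((N ^ j) (x c)) = if h a = n ∧ j = n then (0 : F) else 0
        rw [hd.pow_self_symm, hUW, mul_zero, ite_self]
      · show B (x a) ((N ^ j) (z c : V)) = if n = h c ∧ j = h c then (0 : F) else 0
        rw [hUW, ite_self]
      · show B (x a) ((N ^ j) (x c)) = if n = n ∧ j = n then G a c else 0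
        simpa using hpair a c 0 j
    · rintro (a | a) (c | c) hne
      · exact hz.block a c hne
      · rfl
      · rfl
      · exact absurd rfl hne
    · rw [Matrix.isUnit_iff_isUnit_det, Matrix.det_fromBlocks_zero₂₁]
      exact ((Matrix.isUnit_iff_isUnit_det _).1 hz.unit).mul ((Matrix.isUnit_iff_isUnit_det _).1 hG)
    · rw [← Submodule.finrank_add_eq_of_isCompl hWU, finrank_span_eq_card hyi, hz.card, Fintype.sum_sum_type]
      simp [add_comm]

/-- The model space. -/
theorem exists_model {n : ℕ} {ι : Type} [Fintype ι] [DecidableEq ι] (h : ι → ℕ) (G : Matrix ι ι F)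
    (hlt : ∀ a, h a < n) (hblock : ∀ a b, h a ≠ h b → G a b = 0) (hG : IsUnit G)
    (hsym : ∀ a b, G b a = (-1) ^ (h a + 1) * G a b) (hdiag : ∀ a, Even (h a) → G a a = 0) :
    ∃ (B : LinearMap.BilinForm F (((a : ι) × Fin (h a + 1)) → F))
      (N : Module.End F (((a : ι) × Fin (h a + 1)) → F)) (x : ι → ((a : ι) × Fin (h a + 1)) → F),
      SkewData B N ∧ Frame B N n h G x := by
  let M : Matrix ((a : ι) × Fin (h a + 1)) ((a : ι) × Fin (h a + 1)) F := Matrix.of fun p p' =>
    if h p.1 = h p'.1 ∧ (p.2 : ℕ) + (p'.2 : ℕ) = h p'.1 then (-1) ^ (p.2 : ℕ) * G p.1 p'.1 else 0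
  let S : Matrix ((a : ι) × Fin (h a + 1)) ((a : ι) × Fin (h a + 1)) F := Matrix.of fun p p' =>
    if p.1 = p'.1 ∧ (p.2 : ℕ) = (p'.2 : ℕ) + 1 then 1 else 0
  let B := Matrix.toBilin' M
  let N := Matrix.toLin' S
  let e : ((a : ι) × Fin (h a + 1)) → (((a : ι) × Fin (h a + 1)) → F) := fun p => Pi.single p 1
  have hBe : ∀ p p', B (e p) (e p') = M p p' := fun p p' => Matrix.toBilin'_single M p p'
  have hNe : ∀ p, N (e p) = if hp : (p.2 : ℕ) + 1 ≤ h p.1 then e ⟨p.1, ⟨(p.2 : ℕ) + 1, by omega⟩⟩ else 0 := by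
    rintro ⟨a, j⟩
    funext ⟨a', j'⟩
    simp only [N, e, Matrix.toLin'_apply, Matrix.mulVec_single_one]
    by_cases hp : (j : ℕ) + 1 ≤ h a
    · rw [dif_pos hp]
      by_cases ha : a' = a
      · subst ha
        simp [S, Pi.single_apply, Fin.ext_iff]
      · simp [S, ha]
    · rw [dif_neg hp]
      by_cases ha : a' = a
      · subst ha
        simp [S]
        omega
      · simp [S, ha]
  have hpow : ∀ a j, (N ^ j) (e ⟨a, 0⟩) = if hj : j ≤ h a then e ⟨a, ⟨j, by omega⟩⟩ else 0 := by
    intro a j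
    induction j with
    | zero => simp
    | succ j ih =>
      rw [pow_succ', Module.End.mul_apply, ih]
      by_cases hj : j ≤ h a
      · rw [dif_pos hj, hNe]
      · rw [dif_neg hj, dif_neg (by omega), map_zero]
  have hMt : ∀ p p', M p' p = -M p p' := by
    rintro ⟨a, i⟩ ⟨b, j⟩
    simp only [M, Matrix.of_apply]
    by_cases hab : h a = h b ∧ (i : ℕ) + (j : ℕ) = h b
    · rw [if_pos hab, if_pos ⟨hab.1.symm, by omega⟩, hsym a b, ← mul_assoc, ← pow_add,
        show (j : ℕ) + (h a + 1) = (i : ℕ) + 1 + 2 * (j : ℕ) by omega, pow_add, pow_mul, neg_one_sq, one_pow,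
        mul_one, pow_succ]
      ring
    · rw [if_neg hab, if_neg (fun hc => hab ⟨hc.1.symm, by omega⟩), neg_zero]
  have hMd : ∀ p, M p p = 0 := by
    rintro ⟨a, i⟩
    simp only [M, Matrix.of_apply]
    split_ifs with hc
    · rw [hdiag a ⟨i, hc.2.symm⟩, mul_zero]
    · rfl
  refine ⟨B, N, fun a => e ⟨a, 0⟩, ⟨fun v => ?_, fun v hv => ?_, fun u v => ?_⟩, ?_⟩
  · show Matrix.toBilin' M v v = 0
    rw [Matrix.toBilin'_apply]
    rw [← Fintype.sum_prod_type']
    refine Finset.sum_involution (fun p _ => (p.2, p.1)) (fun p _ => ?_) (fun p _ h0 hp => ?_)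
      (fun p _ => Finset.mem_univ _) (fun p _ => rfl)
    · rw [hMt p.1 p.2]; ring
    · exact h0 (by rw [show p.2 = p.1 from congrArg Prod.fst hp, hMd]; ring)
  · funext ⟨a₀, j₀⟩
    have h1 : G *ᵥ (fun a => if ha : h a = h a₀ then v ⟨a, Fin.cast (by rw [ha]) j₀⟩ else 0) = 0 := by
      funext b
      by_cases hb : h b = h a₀
      · have h2 := hv (e ⟨b, Fin.cast (by rw [hb]) j₀.rev⟩)
        rw [show B v (e ⟨b, Fin.cast (by rw [hb]) j₀.rev⟩) =
          ∑ p, v p * M p ⟨b, Fin.cast (by rw [hb]) j₀.rev⟩ from by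
            simp [B, e, Matrix.toBilin'_apply, Pi.single_apply]] at h2
        rw [Fintype.sum_sigma] at h2
        rw [Finset.sum_congr rfl (g := fun a => (-1) ^ (j₀ : ℕ) * ((-1 : F) ^ (h a₀ + 1) *
          (G b a * (if ha : h a = h a₀ then v ⟨a, Fin.cast (by rw [ha]) j₀⟩ else 0)))) ?_] at h2
        · rw [← Finset.mul_sum, ← Finset.mul_sum] at h2
          exact ((mul_eq_zero.1 ((mul_eq_zero.1 h2).resolve_left
            (pow_ne_zero _ (neg_ne_zero.2 one_ne_zero)))).resolve_left
            (pow_ne_zero _ (neg_ne_zero.2 one_ne_zero)))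
        intro a _
        by_cases ha : h a = h a₀
        · rw [dif_pos ha, Finset.sum_eq_single (Fin.cast (by rw [ha]) j₀)]
          · simp only [M, Matrix.of_apply, Fin.val_cast, Fin.val_rev]
            rw [if_pos ⟨ha.trans hb.symm, by omega⟩, hsym b a, hb]
            ring
          · intro j _ hj
            simp only [M, Matrix.of_apply, Fin.val_cast, Fin.val_rev]
            rw [if_neg, mul_zero]
            rintro ⟨-, e2⟩
            exact hj (Fin.ext (by simp only [Fin.val_cast]; omega))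
          · simp
        · rw [dif_neg ha, mul_zero, mul_zero, mul_zero]
          refine Finset.sum_eq_zero fun j _ => ?_
          simp only [M, Matrix.of_apply]
          rw [if_neg fun hc => ha (hc.1.trans hb), mul_zero]
      · refine Finset.sum_eq_zero fun a _ => ?_
        by_cases ha : h a = h a₀
        · simp [hblock b a fun e => hb (e.trans ha)]
        · simp [ha]
    simpa using congrFun (Matrix.mulVec_injective_iff_isUnit.2 hG (h1.trans (mulVec_zero G).symm)) a₀
  · have key : B.compl₁₂ N LinearMap.id = -(B.compl₁₂ LinearMap.id N) := by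
      refine (Pi.basisFun F _).ext fun p => (Pi.basisFun F _).ext fun p' => ?_
      rw [Pi.basisFun_apply, Pi.basisFun_apply]
      simp only [LinearMap.compl₁₂_apply, LinearMap.neg_apply, LinearMap.id_apply]
      rw [show (Pi.single p (1 : F)) = e p from rfl, show (Pi.single p' (1 : F)) = e p' from rfl, hNe, hNe]
      obtain ⟨a, i⟩ := p
      obtain ⟨b, j⟩ := p'
      dsimp only
      split_ifs with h1 h1' h1' <;> simp only [hBe, map_zero, LinearMap.zero_apply, M, Matrix.of_apply]
      · by_cases hab : h a = h b ∧ (i : ℕ) + 1 + (j : ℕ) = h b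
        · rw [if_pos hab, if_pos ⟨hab.1, by omega⟩, pow_succ]; ring
        · rw [if_neg hab, if_neg (fun hc => hab ⟨hc.1, by omega⟩), neg_zero]
      · rw [if_neg (by omega), neg_zero]
      · rw [if_neg (by omega), neg_zero]
      · simp
    exact LinearMap.congr_fun (LinearMap.congr_fun key u) v
  · refine ⟨hlt, fun a => ?_, fun a b j => ?_, hblock, hG, by simp⟩
    · rw [hpow, dif_neg (by omega)]
    · rw [hpow]
      split_ifs with hj hc hc
      · rw [hBe]; simp [M, hc]
      · rw [hBe]; exact if_neg fun e => hc ⟨e.1, (Nat.zero_add j).symm.trans e.2⟩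
      · omega
      · exact map_zero _

end H44.SkewFrame
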