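import Cfsg.Agent.H44.Classes
import Cfsg.Agent.H44.Correspond

/-!
The standard maximal totally singular subspace of the hyperbolic form.
-/

set_option autoImplicit false

namespace H44

open H43 Matrix

theorem plus_half_singular {F : Type*} [Field F] (m : ℕ) :
    ∀ u ∈ LinearMap.ker (LinearMap.funLeft F F (Sum.inr : Fin m → Fin m ⊕ Fin m)),
      qPlus m F u = 0 := by
  intro u hu
  have h : ∀ i, u (Sum.inr i) = 0 := fun i => congrFun (LinearMap.mem_ker.1 hu) i
  simp [coe_qPlus, Cfsg.quadFormPlus, h]

theorem plus_half_finrank {F : Type*} [Field F] (m : ℕ) :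
    Module.finrank F (LinearMap.ker (LinearMap.funLeft F F (Sum.inr : Fin m → Fin m ⊕ Fin m))) = m := by
  have h2 := (LinearMap.funLeft F F (Sum.inr : Fin m → Fin m ⊕ Fin m)).finrank_range_add_finrank_ker
  rw [LinearMap.range_eq_top.2 (LinearMap.funLeft_surjective_of_injective F F _ Sum.inr_injective),
    finrank_top, Module.finrank_fintype_fun_eq_card, Module.finrank_fintype_fun_eq_card] at h2
  simp at h2
  omega

end H44
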