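import Cfsg.Agent.H43.MaxSing
import Cfsg.Agent.H43.Restrict
import Cfsg.Agent.H43.Bridge
import Cfsg.Agent.H44.StdHalf

/-!
Sylow 2-subgroups of hyperbolic orthogonal groups over the field of two elements intersect non-trivially.
-/

set_option autoImplicit false

namespace H44

open H43

variable {F : Type*} [Field F] {V : Type*} [AddCommGroup V] [Module F V] [FiniteDimensional F V]
  {Q : QuadraticForm F V}

/-- The isometries fixing a subspace pointwise. -/
def pointStab (Q : QuadraticForm F V) (W : Submodule F V) : Subgroup (orthGroup Q) where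
  carrier := {g | ∀ w ∈ W, g.1 w = w}
  mul_mem' {a b} ha hb := fun w hw => by rw [orth_mul_apply, hb w hw, ha w hw]
  one_mem' := fun w _ => rfl
  inv_mem' {a} ha := fun w hw => by
    conv_lhs => rw [← ha w hw]
    rw [orth_inv_apply_self]

/-- A 2-group fixes a non-zero class in a quotient of stable subspaces. -/
theorem exists_fixed_class [Finite F] (hcard : Nat.card F = 2) {H : Subgroup (orthGroup Q)}
    (hH : IsPGroup 2 H) (W A : Submodule F V) (hWA : W < A)
    (hW : ∀ h ∈ H, ∀ w ∈ W, h.1 w ∈ W) (hA : ∀ h ∈ H, ∀ a ∈ A, h.1 a ∈ A) :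
    ∃ x ∈ A, x ∉ W ∧ ∀ h ∈ H, h.1 x - x ∈ W := by
  classical
  haveI : Finite V := Module.finite_of_finite F
  haveI : Finite (V ⧸ W) := Finite.of_surjective _ (Submodule.mkQ_surjective W)
  set A' := A.map W.mkQ with hA'
  let φ : H → ((V ⧸ W) →ₗ[F] (V ⧸ W)) := fun h =>
    W.mapQ W (h.1.1 : V →ₗ[F] V) (fun w hw => hW h.1 h.2 w hw)
  have hφ : ∀ (h : H) (v : V), φ h (W.mkQ v) = W.mkQ (h.1.1 v) := fun h v => rfl
  have hmem : ∀ (h : H) (c : A'), φ h c.1 ∈ A' := fun h c => by
    obtain ⟨a, ha, he⟩ := c.2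
    rw [← he, hφ]
    exact Submodule.mem_map_of_mem (hA h.1 h.2 a ha)
  letI : MulAction H A' :=
    { smul := fun h c => ⟨φ h c.1, hmem h c⟩
      one_smul := fun c => Subtype.ext (by
        show φ 1 c.1 = c.1
        obtain ⟨v, hv⟩ := W.mkQ_surjective c.1
        rw [← hv, hφ]; rfl)
      mul_smul := fun a b c => Subtype.ext (by
        show φ (a * b) c.1 = φ a (φ b c.1)
        obtain ⟨v, hv⟩ := W.mkQ_surjective c.1
        rw [← hv, hφ, hφ, hφ]; rfl) }
  haveI : Fact (Nat.Prime 2) := ⟨Nat.prime_two⟩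
  have hpos : 0 < Module.finrank F A' := by
    obtain ⟨a, ha, haW⟩ := SetLike.exists_of_lt hWA
    rw [Nat.pos_iff_ne_zero]
    intro h0
    rw [Submodule.finrank_eq_zero] at h0
    exact haW ((Submodule.Quotient.mk_eq_zero W).1
      ((Submodule.mem_bot F).1 (h0 ▸ Submodule.mem_map_of_mem ha)))
  have hdvd : 2 ∣ Nat.card A' := by
    rw [Module.natCard_eq_pow_finrank (K := F), hcard]
    exact dvd_pow_self 2 hpos.ne'
  have hfix : (0 : A') ∈ MulAction.fixedPoints H A' := fun h => Subtype.ext (map_zero (φ h))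
  obtain ⟨c, hc, hc0⟩ := hH.exists_fixed_point_of_prime_dvd_card_of_fixed_point A' hdvd hfix
  obtain ⟨a, ha, hac⟩ := c.2
  refine ⟨a, ha, fun haW => hc0 (Subtype.ext ?_), fun h hh => ?_⟩
  · show (0 : V ⧸ W) = c.1
    rw [← hac, Submodule.mkQ_apply, (Submodule.Quotient.mk_eq_zero W).2 haW]
  · have h1 : φ ⟨h, hh⟩ c.1 = c.1 := congrArg Subtype.val (hc ⟨h, hh⟩)
    rw [← hac, hφ, Submodule.mkQ_apply, Submodule.mkQ_apply, Submodule.Quotient.eq] at h1
    exact h1

theorem eq_zero_or_one [Finite F] (hcard : Nat.card F = 2) (a : F) : a = 0 ∨ a = 1 := by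
  haveI := Fintype.ofFinite F
  rw [Nat.card_eq_fintype_card] at hcard
  by_contra hcon
  push Not at hcon
  classical
  have := Finset.card_le_univ ({0, 1, a} : Finset F)
  rw [hcard, Finset.card_insert_of_notMem (by simp [hcon.1.symm]),
    Finset.card_pair hcon.2.symm] at this
  omega

theorem two_zero_of_card [Finite F] (hcard : Nat.card F = 2) : (2 : F) = 0 := by
  rcases eq_zero_or_one hcard (2 : F) with h | h
  · exact h
  · exact absurd (by linear_combination h : (1 : F) = 0) one_ne_zero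

/-- The step of the flag: a stable singular subspace of small dimension extends. -/
theorem exists_stable_step [Finite F] (hcard : Nat.card F = 2) (hQ : (polB Q).Nondegenerate) {m k : ℕ}
    (hV : Module.finrank F V = 2 * m) (hk : k + 2 ≤ m) {H : Subgroup (orthGroup Q)} (hH : IsPGroup 2 H)
    (W : Submodule F V) (hWk : Module.finrank F W = k) (hWs : ∀ w ∈ W, Q w = 0)
    (hW : ∀ h ∈ H, ∀ w ∈ W, h.1 w ∈ W) :
    ∃ W' : Submodule F V, Module.finrank F W' = k + 1 ∧ (∀ w ∈ W', Q w = 0) ∧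
      ∀ h ∈ H, ∀ w ∈ W', h.1 w ∈ W' := by
  set A := (polB Q).orthogonal W with hAdef
  have hWA : W ≤ A := fun x hx y hy => polB_eq_zero_of_singular hWs hy hx
  have hAfr : Module.finrank F A + Module.finrank F W = Module.finrank F V := finrank_orth_add hQ W
  have hAst : ∀ h ∈ H, ∀ a ∈ A, h.1 a ∈ A := fun h hh a ha w hw => by
    have h1 : (h⁻¹).1 w ∈ W := hW _ (H.inv_mem hh) w hw
    show polB Q w (h.1 a) = 0
    rw [← orth_apply_inv_self h w, orth_polB_map]
    exact ha _ h1
  have hperp : ∀ {a w : V}, a ∈ A → w ∈ W → polB Q a w = 0 := fun {a w} ha hw => by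
    rw [polB_comm]; exact ha w hw
  have mk : ∀ z ∈ A, z ∉ W → Q z = 0 → (∀ h ∈ H, h.1 z - z ∈ W) →
      ∃ W' : Submodule F V, Module.finrank F W' = k + 1 ∧ (∀ w ∈ W', Q w = 0) ∧
        ∀ h ∈ H, ∀ w ∈ W', h.1 w ∈ W' := by
    intro z hzA hzW hQz hzH
    have hle : Module.finrank F (W ⊔ F ∙ z : Submodule F V) = k + 1 := by
      have h1 := Submodule.finrank_sup_add_finrank_inf_eq W (F ∙ z)
      have hz0 : z ≠ 0 := fun e => hzW (e ▸ W.zero_mem)
      have h2 : W ⊓ F ∙ z = ⊥ := by
        rw [eq_bot_iff]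
        rintro a ⟨ha, hb⟩
        obtain ⟨t, rfl⟩ := Submodule.mem_span_singleton.1 hb
        by_cases ht : t = 0
        · simp [ht]
        · exact absurd ((W.smul_mem_iff ht).1 ha) hzW
      rw [h2, finrank_bot, hWk, finrank_span_singleton hz0] at h1
      omega
    refine ⟨W ⊔ F ∙ z, hle, fun u hu => ?_, fun h hh u hu => ?_⟩
    · obtain ⟨w, hw, b, hb, rfl⟩ := Submodule.mem_sup.1 hu
      obtain ⟨t, rfl⟩ := Submodule.mem_span_singleton.1 hb
      rw [qmap_add_smul, hWs w hw, hQz, polB_comm, hperp hzA hw]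
      ring
    · obtain ⟨w, hw, b, hb, rfl⟩ := Submodule.mem_sup.1 hu
      obtain ⟨t, rfl⟩ := Submodule.mem_span_singleton.1 hb
      rw [map_add, map_smul, show h.1 z = (h.1 z - z) + z by abel, smul_add, ← add_assoc]
      exact Submodule.add_mem_sup (W.add_mem (hW h hh w hw) (W.smul_mem t (hzH h hh)))
        (Submodule.smul_mem _ t (Submodule.mem_span_singleton_self z))
  obtain ⟨x, hxA, hxW, hxH⟩ := exists_fixed_class hcard hH W A
    (lt_of_le_of_ne hWA (fun e => by rw [← e] at hAfr; omega)) hW hAst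
  rcases eq_zero_or_one hcard (Q x) with hQx | hQx
  · exact mk x hxA hxW hQx hxH
  -- a non-singular fixed class: go on inside its orthogonal
  have h2 := two_zero_of_card hcard
  have hxx : polB Q x x = 0 := by rw [polB_self, h2, zero_mul]
  set A₂ := A ⊓ (polB Q).orthogonal (F ∙ x) with hA₂
  set W₂ := W ⊔ F ∙ x with hW₂
  have hA₂mem : ∀ {y : V}, y ∈ A₂ ↔ y ∈ A ∧ polB Q x y = 0 := fun {y} => by
    refine and_congr_right fun _ => ⟨fun h => h x (Submodule.mem_span_singleton_self x), fun h z hz => ?_⟩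
    obtain ⟨t, rfl⟩ := Submodule.mem_span_singleton.1 hz
    show polB Q (t • x) y = 0
    rw [map_smul, LinearMap.smul_apply, h, smul_zero]
  have hW₂A₂ : W₂ ≤ A₂ := sup_le (fun w hw => hA₂mem.2 ⟨hWA hw, hperp hxA hw⟩)
    ((Submodule.span_singleton_le_iff_mem _ _).2 (hA₂mem.2 ⟨hxA, hxx⟩))
  have hlt : W₂ < A₂ := by
    refine lt_of_le_of_ne hW₂A₂ (fun e => ?_)
    have h3 : Module.finrank F A ≤ Module.finrank F A₂ + 1 := by
      have h4 := Submodule.finrank_sup_add_finrank_inf_eq A ((polB Q).orthogonal (F ∙ x))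
      have h5 := Submodule.finrank_le (A ⊔ (polB Q).orthogonal (F ∙ x))
      have h6 := finrank_orth_add hQ (F ∙ x)
      have h7 := finrank_span_le_card (R := F) ({x} : Set V)
      simp at h7
      rw [← hA₂] at h4
      omega
    have h8 : Module.finrank F W₂ ≤ k + 1 := by
      refine (Submodule.finrank_add_le_finrank_add_finrank W (F ∙ x)).trans ?_
      have := finrank_span_le_card (R := F) ({x} : Set V)
      simp at this
      omega
    rw [← e] at h3
    omega
  have hst₂ : ∀ h ∈ H, ∀ u ∈ W₂, h.1 u ∈ W₂ := fun h hh u hu => by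
    obtain ⟨w, hw, b, hb, rfl⟩ := Submodule.mem_sup.1 hu
    obtain ⟨t, rfl⟩ := Submodule.mem_span_singleton.1 hb
    rw [map_add, map_smul, show h.1 x = (h.1 x - x) + x by abel, smul_add, ← add_assoc]
    exact Submodule.add_mem_sup (W.add_mem (hW h hh w hw) (W.smul_mem t (hxH h hh)))
      (Submodule.smul_mem _ t (Submodule.mem_span_singleton_self x))
  have hst₂A : ∀ h ∈ H, ∀ u ∈ A₂, h.1 u ∈ A₂ := fun h hh u hu => by
    obtain ⟨hu1, hu2⟩ := hA₂mem.1 hu
    refine hA₂mem.2 ⟨hAst h hh u hu1, ?_⟩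
    have e : polB Q (h.1 x - x) (h.1 u) = 0 := hAst h hh u hu1 _ (hxH h hh)
    rw [map_sub, LinearMap.sub_apply, orth_polB_map, hu2] at e
    linear_combination -e
  obtain ⟨y, hyA, hyW, hyH⟩ := exists_fixed_class hcard hH W₂ A₂ hlt hst₂ hst₂A
  obtain ⟨z, hz, hzy, hQz⟩ : ∃ z ∈ A₂, z - y ∈ W₂ ∧ Q z = 0 := by
    rcases eq_zero_or_one hcard (Q y) with hQy | hQy
    · exact ⟨y, hyA, by simp, hQy⟩
    · refine ⟨y + x, A₂.add_mem hyA (hA₂mem.2 ⟨hxA, hxx⟩), ?_, ?_⟩
      · simpa using Submodule.mem_sup_right (S := W) (Submodule.mem_span_singleton_self x)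
      · rw [qmap_add, hQy, hQx, polB_comm, (hA₂mem.1 hyA).2]
        linear_combination h2
  have hzW : z ∉ W₂ := fun h => hyW (by simpa using W₂.sub_mem h hzy)
  refine mk z (hA₂mem.1 hz).1 (fun h => hzW (Submodule.mem_sup_left h)) hQz (fun h hh => ?_)
  have hd : h.1 z - z ∈ W₂ := by
    have e : h.1 z - z = h.1 (z - y) + (h.1 y - y) - (z - y) := by rw [map_sub]; abel
    rw [e]
    exact W₂.sub_mem (W₂.add_mem (hst₂ h hh _ hzy) (hyH h hh)) hzy
  obtain ⟨w, hw, b, hb, he⟩ := Submodule.mem_sup.1 hd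
  obtain ⟨t, rfl⟩ := Submodule.mem_span_singleton.1 hb
  rcases eq_zero_or_one hcard t with rfl | rfl
  · rw [← he, zero_smul, add_zero]; exact hw
  · exfalso
    have e : h.1 z = (z + x) + w := by
      rw [one_smul] at he
      rw [show z + x + w = (w + x) + z by abel, he, sub_add_cancel]
    have hq := orth_qmap h z
    rw [e, qmap_add, qmap_add, hQz, hQx, hWs w hw, hperp (A.add_mem (hA₂mem.1 hz).1 hxA) hw,
      polB_comm, (hA₂mem.1 hz).2] at hq
    simp at hq

/-- A 2-group stabilises a singular subspace of codimension `m + 1`. -/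
theorem exists_stable_singular [Finite F] (hcard : Nat.card F = 2) (hQ : (polB Q).Nondegenerate) {m : ℕ}
    (hV : Module.finrank F V = 2 * m) {H : Subgroup (orthGroup Q)} (hH : IsPGroup 2 H) :
    ∀ k, k + 1 ≤ m → ∃ W : Submodule F V, Module.finrank F W = k ∧ (∀ w ∈ W, Q w = 0) ∧
      ∀ h ∈ H, ∀ w ∈ W, h.1 w ∈ W := by
  intro k hk
  induction k with
  | zero => exact ⟨⊥, finrank_bot F V, fun w hw => by simp [(Submodule.mem_bot F).1 hw],
      fun h _ w hw => by simp [(Submodule.mem_bot F).1 hw]⟩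
  | succ k ih =>
    obtain ⟨W, h1, h2, h3⟩ := ih (by omega)
    exact exists_stable_step hcard hQ hV (by omega) hH W h1 h2 h3

/-- The pointwise stabiliser of a hyperplane of a maximal singular subspace is a 2-group. -/
theorem pointStab_isPGroup [Finite F] (hcard : Nat.card F = 2) (hQ : (polB Q).Nondegenerate) {m : ℕ}
    (hV : Module.finrank F V = 2 * m) {U : Submodule F V} (hU : IsTS Q m U) (W : Submodule F V)
    (hWm : Module.finrank F W + 1 = m) (hWs : ∀ w ∈ W, Q w = 0) : IsPGroup 2 (pointStab Q W) := by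
  have h2 := two_zero_of_card hcard
  obtain ⟨M₀, M₁, -, hiff⟩ := exists_two_through hQ hV hU hWm hWs
  obtain ⟨⟨hMfr, hMs⟩, hWM⟩ := (hiff M₀).mpr (Or.inl rfl)
  set A := (polB Q).orthogonal W with hA
  have hAfr : Module.finrank F A + Module.finrank F W = Module.finrank F V := finrank_orth_add hQ W
  obtain ⟨e, heM, heW⟩ := SetLike.exists_of_lt (lt_of_le_of_ne hWM (fun h => by rw [h] at hWm; omega))
  have hMA : M₀ ≤ A := fun a ha w hw => polB_eq_zero_of_singular hMs (hWM hw) ha
  have hMlt : M₀ < A := lt_of_le_of_ne hMA (fun h => by rw [h] at hMfr; omega)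
  obtain ⟨y₀, hy₀A, hy₀M⟩ := SetLike.exists_of_lt hMlt
  have hMperp : (polB Q).orthogonal M₀ = M₀ := IsTS.orth_eq hQ hV ⟨hMfr, hMs⟩
  have hMeq : ∀ u ∈ M₀, u ∈ W ⊔ F ∙ e := by
    intro u hu
    have hle : W ⊔ F ∙ e ≤ M₀ := sup_le hWM ((Submodule.span_singleton_le_iff_mem _ _).2 heM)
    have hlt : W < W ⊔ F ∙ e := lt_of_le_of_ne le_sup_left (fun h => heW
      (h.symm ▸ Submodule.mem_sup_right (Submodule.mem_span_singleton_self e)))
    have := Submodule.finrank_lt_finrank_of_lt hlt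
    have := Submodule.finrank_mono hle
    rw [Submodule.eq_of_le_of_finrank_eq hle (by omega)]
    exact hu
  have hey : ∀ y ∈ A, y ∉ M₀ → polB Q e y = 1 := by
    intro y hy hyM
    refine (eq_zero_or_one hcard _).resolve_left (fun h0 => hyM (hMperp ▸ fun u hu => ?_))
    obtain ⟨w, hw, b, hb, rfl⟩ := Submodule.mem_sup.1 (hMeq u hu)
    obtain ⟨t, rfl⟩ := Submodule.mem_span_singleton.1 hb
    show polB Q (w + t • e) y = 0
    rw [map_add, LinearMap.add_apply, map_smul, LinearMap.smul_apply, h0, smul_zero, add_zero]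
    exact hy w hw
  have heA : e ∈ A := hMA heM
  obtain ⟨e', he'A, he'M, he's⟩ : ∃ y ∈ A, y ∉ M₀ ∧ Q y = 0 := by
    rcases eq_zero_or_one hcard (Q y₀) with h | h
    · exact ⟨y₀, hy₀A, hy₀M, h⟩
    · refine ⟨y₀ + e, A.add_mem hy₀A heA, fun h' => hy₀M (by simpa using M₀.sub_mem h' heM), ?_⟩
      rw [qmap_add, h, hMs e heM, polB_comm, hey y₀ hy₀A hy₀M]
      linear_combination h2
  have cls : ∀ z ∈ A, Q z = 0 → z ∉ W → (z - e ∈ W ∨ z - e' ∈ W) := by
    intro z hz hQz hzW
    by_cases hzM : z ∈ M₀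
    · left
      obtain ⟨w, hw, b, hb, rfl⟩ := Submodule.mem_sup.1 (hMeq z hzM)
      obtain ⟨t, rfl⟩ := Submodule.mem_span_singleton.1 hb
      rcases eq_zero_or_one hcard t with rfl | rfl
      · exact absurd (by simpa using hw) hzW
      · simpa using hw
    · right
      have hd : z - e' ∈ M₀ := hMperp ▸ fun u hu => by
        obtain ⟨w, hw, b, hb, rfl⟩ := Submodule.mem_sup.1 (hMeq u hu)
        obtain ⟨t, rfl⟩ := Submodule.mem_span_singleton.1 hb
        show polB Q (w + t • e) (z - e') = 0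
        rw [map_sub, map_add, LinearMap.add_apply, LinearMap.add_apply, map_smul, LinearMap.smul_apply,
          LinearMap.smul_apply, hey z hz hzM, hey e' he'A he'M, hz w hw, he'A w hw]
        simp
      obtain ⟨w, hw, b, hb, he⟩ := Submodule.mem_sup.1 (hMeq _ hd)
      obtain ⟨t, rfl⟩ := Submodule.mem_span_singleton.1 hb
      rcases eq_zero_or_one hcard t with rfl | rfl
      · rw [← he]; simpa using hw
      · exfalso
        have e1 : z = e' + (w + e) := by
          rw [one_smul] at he; rw [he, add_sub_cancel]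
        rw [e1, qmap_add, he's, qmap_add, hWs w hw, hMs e heM, map_add, polB_comm e' w, he'A w hw,
          polB_comm e' e, hey e' he'A he'M, polB_eq_zero_of_singular hMs (hWM hw) heM] at hQz
        simp at hQz
  have hAdec : ∀ y ∈ A, ∃ w ∈ W, ∃ a b : F, y = w + a • e + b • e' := by
    intro y hy
    by_cases hyM : y ∈ M₀
    · obtain ⟨w, hw, b, hb, rfl⟩ := Submodule.mem_sup.1 (hMeq y hyM)
      obtain ⟨t, rfl⟩ := Submodule.mem_span_singleton.1 hb
      exact ⟨w, hw, t, 0, by simp⟩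
    · have hd : y - e' ∈ M₀ := hMperp ▸ fun u hu => by
        obtain ⟨w, hw, b, hb, rfl⟩ := Submodule.mem_sup.1 (hMeq u hu)
        obtain ⟨t, rfl⟩ := Submodule.mem_span_singleton.1 hb
        show polB Q (w + t • e) (y - e') = 0
        rw [map_sub, map_add, LinearMap.add_apply, LinearMap.add_apply, map_smul, LinearMap.smul_apply,
          LinearMap.smul_apply, hey y hy hyM, hey e' he'A he'M, hy w hw, he'A w hw]
        simp
      obtain ⟨w, hw, b, hb, he⟩ := Submodule.mem_sup.1 (hMeq _ hd)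
      obtain ⟨t, rfl⟩ := Submodule.mem_span_singleton.1 hb
      exact ⟨w, hw, t, 1, by rw [one_smul, he, sub_add_cancel]⟩
  intro g
  refine ⟨3, Subtype.ext ?_⟩
  obtain ⟨g, hg⟩ := g
  show g ^ (2 ^ 3) = 1
  have hgA : ∀ y ∈ A, g.1 y ∈ A := fun y hy w hw => by
    show polB Q w (g.1 y) = 0
    rw [← hg w hw, orth_polB_map]; exact hy w hw
  have hgW : ∀ z, z ∈ W → g.1 z ∈ W := fun z hz => by rw [hg z hz]; exact hz
  have hgW' : ∀ z, g.1 z ∈ W → z ∈ W := fun z hz => by
    have := hg _ hz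
    rw [g.1.injective.eq_iff] at this
    rwa [this] at hz
  set N : V → V := fun v => g.1 (g.1 v) - v with hN
  have he'W : e' ∉ W := fun h => he'M (hWM h)
  -- the two singular classes are fixed by the square
  have hfix : N e ∈ W ∧ N e' ∈ W := by
    have img : ∀ z, z ∈ A → Q z = 0 → z ∉ W → (g.1 z - e ∈ W ∨ g.1 z - e' ∈ W) := fun z hz hq hzW =>
      cls _ (hgA z hz) (by rw [orth_qmap, hq]) (fun h => hzW (hgW' z h))
    have hne : ¬ e - e' ∈ W := fun h => he'M (by simpa using M₀.sub_mem heM (hWM h))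
    have hinj : ∀ c, g.1 e - c ∈ W → g.1 e' - c ∈ W → False := fun c h1 h2 => hne (hgW' _ (by
      rw [map_sub]; simpa using W.sub_mem h1 h2))
    rcases img e heA (hMs e heM) heW with h1 | h1 <;> rcases img e' he'A he's he'W with h3 | h3
    · exact (hinj e h1 h3).elim
    · constructor
      · have : N e = g.1 (g.1 e - e) + (g.1 e - e) := by simp only [hN, map_sub]; abel
        rw [this]; exact W.add_mem (hgW _ h1) h1
      · have : N e' = g.1 (g.1 e' - e') + (g.1 e' - e') := by simp only [hN, map_sub]; abel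
        rw [this]; exact W.add_mem (hgW _ h3) h3
    · constructor
      · have : N e = g.1 (g.1 e - e') + (g.1 e' - e) := by simp only [hN, map_sub]; abel
        rw [this]; exact W.add_mem (hgW _ h1) h3
      · have : N e' = g.1 (g.1 e' - e) + (g.1 e - e') := by simp only [hN, map_sub]; abel
        rw [this]; exact W.add_mem (hgW _ h3) h1
    · exact (hinj e' h1 h3).elim
  have hNlin : ∀ u v, N (u + v) = N u + N v := fun u v => by simp only [hN, map_add]; abel
  have hNsmul : ∀ (c : F) u, N (c • u) = c • N u := fun c u => by simp only [hN, map_smul, smul_sub]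
  have hNA : ∀ v, N v ∈ A := fun v w hw => by
    show polB Q w (g.1 (g.1 v) - v) = 0
    rw [map_sub]
    conv_lhs => arg 1; rw [← hg w hw, orth_polB_map, ← hg w hw, orth_polB_map]
    rw [sub_self]
  have hNW : ∀ w ∈ W, N w = 0 := fun w hw => by simp only [hN, hg w hw, sub_self]
  have hNAW : ∀ y ∈ A, N y ∈ W := fun y hy => by
    obtain ⟨w, hw, a, b, rfl⟩ := hAdec y hy
    rw [hNlin, hNlin, hNsmul, hNsmul, hNW w hw, zero_add]
    exact W.add_mem (W.smul_mem a hfix.1) (W.smul_mem b hfix.2)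
  have hsq : ∀ v, g.1 (g.1 (g.1 (g.1 v))) = v + N (N v) := fun v => by
    have e : N (N v) = g.1 (g.1 (g.1 (g.1 v))) - v - (g.1 (g.1 v) - v + (g.1 (g.1 v) - v)) := by
      simp only [hN, map_sub]; abel
    rw [e, ← two_smul F (g.1 (g.1 v) - v), h2, zero_smul, sub_zero, add_sub_cancel]
  have h4 : ∀ v, (g ^ 4).1 v = g.1 (g.1 (g.1 (g.1 v))) := fun v => by
    simp [pow_succ, orth_mul_apply, orth_one_apply]
  apply orth_ext
  intro v
  rw [show (2 : ℕ) ^ 3 = 4 + 4 by norm_num, pow_add, orth_mul_apply, h4, h4, orth_one_apply, hsq, hsq,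
    hNlin, hNlin, hNW _ (hNAW _ (hNA v)), hNW 0 W.zero_mem, add_zero, add_assoc, ← two_smul F (N (N v)), h2,
    zero_smul, add_zero]

/-- A non-trivial isometry fixing a subspace of codimension at least two pointwise. -/
theorem exists_fixing [Finite F] (h2 : (2 : F) = 0) (hQ : (polB Q).Nondegenerate) (S : Submodule F V)
    (hS : Module.finrank F S + 2 ≤ Module.finrank F V) :
    ∃ g : orthGroup Q, g ≠ 1 ∧ g ∈ pointStab Q S := by
  set R := (polB Q).orthogonal S
  have hR := finrank_orth_add hQ S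
  by_cases hns : ∃ v ∈ R, Q v ≠ 0
  · obtain ⟨v, hvR, hv⟩ := hns
    refine ⟨refl Q v, fun e => ?_, fun s hs => refl_fix (hvR s hs)⟩
    obtain ⟨x, hx⟩ := exists_polB_ne_zero hQ (show v ≠ 0 from fun e => hv (by rw [e, map_zero]))
    have h1 : (refl Q v).1 x = x := by rw [e]; rfl
    rw [refl_apply, sub_eq_self, smul_eq_zero, mul_eq_zero, inv_eq_zero] at h1
    rcases h1 with (h1 | h1) | h1
    · exact hv h1
    · exact hx (by rw [polB_comm]; exact h1)
    · exact hv (by rw [h1, map_zero])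
  · push Not at hns
    obtain ⟨w, hw, hw0⟩ := Submodule.exists_mem_ne_zero_of_ne_bot (p := R) (fun e => by
      rw [show Module.finrank F ((polB Q).orthogonal S) = 0 by rw [show (polB Q).orthogonal S = ⊥ from e]; simp] at hR
      omega)
    obtain ⟨u, hu, huw⟩ : ∃ u ∈ R, u ∉ F ∙ w := by
      by_contra hcon
      push Not at hcon
      have h3 := Submodule.finrank_mono (show R ≤ F ∙ w from hcon)
      rw [finrank_span_singleton hw0] at h3
      change Module.finrank F R + _ = _ at hR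
      omega
    have hQu := hns u hu
    have huw0 : polB Q u w = 0 := polB_eq_zero_of_singular hns hu hw
    refine ⟨eichler Q u w, fun e => ?_, fun s hs => eichler_fix hQu huw0 (hu s hs) (hw s hs)⟩
    obtain ⟨x, hx1, hx2⟩ := exists_orth_polB_eq hQ huw 1
    have hxw : polB Q x w = 0 := by rw [polB_comm]; exact hx1 w (Submodule.mem_span_singleton_self w)
    have h1 : (eichler Q u w).1 x = x := by rw [e]; rfl
    rw [eichler_apply hQu huw0, hxw, polB_comm x u, hx2, hns w hw] at h1
    simp at h1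
    exact hw0 h1

/-- Any two Sylow 2-subgroups meet non-trivially. -/
theorem sylow_inter_ne_bot [Finite F] (hcard : Nat.card F = 2) (hQ : (polB Q).Nondegenerate) {m : ℕ}
    (hm : 1 ≤ m) (hV : Module.finrank F V = 2 * m) {U : Submodule F V} (hU : IsTS Q m U)
    (H : Sylow 2 (orthGroup Q)) (x : orthGroup Q) :
    ∃ g : orthGroup Q, g ≠ 1 ∧ g ∈ (H : Subgroup (orthGroup Q)) ∧ x⁻¹ * g * x ∈ (H : Subgroup (orthGroup Q)) := by
  haveI : Fact (Nat.Prime 2) := ⟨Nat.prime_two⟩
  obtain ⟨W, hWk, hWs, hWst⟩ := exists_stable_singular hcard hQ hV H.isPGroup' (m - 1) (by omega)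
  have hP := pointStab_isPGroup hcard hQ hV hU W (by omega) hWs
  have hnorm : (H : Subgroup (orthGroup Q)) ≤ Subgroup.normalizer (pointStab Q W : Set (orthGroup Q)) := by
    intro h hh
    rw [Subgroup.mem_normalizer_iff]
    intro p
    constructor
    · intro hp w hw
      rw [orth_mul_apply, orth_mul_apply, hp _ (hWst _ (H.1.inv_mem hh) w hw), orth_apply_inv_self]
    · intro hp w hw
      have h1 := hp _ (hWst h hh w hw)
      rw [orth_mul_apply, orth_mul_apply, orth_inv_apply_self] at h1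
      exact h.1.injective h1
  have hle : pointStab Q W ≤ (H : Subgroup (orthGroup Q)) := by
    have h := IsPGroup.to_sup_of_normal_right' H.isPGroup' hP hnorm
    exact le_sup_right.trans (H.is_maximal' h le_sup_left).le
  have hfr : Module.finrank F (W ⊔ W.map (x.1 : V →ₗ[F] V) : Submodule F V) + 2 ≤ Module.finrank F V := by
    have h1 := Submodule.finrank_add_le_finrank_add_finrank W (W.map (x.1 : V →ₗ[F] V))
    rw [LinearEquiv.finrank_map_eq] at h1
    omega
  obtain ⟨g, hg1, hg⟩ := exists_fixing (two_zero_of_card hcard) hQ _ hfr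
  refine ⟨g, hg1, hle fun w hw => hg w (Submodule.mem_sup_left hw), hle fun w hw => ?_⟩
  rw [orth_mul_apply, orth_mul_apply, hg (x.1 w) (Submodule.mem_sup_right ⟨w, hw, rfl⟩), orth_inv_apply_self]

end H44
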