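import Cfsg.Agent.H43.Eichler

/-!
Two elements generating `Ω`: a root element and a short root element times a cyclic monomial isometry.
-/

set_option autoImplicit false

namespace H44

open H43

variable {F : Type*} [Field F] {V : Type*} [AddCommGroup V] [Module F V] [FiniteDimensional F V]
  {Q : QuadraticForm F V}

theorem eichler_swap {u w : V} (hu : Q u = 0) (hw : Q w = 0) (huw : polB Q u w = 0) :
    eichler Q u w = eichler Q w (-u) := by
  apply orth_ext; intro x
  rw [eichler_apply hu huw, eichler_apply hw (by rw [map_neg, polB_comm, huw, neg_zero]),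
    hw, qmap_neg, hu]
  simp only [map_neg, zero_mul, zero_smul, sub_zero, smul_neg, neg_smul, sub_neg_eq_add]
  abel

theorem eichler_smul_comm {u w : V} (hu : Q u = 0) (hw : Q w = 0) (huw : polB Q u w = 0) (t : F) :
    eichler Q (t • u) w = eichler Q u (t • w) := by
  apply orth_ext; intro x
  rw [eichler_apply (by rw [qmap_smul, hu, mul_zero]) (by simp [huw]),
    eichler_apply hu (by simp [huw]), qmap_smul, hw]
  simp only [map_smul, smul_eq_mul, mul_zero, zero_mul, zero_smul, sub_zero, smul_smul]
  match_scalars <;> ring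

/-- Commutator of two root elements. -/
theorem eichler_commutator {u w w' z : V} (hu : Q u = 0) (hw : Q w = 0) (hw' : Q w' = 0) (hz : Q z = 0)
    (huw : polB Q u w = 0) (hw'z : polB Q w' z = 0) (huz : polB Q u z = 0) (huw' : polB Q u w' = 0)
    (hwz : polB Q w z = 0) :
    eichler Q u w * eichler Q w' z * (eichler Q u w)⁻¹ * (eichler Q w' z)⁻¹ =
      eichler Q z (polB Q w w' • u) := by
  set r := polB Q w w'
  have h1 : (eichler Q u w).1 w' = w' + (-r) • u := by
    rw [eichler_apply hu huw, hw, polB_comm w' u, huw', polB_comm w' w]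
    simp [r, sub_eq_add_neg]
  have h2 : (eichler Q u w).1 z = z :=
    eichler_fix hu huw (by rw [polB_comm]; exact huz) (by rw [polB_comm]; exact hwz)
  have hzw' : polB Q z (-w') = 0 := by rw [map_neg, polB_comm, hw'z, neg_zero]
  have hzu : polB Q z (r • u) = 0 := by rw [map_smul, polB_comm, huz, smul_zero]
  rw [eichler_conj _ hw' hw'z, h1, h2, eichler_swap (u := w' + (-r) • u) (by rw [qmap_add_smul, hw', hu, polB_comm w' u, huw']; ring) hz
    (by simp [hw'z, huz]), eichler_swap hw' hz hw'z,
    show -(w' + (-r) • u) = -w' + r • u by rw [neg_add, neg_smul, neg_neg],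
    add_comm, ← eichler_mul hz hzu hzw', mul_inv_cancel_right]

/-- A short root element conjugates a long one. -/
theorem eichler_short_long {a b b' s : V} (ha : Q a = 0) (hb : Q b = 0) (hbs : polB Q b s = 0)
    (hb's : polB Q b' s = 0) (has : polB Q a s = 0) (hab : polB Q a b = 0) (hab' : polB Q a b' = 0) (t : F) :
    eichler Q b s * eichler Q a (t • b') * (eichler Q b s)⁻¹ =
      eichler Q a (t • b') * eichler Q a ((t * polB Q b' b) • s) *
        eichler Q a ((-(t * polB Q b' b * Q s)) • b) := by
  rw [eichler_conj _ ha (by simp [hab']), eichler_fix hb hbs hab has, map_smul, eichler_apply hb hbs, hb's,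
    eichler_mul ha (by simp [hab']) (by simp [has]), eichler_mul ha (by simp [hab', has]) (by simp [hab])]
  congr 1
  module

/-- A cyclic hyperbolic system: `e (k + 2n) = e k`, `w (e k) = e (k + 1)`. -/
structure CycSys (Q : QuadraticForm F V) (n : ℕ) (e : ℕ → V) (ε : F) (w : orthGroup Q) (u : V) : Prop where
  three : 3 ≤ n
  eps : ε * ε = 1
  period : ∀ k, e (k + 2 * n) = e k
  sing : ∀ k, Q (e k) = 0
  pair : ∀ a b, a < 2 * n → b < 2 * n → polB Q (e a) (e b) = if a + n = b ∨ b + n = a then ε else 0
  shift : ∀ k, w.1 (e k) = e (k + 1)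
  short : ∀ k, polB Q (e k) u = 0

variable {n : ℕ} {e : ℕ → V} {ε : F} {w : orthGroup Q} {u : V} {K : Subgroup (orthGroup Q)}

/-- Two indices spanning a long root. -/
def GoodPair (n a b : ℕ) : Prop := a < 2 * n ∧ b < 2 * n ∧ a ≠ b ∧ a + n ≠ b ∧ b + n ≠ a

/-- The long root element. -/
noncomputable def rootEl (Q : QuadraticForm F V) (e : ℕ → V) (a b : ℕ) (t : F) : orthGroup Q :=
  eichler Q (e a) (t • e b)

theorem CycSys.ortho (h : CycSys Q n e ε w u) {a b : ℕ} (ha : a < 2 * n) (hb : b < 2 * n)
    (h1 : a + n ≠ b) (h2 : b + n ≠ a) : polB Q (e a) (e b) = 0 := by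
  rw [h.pair a b ha hb, if_neg (by omega)]

theorem CycSys.opp (h : CycSys Q n e ε w u) {a b : ℕ} (ha : a < 2 * n) (hb : b < 2 * n)
    (h1 : a + n = b ∨ b + n = a) : polB Q (e a) (e b) = ε := by
  rw [h.pair a b ha hb, if_pos h1]

theorem CycSys.e_mod (h : CycSys Q n e ε w u) (k : ℕ) : e (k % (2 * n)) = e k := by
  have : ∀ j r, e (r + j * (2 * n)) = e r := by
    intro j r
    induction j with
    | zero => simp
    | succ j ih => rw [show r + (j + 1) * (2 * n) = r + j * (2 * n) + 2 * n by ring, h.period, ih]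
  conv_rhs => rw [← Nat.mod_add_div k (2 * n), mul_comm (2 * n) (k / (2 * n))]
  rw [this]

theorem CycSys.root_perp (h : CycSys Q n e ε w u) {a b : ℕ} (hg : GoodPair n a b) (t : F) :
    polB Q (e a) (t • e b) = 0 := by
  rw [map_smul, h.ortho hg.1 hg.2.1 hg.2.2.2.1 hg.2.2.2.2, smul_zero]

theorem CycSys.root_add (h : CycSys Q n e ε w u) {a b : ℕ} (hg : GoodPair n a b) (s t : F) :
    rootEl Q e a b s * rootEl Q e a b t = rootEl Q e a b (s + t) := by
  rw [rootEl, rootEl, rootEl, eichler_mul (h.sing a) (h.root_perp hg s) (h.root_perp hg t), add_smul]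

theorem CycSys.root_inv (h : CycSys Q n e ε w u) {a b : ℕ} (hg : GoodPair n a b) (t : F) :
    (rootEl Q e a b t)⁻¹ = rootEl Q e a b (-t) := by
  rw [rootEl, rootEl, eichler_inv (h.sing a) (h.root_perp hg t), neg_smul]

theorem CycSys.root_swap (h : CycSys Q n e ε w u) {a b : ℕ} (hg : GoodPair n a b) (t : F) :
    rootEl Q e a b t = rootEl Q e b a (-t) := by
  rw [rootEl, rootEl, ← eichler_smul_comm (h.sing a) (h.sing b) (by simpa using h.root_perp hg 1) t,
    eichler_swap (by rw [qmap_smul, h.sing, mul_zero]) (h.sing b)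
      (by simp [h.ortho hg.1 hg.2.1 hg.2.2.2.1 hg.2.2.2.2]), neg_smul]

theorem CycSys.root_mem_swap (h : CycSys Q n e ε w u) {a b : ℕ} (hg : GoodPair n a b) {t : F}
    (hm : rootEl Q e a b t ∈ K) : rootEl Q e b a t ∈ K := by
  have hg' : GoodPair n b a := ⟨hg.2.1, hg.1, hg.2.2.1.symm, hg.2.2.2.2, hg.2.2.2.1⟩
  rw [h.root_swap hg, ← h.root_inv hg'] at hm
  exact K.inv_mem_iff.1 hm

theorem CycSys.eps_cases (h : CycSys Q n e ε w u) : ε = 1 ∨ ε = -1 := mul_self_eq_one_iff.1 h.eps

theorem CycSys.root_mem_neg (h : CycSys Q n e ε w u) {a b : ℕ} (hg : GoodPair n a b) {t : F}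
    (hm : rootEl Q e a b t ∈ K) : rootEl Q e a b (-t) ∈ K := by
  rw [← h.root_inv hg]; exact K.inv_mem hm

theorem CycSys.root_mem_eps (h : CycSys Q n e ε w u) {a b : ℕ} (hg : GoodPair n a b) {t : F}
    (hm : rootEl Q e a b t ∈ K) : rootEl Q e a b (ε * t) ∈ K := by
  rcases h.eps_cases with e1 | e1 <;> rw [e1]
  · rwa [one_mul]
  · rw [neg_one_mul]; exact h.root_mem_neg hg hm

/-- Composition of roots. -/
theorem CycSys.root_comp (h : CycSys Q n e ε w u) {a b b' c : ℕ} (hab : GoodPair n a b)
    (hbc : GoodPair n b' c) (hac : GoodPair n a c) (hbb : b + n = b' ∨ b' + n = b) {s t : F}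
    (h1 : rootEl Q e a b s ∈ K) (h2 : rootEl Q e b' c t ∈ K) : rootEl Q e a c (s * t) ∈ K := by
  obtain ⟨ha, hb, hab1, hab2, hab3⟩ := hab
  obtain ⟨hb', hc, hbc1, hbc2, hbc3⟩ := hbc
  have key := eichler_commutator (u := e a) (w := s • e b) (w' := e b') (z := t • e c) (h.sing a)
    (by rw [qmap_smul, h.sing, mul_zero]) (h.sing b') (by rw [qmap_smul, h.sing, mul_zero])
    (h.root_perp ⟨ha, hb, hab1, hab2, hab3⟩ s) (h.root_perp ⟨hb', hc, hbc1, hbc2, hbc3⟩ t) (h.root_perp hac t)
    (h.ortho ha hb' (by omega) (by omega))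
    (by simp [h.ortho hb hc (by omega) (by omega)])
  have hm := K.mul_mem (K.mul_mem (K.mul_mem h1 h2) (K.inv_mem h1)) (K.inv_mem h2)
  rw [rootEl, rootEl, key] at hm
  simp only [map_smul, LinearMap.smul_apply, h.opp hb hb' hbb, smul_eq_mul] at hm
  rw [eichler_smul_comm (h.sing c) (by rw [qmap_smul, h.sing, mul_zero])
    (by simp [h.ortho hc ha hac.2.2.2.2 hac.2.2.2.1]), smul_smul] at hm
  have hgca : GoodPair n c a := ⟨hc, ha, hac.2.2.1.symm, hac.2.2.2.2, hac.2.2.2.1⟩
  have h3 := h.root_mem_eps hgca (show rootEl Q e c a (t * (s * ε)) ∈ K from hm)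
  rw [show ε * (t * (s * ε)) = s * t by linear_combination (s * t) * h.eps] at h3
  exact h.root_mem_swap hgca h3

/-- `e k` is shifted by the powers of `w`. -/
theorem CycSys.pow_apply (h : CycSys Q n e ε w u) (j k : ℕ) : (w ^ j).1 (e k) = e (k + j) := by
  induction j with
  | zero => rfl
  | succ j ih => rw [pow_succ', orth_mul_apply, ih, h.shift]; rfl

/-- The short root element. -/
noncomputable def shortEl (Q : QuadraticForm F V) (e : ℕ → V) (u : V) : orthGroup Q := eichler Q (e 0) u

/-- The subgroup generated by the two elements. -/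
noncomputable def twoGen (Q : QuadraticForm F V) (e : ℕ → V) (n : ℕ) (w : orthGroup Q) (u : V) :
    Subgroup (orthGroup Q) :=
  Subgroup.closure {rootEl Q e 0 (n + 1) 1, shortEl Q e u * w}

theorem CycSys.short_fix (h : CycSys Q n e ε w u) {a : ℕ} (ha : a < 2 * n) (han : a ≠ n) :
    (shortEl Q e u).1 (e a) = e a :=
  eichler_fix (h.sing 0) (h.short 0) (h.ortho ha (by omega) (by omega) (by omega)) (h.short a)

/-- The two generators yield the short root element and the monomial element. -/
theorem CycSys.split (h : CycSys Q n e ε w u) :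
    shortEl Q e u ∈ twoGen Q e n w u ∧ w ∈ twoGen Q e n w u ∧
      rootEl Q e (2 * n - 1) 0 (ε * Q u) ∈ twoGen Q e n w u := by
  set K := twoGen Q e n w u
  have hn := h.three
  have hy : rootEl Q e 0 (n + 1) 1 ∈ K := Subgroup.subset_closure (Or.inl rfl)
  have hX : shortEl Q e u * w ∈ K := Subgroup.subset_closure (Or.inr rfl)
  have conjX : ∀ a b : ℕ, GoodPair n a b → a + 1 < 2 * n → b + 1 ≤ 2 * n → a + 1 ≠ n → b + 1 ≠ n →
      rootEl Q e a b 1 ∈ K → rootEl Q e (a + 1) ((b + 1) % (2 * n)) 1 ∈ K := by
    intro a b hg ha hb han hbn hm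
    have hm' := K.mul_mem (K.mul_mem hX hm) (K.inv_mem hX)
    rw [rootEl, eichler_conj _ (h.sing a) (h.root_perp hg 1), orth_mul_apply, orth_mul_apply, h.shift,
      map_smul, h.shift, map_smul, h.short_fix ha han, ← h.e_mod (b + 1)] at hm'
    rw [h.short_fix (Nat.mod_lt _ (by omega)) ?_] at hm'
    · exact hm'
    · rcases Nat.lt_or_eq_of_le hb with hlt | heq
      · rw [Nat.mod_eq_of_lt hlt]; exact hbn
      · rw [heq, Nat.mod_self]; omega
  have hedge : ∀ k, k + 2 ≤ n → rootEl Q e k (k + n + 1) 1 ∈ K := by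
    intro k hk
    induction k with
    | zero => simpa using hy
    | succ k ih =>
      have h1 := conjX k (k + n + 1) ⟨by omega, by omega, by omega, by omega, by omega⟩ (by omega) (by omega)
        (by omega) (by omega) (ih (by omega))
      rwa [Nat.mod_eq_of_lt (by omega), show k + n + 1 + 1 = k + 1 + n + 1 by omega] at h1
  have hlast : rootEl Q e (n - 1) 0 1 ∈ K := by
    have h1 := conjX (n - 2) (2 * n - 1) ⟨by omega, by omega, by omega, by omega, by omega⟩ (by omega) (by omega)
      (by omega) (by omega) (by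
        have := hedge (n - 2) (by omega)
        rwa [show n - 2 + n + 1 = 2 * n - 1 by omega] at this)
    rwa [show n - 2 + 1 = n - 1 by omega, show 2 * n - 1 + 1 = 2 * n by omega, Nat.mod_self] at h1
  have hback : rootEl Q e (2 * n - 1) n 1 ∈ K := by
    have hg : GoodPair n (2 * n - 1) n := ⟨by omega, by omega, by omega, by omega, by omega⟩
    have hc : shortEl Q e u * w * rootEl Q e (2 * n - 1) n 1 * (shortEl Q e u * w)⁻¹ = rootEl Q e 0 (n + 1) 1 := by
      rw [rootEl, eichler_conj _ (h.sing _) (h.root_perp hg 1), orth_mul_apply, orth_mul_apply, h.shift,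
        map_smul, h.shift, map_smul, show 2 * n - 1 + 1 = 0 + 2 * n by omega, h.period,
        h.short_fix (by omega) (by omega), h.short_fix (by omega) (by omega)]
      rfl
    have := K.mul_mem (K.mul_mem (K.inv_mem hX) (hc ▸ hy)) hX
    simpa [mul_assoc] using this
  -- the singular vector ω
  set ω := (shortEl Q e u).1 (e n) with hωdef
  have hω : Q ω = 0 := by rw [hωdef, orth_qmap, h.sing]
  have hωeq : ω = e n + ε • u - (ε * Q u) • e 0 := by
    rw [hωdef, shortEl, eichler_apply (h.sing 0) (h.short 0), h.short, h.opp (by omega) (by omega) (by omega)]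
    simp [mul_comm]
  have hωa : ∀ a, a < 2 * n → a ≠ 0 → a ≠ n → polB Q (e a) ω = 0 := by
    intro a ha ha0 han
    rw [hωeq]
    simp [h.short, h.ortho ha (show n < 2 * n by omega) (by omega) (by omega),
      h.ortho ha (show 0 < 2 * n by omega) (by omega) (by omega)]
  have hz : eichler Q ω (e 1) ∈ K := by
    have hm := K.mul_mem (K.mul_mem hX hlast) (K.inv_mem hX)
    rw [rootEl, eichler_conj _ (h.sing _) (h.root_perp ⟨by omega, by omega, by omega, by omega, by omega⟩ 1),
      orth_mul_apply, orth_mul_apply, h.shift, map_smul, h.shift, map_smul, show n - 1 + 1 = n by omega,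
      show 0 + 1 = 1 from rfl, h.short_fix (a := 1) (by omega) (by omega), one_smul] at hm
    exact hm
  have e1ω : polB Q ω (e 1) = 0 := by rw [polB_comm]; exact hωa 1 (by omega) (by omega) (by omega)
  have e2ω : polB Q ω (e (2 * n - 1)) = 0 := by rw [polB_comm]; exact hωa _ (by omega) (by omega) (by omega)
  have hg1 : rootEl Q e (2 * n - 1) (n + 1) 1 ∈ K := by
    have := h.root_comp (b := n) (b' := 0) (⟨by omega, by omega, by omega, by omega, by omega⟩ : GoodPair n (2 * n - 1) n)
      (⟨by omega, by omega, by omega, by omega, by omega⟩ : GoodPair n 0 (n + 1))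
      (⟨by omega, by omega, by omega, by omega, by omega⟩ : GoodPair n (2 * n - 1) (n + 1)) (by omega) hback hy
    rwa [one_mul] at this
  have hz2 : eichler Q ω (e (2 * n - 1)) ∈ K := by
    have hg : GoodPair n (2 * n - 1) (n + 1) := ⟨by omega, by omega, by omega, by omega, by omega⟩
    set g := rootEl Q e (2 * n - 1) (n + 1) 1
    have f1 : g.1 (e 1) = e 1 + (-ε) • e (2 * n - 1) := by
      simp only [g, rootEl]
      rw [eichler_apply (h.sing (2 * n - 1)) (h.root_perp hg 1)]
      simp only [one_smul,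
        h.ortho (show 1 < 2 * n by omega) (show 2 * n - 1 < 2 * n by omega) (by omega) (by omega),
        h.opp (show 1 < 2 * n by omega) (show n + 1 < 2 * n by omega) (by omega), zero_smul, add_zero,
        mul_zero, sub_zero, neg_smul]
      abel
    have f2 : g.1 ω = ω := by
      simp only [g, rootEl]
      refine eichler_fix (h.sing _) (h.root_perp hg 1) e2ω ?_
      rw [one_smul, polB_comm]; exact hωa _ (by omega) (by omega) (by omega)
    have hm := K.mul_mem (K.mul_mem hg1 hz) (K.inv_mem hg1)
    rw [eichler_conj g hω e1ω, f1, f2, ← eichler_mul hω e1ω (by simp [e2ω])] at hm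
    have h3 : eichler Q ω ((-ε) • e (2 * n - 1)) ∈ K := (K.mul_mem_cancel_left hz).1 hm
    rcases h.eps_cases with e3 | e3
    · rw [e3, neg_one_smul, ← eichler_inv hω e2ω] at h3
      exact K.inv_mem_iff.1 h3
    · rwa [e3, neg_neg, one_smul] at h3
  have hQu : rootEl Q e 1 (2 * n - 1) (Q u) ∈ K := by
    have hg : GoodPair n (2 * n - 1) n := ⟨by omega, by omega, by omega, by omega, by omega⟩
    set g := rootEl Q e (2 * n - 1) n 1
    have f1 : g.1 (e 1) = e 1 :=
      eichler_fix (h.sing _) (h.root_perp hg 1) (h.ortho (by omega) (by omega) (by omega) (by omega))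
        (by simp [h.ortho (show 1 < 2 * n by omega) (show n < 2 * n by omega) (by omega) (by omega)])
    have f2 : g.1 ω = ω + Q u • e (2 * n - 1) := by
      simp only [g, rootEl]
      rw [eichler_apply (h.sing (2 * n - 1)) (h.root_perp hg 1)]
      simp only [one_smul, h.sing, zero_mul,
        zero_smul, sub_zero, e2ω, add_zero]
      rw [hωeq]
      simp only [map_add, map_sub, map_smul, LinearMap.add_apply, LinearMap.sub_apply, LinearMap.smul_apply,
        smul_eq_mul, h.ortho (show n < 2 * n by omega) (show n < 2 * n by omega) (by omega) (by omega),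
        h.opp (show 0 < 2 * n by omega) (show n < 2 * n by omega) (by omega), polB_comm u (e n), h.short,
        mul_zero, add_zero, zero_sub]
      rw [show ε * Q u * ε = Q u by linear_combination Q u * h.eps, neg_smul, sub_neg_eq_add]
    have hm := K.mul_mem (K.mul_mem hback hz) (K.inv_mem hback)
    have hωe' : polB Q (e 1) (Q u • e (2 * n - 1)) = 0 := by
      simp [h.ortho (show 1 < 2 * n by omega) (show 2 * n - 1 < 2 * n by omega) (by omega) (by omega)]
    have hQsum : Q (ω + Q u • e (2 * n - 1)) = 0 := by rw [← f2, orth_qmap, hω]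
    have hsum : polB Q (e 1) (ω + Q u • e (2 * n - 1)) = 0 := by rw [map_add, hωe', hωa 1 (by omega) (by omega) (by omega), add_zero]
    rw [eichler_conj g hω e1ω, f1, f2, eichler_swap hQsum (h.sing 1) (by rw [polB_comm]; exact hsum),
      neg_add, ← eichler_mul (h.sing 1) (by rw [map_neg, hωa 1 (by omega) (by omega) (by omega), neg_zero])
        (by rw [map_neg, hωe', neg_zero]), ← eichler_swap hω (h.sing 1) e1ω] at hm
    have h3 : eichler Q (e 1) (-(Q u • e (2 * n - 1))) ∈ K := (K.mul_mem_cancel_left hz).1 hm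
    rw [← eichler_inv (h.sing 1) hωe'] at h3
    exact K.inv_mem_iff.1 h3
  have hQu2 : rootEl Q e (2 * n - 1) 0 (ε * Q u) ∈ K := by
    have h1 := h.root_comp (b := n + 1) (b' := 1) (⟨by omega, by omega, by omega, by omega, by omega⟩ : GoodPair n 0 (n + 1))
      (⟨by omega, by omega, by omega, by omega, by omega⟩ : GoodPair n 1 (2 * n - 1))
      (⟨by omega, by omega, by omega, by omega, by omega⟩ : GoodPair n 0 (2 * n - 1)) (by omega) hy hQu
    rw [one_mul] at h1
    exact h.root_mem_swap ⟨by omega, by omega, by omega, by omega, by omega⟩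
      (h.root_mem_eps ⟨by omega, by omega, by omega, by omega, by omega⟩ h1)
  have hshort' : eichler Q (e (2 * n - 1)) u ∈ K := by
    have hp : polB Q (e (2 * n - 1)) (-e n) = 0 := by
      simp [h.ortho (show 2 * n - 1 < 2 * n by omega) (show n < 2 * n by omega) (by omega) (by omega)]
    have h0' : polB Q (e (2 * n - 1)) (e 0) = 0 := h.ortho (by omega) (by omega) (by omega) (by omega)
    rw [eichler_swap hω (h.sing _) e2ω, hωeq,
      show -(e n + ε • u - (ε * Q u) • e 0) = -e n + (-ε) • u + (ε * Q u) • e 0 by module,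
      ← eichler_mul (h.sing _) (by rw [map_add, hp, map_smul, h.short, smul_zero, add_zero]) (by simp [h0']),
      ← eichler_mul (h.sing _) hp (by simp [h.short])] at hz2
    have h3 := (K.mul_mem_cancel_right hQu2).1 hz2
    have h4 : eichler Q (e (2 * n - 1)) (-e n) ∈ K := by
      have := K.inv_mem hback
      rw [rootEl, eichler_inv (h.sing _) (h.root_perp ⟨by omega, by omega, by omega, by omega, by omega⟩ 1), one_smul] at this
      exact this
    have h5 := (K.mul_mem_cancel_left h4).1 h3
    rcases h.eps_cases with e3 | e3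
    · rw [e3, neg_one_smul, ← eichler_inv (h.sing _) (h.short _)] at h5
      exact K.inv_mem_iff.1 h5
    · rwa [e3, neg_neg, one_smul] at h5
  have hx : shortEl Q e u ∈ K := by
    have hp : rootEl Q e 0 (n - 1) (-1) ∈ K := by
      have hg : GoodPair n 0 (n - 1) := ⟨by omega, by omega, by omega, by omega, by omega⟩
      exact h.root_mem_neg hg (h.root_mem_swap ⟨by omega, by omega, by omega, by omega, by omega⟩ hlast)
    have hm := K.mul_mem (K.mul_mem hshort' hp) (K.inv_mem hshort')
    rw [rootEl, eichler_short_long (h.sing 0) (h.sing _) (h.short _) (h.short _) (h.short 0)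
      (h.ortho (by omega) (by omega) (by omega) (by omega)) (h.ortho (by omega) (by omega) (by omega) (by omega)),
      h.opp (show n - 1 < 2 * n by omega) (show 2 * n - 1 < 2 * n by omega) (by omega)] at hm
    have h6 : rootEl Q e 0 (2 * n - 1) (-(-1 * ε * Q u)) ∈ K := by
      have := h.root_mem_swap (⟨by omega, by omega, by omega, by omega, by omega⟩ : GoodPair n (2 * n - 1) 0) hQu2
      rwa [show -(-1 * ε * Q u) = ε * Q u by ring]
    have h5 := (K.mul_mem_cancel_left hp).1 ((K.mul_mem_cancel_right h6).1 hm)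
    rcases h.eps_cases with e3 | e3
    · rw [e3, mul_one, neg_one_smul, ← eichler_inv (h.sing _) (h.short _)] at h5
      exact K.inv_mem_iff.1 h5
    · rw [e3, neg_mul_neg, one_mul, one_smul] at h5; exact h5
  exact ⟨hx, (K.mul_mem_cancel_left hx).1 hX, hQu2⟩

/-- All root elements with coefficient one. -/
theorem CycSys.root_one (h : CycSys Q n e ε w u) {a b : ℕ} (hg : GoodPair n a b) :
    rootEl Q e a b 1 ∈ twoGen Q e n w u := by
  set K := twoGen Q e n w u
  have hn := h.three
  have hy : rootEl Q e 0 (n + 1) 1 ∈ K := Subgroup.subset_closure (Or.inl rfl)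
  have hw := h.split.2.1
  have shift : ∀ j a b : ℕ, GoodPair n a b → rootEl Q e a b 1 ∈ K →
      rootEl Q e ((a + j) % (2 * n)) ((b + j) % (2 * n)) 1 ∈ K := by
    intro j a b hg hm
    have hm' := K.mul_mem (K.mul_mem (K.pow_mem hw j) hm) (K.inv_mem (K.pow_mem hw j))
    rw [rootEl, eichler_conj _ (h.sing a) (h.root_perp hg 1), map_smul, h.pow_apply, h.pow_apply,
      ← h.e_mod (a + j), ← h.e_mod (b + j)] at hm'
    exact hm'
  have base : ∀ d, 1 ≤ d → d < n → rootEl Q e 0 (n + d) 1 ∈ K := by
    intro d hd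
    induction d, hd using Nat.le_induction with
    | base => exact fun _ => hy
    | succ d hd ih =>
      intro hdn
      have h1 := ih (by omega)
      have h2 := shift d 0 (n + 1) ⟨by omega, by omega, by omega, by omega, by omega⟩ hy
      rw [Nat.zero_add, Nat.mod_eq_of_lt (by omega : d < 2 * n), Nat.mod_eq_of_lt (by omega : n + 1 + d < 2 * n),
        show n + 1 + d = n + (d + 1) by omega] at h2
      have h3 := h.root_comp (b := n + d) (b' := d) (⟨by omega, by omega, by omega, by omega, by omega⟩ : GoodPair n 0 (n + d))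
        (⟨by omega, by omega, by omega, by omega, by omega⟩ : GoodPair n d (n + (d + 1)))
        (⟨by omega, by omega, by omega, by omega, by omega⟩ : GoodPair n 0 (n + (d + 1))) (by omega) h1 h2
      rwa [one_mul] at h3
  have half : ∀ a b, GoodPair n a b → (b + 3 * n - a) % (2 * n) < n → rootEl Q e a b 1 ∈ K := by
    intro a b hg hd
    obtain ⟨ha, hb, h1, h2, h3⟩ := hg
    set d := (b + 3 * n - a) % (2 * n) with hddef
    have hdiv := Nat.mod_add_div (b + 3 * n - a) (2 * n)
    rw [← hddef] at hdiv
    have hq : (b + 3 * n - a) / (2 * n) ≤ 2 := by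
      have : (b + 3 * n - a) / (2 * n) < 3 := Nat.div_lt_of_lt_mul (by omega)
      omega
    have hd0 : 1 ≤ d := by
      rcases Nat.eq_zero_or_pos d with h0 | h0
      · exfalso
        interval_cases hk : (b + 3 * n - a) / (2 * n) <;> omega
      · exact h0
    have h4 := shift a 0 (n + d) ⟨by omega, by omega, by omega, by omega, by omega⟩ (base d hd0 hd)
    have hmod : (n + d + a) % (2 * n) = b := by
      interval_cases hk : (b + 3 * n - a) / (2 * n)
      · omega
      · rw [Nat.mod_eq_sub_mod (by omega), Nat.mod_eq_of_lt (by omega)] <;> omega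
      · first
          | (rw [Nat.mod_eq_of_lt (by omega)]; omega)
          | omega
    rw [Nat.zero_add, Nat.mod_eq_of_lt ha, hmod] at h4
    exact h4
  by_cases hd : (b + 3 * n - a) % (2 * n) < n
  · exact half a b hg hd
  · obtain ⟨ha, hb, h1, h2, h3⟩ := hg
    refine h.root_mem_swap ⟨hb, ha, h1.symm, h3, h2⟩ (half b a ⟨hb, ha, h1.symm, h3, h2⟩ ?_)
    have e1 := Nat.mod_add_div (b + 3 * n - a) (2 * n)
    have e2 := Nat.mod_add_div (a + 3 * n - b) (2 * n)
    have q1 : (b + 3 * n - a) / (2 * n) < 3 := Nat.div_lt_of_lt_mul (by omega)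
    have q2 : (a + 3 * n - b) / (2 * n) < 3 := Nat.div_lt_of_lt_mul (by omega)
    have l1 := Nat.mod_lt (b + 3 * n - a) (show 0 < 2 * n by omega)
    have l2 := Nat.mod_lt (a + 3 * n - b) (show 0 < 2 * n by omega)
    interval_cases hk1 : (b + 3 * n - a) / (2 * n) <;> interval_cases hk2 : (a + 3 * n - b) / (2 * n) <;> omega

/-- The opposite index. -/
def opIdx (n a : ℕ) : ℕ := if a < n then a + n else a - n

theorem opIdx_spec {n a : ℕ} (ha : a < 2 * n) :
    opIdx n a < 2 * n ∧ (opIdx n a + n = a ∨ a + n = opIdx n a) := by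
  unfold opIdx; split_ifs <;> omega

/-- A coefficient on one root is a coefficient on all. -/
theorem CycSys.root_spread (h : CycSys Q n e ε w u) {a b : ℕ} (hg : GoodPair n a b) {t : F}
    (hm : rootEl Q e a b t ∈ twoGen Q e n w u) {c d : ℕ} (hg' : GoodPair n c d) :
    rootEl Q e c d t ∈ twoGen Q e n w u := by
  set K := twoGen Q e n w u
  have hn := h.three
  have sym : ∀ {a b : ℕ}, GoodPair n a b → GoodPair n b a :=
    fun g => ⟨g.2.1, g.1, g.2.2.1.symm, g.2.2.2.2, g.2.2.2.1⟩
  have step : ∀ {a b c : ℕ}, GoodPair n a b → GoodPair n a c → GoodPair n b c →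
      rootEl Q e a b t ∈ K → rootEl Q e a c t ∈ K := by
    intro a b c hab hac hbc hm
    have hb := hab.2.1
    obtain ⟨ho, ho'⟩ := opIdx_spec hab.2.1
    obtain ⟨-, hc, h1, h2, h3⟩ := hbc
    have hg2 : GoodPair n (opIdx n b) c := ⟨ho, hc, by omega, by omega, by omega⟩
    have h5 := h.root_comp hab hg2 hac (by omega) hm (h.root_one hg2)
    rwa [mul_one] at h5
  have move : ∀ {a b c : ℕ}, GoodPair n a b → GoodPair n a c →
      rootEl Q e a b t ∈ K → rootEl Q e a c t ∈ K := by
    intro a b c hab hac hm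
    obtain ⟨ha, hb, h1, h2, h3⟩ := hab
    obtain ⟨-, hc, h1', h2', h3'⟩ := hac
    by_cases hbc : b = c
    · exact hbc ▸ hm
    by_cases hbc' : b + n = c ∨ c + n = b
    · obtain ⟨d, hd⟩ : ∃ d, d < 2 * n ∧ d ≠ a ∧ a + n ≠ d ∧ d + n ≠ a ∧ d ≠ b ∧ b + n ≠ d ∧ d + n ≠ b := by
        by_cases h0 : a % n ≠ 0 ∧ b % n ≠ 0
        · refine ⟨0, ?_⟩
          obtain ⟨u1, u2⟩ := h0
          have : a ≠ 0 ∧ a ≠ n ∧ b ≠ 0 ∧ b ≠ n := ⟨fun e => u1 (by simp [e]), fun e => u1 (by simp [e]),
            fun e => u2 (by simp [e]), fun e => u2 (by simp [e])⟩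
          omega
        · by_cases h1 : a = 1 ∨ a = n + 1 ∨ b = 1 ∨ b = n + 1
          · refine ⟨2, ?_⟩
            have : (a = 0 ∨ a = n) ∨ (b = 0 ∨ b = n) := by
              simp only [not_and_or, not_not] at h0
              rcases h0 with h0 | h0 <;> [left; right] <;> obtain ⟨k, hk⟩ := Nat.dvd_of_mod_eq_zero h0
              all_goals
                have : k < 2 := Nat.lt_of_mul_lt_mul_left (a := n) (by omega)
                interval_cases k <;> omega
            omega
          · exact ⟨1, by omega⟩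
      exact step ⟨ha, hd.1, by omega, by omega, by omega⟩ ⟨ha, hc, h1', h2', h3'⟩
        ⟨hd.1, hc, by omega, by omega, by omega⟩
        (step ⟨ha, hb, h1, h2, h3⟩ ⟨ha, hd.1, by omega, by omega, by omega⟩ ⟨hb, hd.1, by omega, by omega, by omega⟩ hm)
    · exact step ⟨ha, hb, h1, h2, h3⟩ ⟨ha, hc, h1', h2', h3'⟩ ⟨hb, hc, hbc, by omega, by omega⟩ hm
  obtain ⟨ha, hb, h1, h2, h3⟩ := hg
  by_cases hac : GoodPair n a c
  · exact move (sym hac) hg' (h.root_mem_swap hac (move ⟨ha, hb, h1, h2, h3⟩ hac hm))
  · have hbc : GoodPair n b c := by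
      unfold GoodPair at hac ⊢
      have := hg'.1
      omega
    have hm2 := move (sym ⟨ha, hb, h1, h2, h3⟩) hbc (h.root_mem_swap ⟨ha, hb, h1, h2, h3⟩ hm)
    exact move (sym hbc) hg' (h.root_mem_swap hbc hm2)

/-- The coefficients form a subring containing `Q u`. -/
theorem CycSys.root_all (h : CycSys Q n e ε w u)
    (hgen : ∀ S : Subring F, Q u ∈ S → S = ⊤) {a b : ℕ} (hg : GoodPair n a b) (t : F) :
    rootEl Q e a b t ∈ twoGen Q e n w u := by
  set K := twoGen Q e n w u
  have hn := h.three
  have g0 : GoodPair n 0 (n + 1) := ⟨by omega, by omega, by omega, by omega, by omega⟩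
  have g1 : GoodPair n 0 (n + 2) := ⟨by omega, by omega, by omega, by omega, by omega⟩
  have g2 : GoodPair n 1 (n + 2) := ⟨by omega, by omega, by omega, by omega, by omega⟩
  let S : Subring F :=
    { carrier := {t | rootEl Q e 0 (n + 1) t ∈ K}
      one_mem' := h.root_one g0
      zero_mem' := by
        show eichler Q (e 0) ((0 : F) • e (n + 1)) ∈ K
        rw [zero_smul, eichler_zero (h.sing 0)]; exact K.one_mem
      add_mem' := fun {s t} hs ht => by
        show rootEl Q e 0 (n + 1) (s + t) ∈ K
        rw [← h.root_add g0]; exact K.mul_mem hs ht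
      neg_mem' := fun {t} ht => by
        show rootEl Q e 0 (n + 1) (-t) ∈ K
        exact h.root_mem_neg g0 ht
      mul_mem' := fun {s t} hs ht =>
        h.root_spread g1 (h.root_comp (b := n + 1) (b' := 1) g0 g2 g1 (by omega) hs
          (h.root_spread g0 ht g2)) g0 }
  have hS : S = ⊤ := by
    refine hgen S ?_
    have g3 : GoodPair n (2 * n - 1) 0 := ⟨by omega, by omega, by omega, by omega, by omega⟩
    have h1 := h.root_mem_eps g3 h.split.2.2
    rw [← mul_assoc, h.eps, one_mul] at h1
    exact h.root_spread g3 h1 g0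
  exact h.root_spread g0 (show t ∈ S by rw [hS]; trivial) hg

/-- All multiples of the short root element. -/
theorem CycSys.short_all (h : CycSys Q n e ε w u) (hgen : ∀ S : Subring F, Q u ∈ S → S = ⊤)
    {a : ℕ} (ha : a < 2 * n) (t : F) : eichler Q (e a) (t • u) ∈ twoGen Q e n w u := by
  set K := twoGen Q e n w u
  have hn := h.three
  have key : ∀ b, b < 2 * n → eichler Q (e b) u ∈ K → ∀ a, GoodPair n a b → ∀ t : F,
      eichler Q (e a) (t • u) ∈ K := by
    intro b hb hm a hg t
    obtain ⟨ho, ho'⟩ := opIdx_spec hb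
    obtain ⟨ha, -, h1, h2, h3⟩ := hg
    have hgo : GoodPair n a (opIdx n b) := ⟨ha, ho, by omega, by omega, by omega⟩
    have hm' := K.mul_mem (K.mul_mem hm (h.root_all hgen hgo (t * ε))) (K.inv_mem hm)
    rw [rootEl, eichler_short_long (h.sing a) (h.sing b) (h.short b) (h.short _) (h.short a)
      (h.ortho ha hb h2 h3) (h.ortho ha ho (by omega) (by omega)), h.opp ho hb (by omega)] at hm'
    have h6 := (K.mul_mem_cancel_left (h.root_all hgen hgo (t * ε))).1
      ((K.mul_mem_cancel_right (h.root_all hgen ⟨ha, hb, h1, h2, h3⟩ (-(t * ε * ε * Q u)))).1 hm')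
    rwa [show t * ε * ε = t by linear_combination t * h.eps] at h6
  by_cases ha0 : a = 0 ∨ a = n
  · have h1 := key 0 (by omega) h.split.1 1 ⟨by omega, by omega, by omega, by omega, by omega⟩ 1
    rw [one_smul] at h1
    exact key 1 (by omega) h1 a ⟨ha, by omega, by omega, by omega, by omega⟩ t
  · exact key 0 (by omega) h.split.1 a ⟨ha, by omega, by omega, by omega, by omega⟩ t

/-- The two elements generate every Eichler transformation. -/
theorem CycSys.eichlerSub_le (h : CycSys Q n e ε w u) (hQ : (polB Q).Nondegenerate)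
    (hgen : ∀ S : Subring F, Q u ∈ S → S = ⊤)
    (hspan : ∀ x, (∀ k, k < 2 * n → polB Q (e k) x = 0) →
      x ∈ Submodule.span F (Set.range fun j : ℕ => (w ^ j).1 u)) :
    eichlerSub Q ≤ twoGen Q e n w u := by
  set K := twoGen Q e n w u
  have hn := h.three
  have hw := h.split.2.1
  have hee : ∀ a, a < 2 * n → polB Q (e a) (e a) = 0 := fun a ha => h.ortho ha ha (by omega) (by omega)
  have radical : ∀ a, a < 2 * n → ∀ x, polB Q (e a) x = 0 → eichler Q (e a) x ∈ K := by
    intro a ha x hx
    let A : AddSubgroup V :=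
      { carrier := {y | polB Q (e a) y = 0 ∧ eichler Q (e a) y ∈ K}
        zero_mem' := ⟨map_zero _, by rw [eichler_zero (h.sing a)]; exact K.one_mem⟩
        add_mem' := fun {y z} hy hz => ⟨by rw [map_add, hy.1, hz.1, add_zero], by
          rw [← eichler_mul (h.sing a) hy.1 hz.1]; exact K.mul_mem hy.2 hz.2⟩
        neg_mem' := fun {y} hy => ⟨by rw [map_neg, hy.1, neg_zero], by
          rw [← eichler_inv (h.sing a) hy.1]; exact K.inv_mem hy.2⟩ }
    suffices x ∈ A from this.2
    set c : Fin (2 * n) → F := fun k => ε * polB Q (e (opIdx n k)) x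
    set x₀ := x - ∑ k : Fin (2 * n), c k • e k with hx₀
    have hperp : ∀ j, j < 2 * n → polB Q (e j) x₀ = 0 := by
      intro j hj
      obtain ⟨ho, ho'⟩ := opIdx_spec hj
      rw [hx₀, map_sub, map_sum, Finset.sum_eq_single ⟨opIdx n j, ho⟩]
      · have hoo : opIdx n (opIdx n j) = j := by unfold opIdx at *; split_ifs at * <;> omega
        rw [map_smul, h.opp hj ho (by omega), smul_eq_mul]
        show polB Q (e j) x - ε * polB Q (e (opIdx n (opIdx n j))) x * ε = 0
        rw [hoo]
        linear_combination (-(polB Q (e j) x)) * h.eps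
      · intro k _ hk
        have hk' : (k : ℕ) ≠ opIdx n j := fun e => hk (Fin.ext e)
        rw [map_smul, h.ortho hj k.2 (by omega) (by omega), smul_zero]
      · simp
    have hx0mem : x₀ ∈ A := by
      have hmem := hspan x₀ hperp
      suffices ∀ y ∈ Submodule.span F (Set.range fun j : ℕ => (w ^ j).1 u), ∀ s : F, s • y ∈ A by
        simpa using this x₀ hmem 1
      intro y hy
      induction hy using Submodule.span_induction with
      | mem y hy =>
        obtain ⟨j, rfl⟩ := hy
        intro s
        set a' := (a + (2 * n - j % (2 * n))) % (2 * n)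
        have ha' : a' < 2 * n := Nat.mod_lt _ (by omega)
        have hea : (w ^ j).1 (e a') = e a := by
          have hmod : (a' + j) % (2 * n) = a := by
            have hj' := Nat.mod_add_div j (2 * n)
            have := Nat.mod_lt j (show 0 < 2 * n by omega)
            rw [Nat.mod_add_mod, show a + (2 * n - j % (2 * n)) + j = a + 2 * n * (j / (2 * n) + 1) by
              rw [mul_add, mul_one]; omega, Nat.add_mul_mod_self_left, Nat.mod_eq_of_lt ha]
          rw [h.pow_apply, ← h.e_mod, hmod]
        refine ⟨?_, ?_⟩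
        · rw [map_smul, ← hea, orth_polB_map, h.short, smul_zero]
        · have hm := K.mul_mem (K.mul_mem (K.pow_mem hw j) (h.short_all hgen ha' s)) (K.inv_mem (K.pow_mem hw j))
          rw [eichler_conj _ (h.sing a') (by simp [h.short]), hea, map_smul] at hm
          exact hm
      | zero => intro s; rw [smul_zero]; exact A.zero_mem
      | add y z _ _ hy hz => intro s; rw [smul_add]; exact A.add_mem (hy s) (hz s)
      | smul r y _ hy => intro s; rw [smul_smul]; exact hy _
    have hx' : x = (∑ k : Fin (2 * n), c k • e k) + x₀ := by rw [hx₀]; abel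
    rw [hx']
    refine A.add_mem (A.sum_mem fun k _ => ?_) hx0mem
    by_cases hka : (k : ℕ) = a
    · rw [hka]
      refine ⟨by rw [map_smul, hee a ha, smul_zero], ?_⟩
      have : eichler Q (e a) (c k • e a) = 1 := orth_ext fun z => by
        rw [eichler_apply (h.sing a) (by rw [map_smul, hee a ha, smul_zero]), qmap_smul, h.sing, orth_one_apply]
        simp [smul_smul, mul_comm]
      rw [this]; exact K.one_mem
    · by_cases hop : a + n = k ∨ (k : ℕ) + n = a
      · have hck : c k = 0 := by
          have : opIdx n k = a := by unfold opIdx; split_ifs <;> omega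
          show ε * polB Q (e (opIdx n k)) x = 0
          rw [this, hx, mul_zero]
        rw [hck, zero_smul]; exact A.zero_mem
      · have hg : GoodPair n a k := ⟨ha, k.2, Ne.symm hka, by omega, by omega⟩
        exact ⟨h.root_perp hg _, h.root_all hgen hg _⟩
  let S : Set V := {z | Q z = 0 ∧ ∀ x, polB Q z x = 0 → eichler Q z x ∈ K}
  have hconj : ∀ g ∈ K, ∀ z, z ∈ S → g.1 z ∈ S := by
    intro g hg z hz
    refine ⟨by rw [orth_qmap, hz.1], fun x hx => ?_⟩
    have hx' : polB Q z ((g⁻¹).1 x) = 0 := by rw [← orth_polB_map g, orth_apply_inv_self, hx]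
    have hm := K.mul_mem (K.mul_mem hg (hz.2 _ hx')) (K.inv_mem hg)
    rwa [eichler_conj g hz.1 hx', orth_apply_inv_self] at hm
  have hmain : ∀ z, Q z = 0 → ∀ a, a < 2 * n → polB Q z (e a) ≠ 0 → z ∈ S := by
    intro z hz a ha hza
    obtain ⟨ho, ho'⟩ := opIdx_spec ha
    set b := opIdx n a
    have hε : ε ≠ 0 := fun e0 => by simpa [e0] using h.eps
    set lam := ε / polB Q z (e a)
    have hlam : lam ≠ 0 := div_ne_zero hε hza
    set z' := lam • z
    have hz' : Q z' = 0 := by rw [qmap_smul, hz, mul_zero]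
    have hza' : polB Q z' (e a) = ε := by
      rw [map_smul, LinearMap.smul_apply, smul_eq_mul, div_mul_cancel₀ _ hza]
    set t := ε * polB Q z' (e b)
    set x₀ := z' - e b - t • e a with hx0def
    have hp1 : polB Q (e a) x₀ = 0 := by
      rw [hx0def, map_sub, map_sub, polB_comm (e a) z', hza', map_smul (polB Q (e a)) t (e a), h.opp ha ho (by omega), hee a ha]
      simp
    have hp2 : polB Q (e b) x₀ = 0 := by
      rw [hx0def, map_sub, map_sub, polB_comm (e b) z', map_smul (polB Q (e b)) t (e a), h.opp ho ha (by omega), hee b ho]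
      simp only [smul_eq_mul, t, sub_zero]
      linear_combination (-(polB Q z' (e b))) * h.eps
    have hzeq : z' = e b + x₀ + t • e a := by rw [hx0def]; abel
    have ht : t = -(ε * Q x₀) := by
      have hq := hz'
      rw [hzeq, qmap_add, qmap_add, qmap_smul, h.sing, h.sing, hp2, map_smul, map_add, LinearMap.add_apply,
        h.opp ho ha (by omega), polB_comm x₀ (e a), hp1] at hq
      simp only [smul_eq_mul] at hq
      linear_combination ε * hq - t * h.eps
    have hgK : eichler Q (e a) (ε • x₀) ∈ K := radical a ha _ (by rw [map_smul, hp1, smul_zero])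
    have him : (eichler Q (e a) (ε • x₀)).1 (e b) = z' := by
      rw [eichler_apply (h.sing a) (by rw [map_smul, hp1, smul_zero]), h.opp ho ha (by omega), map_smul, hp2,
        qmap_smul, hzeq, ht]
      simp only [smul_eq_mul, mul_zero, zero_smul, sub_zero, smul_smul, h.eps, one_smul, one_mul, neg_smul]
      rw [mul_comm (Q x₀) ε, sub_eq_add_neg]
    have hmem : z' ∈ S := him ▸ hconj _ hgK _ ⟨h.sing b, radical b ho⟩
    refine ⟨hz, fun x hx => ?_⟩
    have hm := hmem.2 (lam⁻¹ • x) (by simp [z', hx])
    rwa [eichler_smul_left hz hx hlam] at hm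
  refine (Subgroup.closure_le _).2 ?_
  rintro _ ⟨z, x, hz, hzx, rfl⟩
  suffices z = 0 ∨ z ∈ S by
    rcases this with rfl | hS
    · have : eichler Q (0 : V) x = 1 := orth_ext fun y => by simp [eichler_apply hz hzx, orth_one_apply]
      rw [this]; exact K.one_mem
    · exact hS.2 x hzx
  by_cases hz0 : z = 0
  · exact Or.inl hz0
  right
  by_cases hall : ∃ a, a < 2 * n ∧ polB Q z (e a) ≠ 0
  · obtain ⟨a, ha, hza⟩ := hall
    exact hmain z hz a ha hza
  push Not at hall
  obtain ⟨y, hy⟩ := exists_polB_ne_zero hQ hz0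
  have hε : ε ≠ 0 := fun e0 => by simpa [e0] using h.eps
  set y' := y - (ε * polB Q (e 0) y) • e n with hy'def
  have hy0 : polB Q (e 0) y' = 0 := by
    rw [hy'def, map_sub, map_smul, h.opp (by omega) (by omega) (by omega), smul_eq_mul]
    linear_combination (-(polB Q (e 0) y)) * h.eps
  have hzy : polB Q z y' = polB Q z y := by
    rw [hy'def, map_sub, map_smul, hall n (by omega), smul_zero, sub_zero]
  set g := eichler Q (e 0) y'
  have hgK : g ∈ K := radical 0 (by omega) y' hy0
  have hgz : polB Q (g.1 z) (e n) ≠ 0 := by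
    rw [eichler_apply (h.sing 0) hy0, hall 0 (by omega), hzy]
    simp only [zero_smul, mul_zero, add_zero, sub_zero, map_sub, map_smul, LinearMap.sub_apply,
      LinearMap.smul_apply, hall n (by omega), h.opp (show 0 < 2 * n by omega) (show n < 2 * n by omega) (by omega),
      smul_eq_mul, zero_sub, neg_ne_zero]
    exact mul_ne_zero hy hε
  have h1 := hmain _ (by rw [orth_qmap, hz]) n (by omega) hgz
  have h2 := hconj _ (K.inv_mem hgK) _ h1
  rwa [orth_inv_apply_self] at h2

/-- `Ω` is generated by the two elements. -/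
theorem CycSys.commutator_two_generated [Finite F] (h : CycSys Q n e ε w u) (hQ : (polB Q).Nondegenerate)
    (h5 : 5 ≤ Module.finrank F V) (hw : w ∈ commutator (orthGroup Q))
    (hgen : ∀ S : Subring F, Q u ∈ S → S = ⊤)
    (hspan : ∀ x, (∀ k, k < 2 * n → polB Q (e k) x = 0) →
      x ∈ Submodule.span F (Set.range fun j : ℕ => (w ^ j).1 u)) :
    ∃ a b : commutator (orthGroup Q), Subgroup.closure ({a, b} : Set (commutator (orthGroup Q))) = ⊤ := by
  have hn := h.three
  have heq := commutator_eq_eichlerSub hQ h5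
  have hy : rootEl Q e 0 (n + 1) 1 ∈ commutator (orthGroup Q) := by
    rw [heq]; exact eichler_mem (h.sing 0) (h.root_perp ⟨by omega, by omega, by omega, by omega, by omega⟩ 1)
  have hx : shortEl Q e u * w ∈ commutator (orthGroup Q) :=
    mul_mem (by rw [heq]; exact eichler_mem (h.sing 0) (h.short 0)) hw
  refine ⟨⟨_, hy⟩, ⟨_, hx⟩, ?_⟩
  apply Subgroup.map_injective (commutator (orthGroup Q)).subtype_injective
  rw [MonoidHom.map_closure, ← MonoidHom.range_eq_map, Subgroup.range_subtype, Set.image_pair]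
  refine le_antisymm ?_ ?_
  · rw [Subgroup.closure_le]
    rintro g (rfl | rfl) <;> assumption
  · exact heq.le.trans (h.eichlerSub_le hQ hgen hspan)

end H44
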