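import Cfsg.Agent.H44.TwoGen
import Cfsg.Agent.H43.Simple

/-!
Two-element generation of the projective groups of the three standard forms.
-/

set_option autoImplicit false

namespace H44

open H43
open scoped commutatorElement

section Sys

variable {F : Type*} [Field F] {V : Type*} [AddCommGroup V] [Module F V] [FiniteDimensional F V]
  {Q : QuadraticForm F V}

/-- Hyperbolic pairs and an orthogonal vector of norm one. -/
structure HypSys (Q : QuadraticForm F V) (n : ℕ) (c d : ℕ → V) (z : V) : Prop where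
  qc : ∀ i, i < n → Q (c i) = 0
  qd : ∀ i, i < n → Q (d i) = 0
  cc : ∀ i j, i < n → j < n → polB Q (c i) (c j) = 0
  dd : ∀ i j, i < n → j < n → polB Q (d i) (d j) = 0
  cd : ∀ i j, i < n → j < n → polB Q (c i) (d j) = if i = j then 1 else 0
  cz : ∀ i, i < n → polB Q (c i) z = 0
  dz : ∀ i, i < n → polB Q (d i) z = 0
  qz : Q z = 1

/-- Exchange of two neighbouring pairs. -/
noncomputable def swapEl (Q : QuadraticForm F V) (c d : ℕ → V) (j : ℕ) : orthGroup Q :=
  eichler Q (d j) (c (j + 1)) * eichler Q (d (j + 1)) (-c j) * eichler Q (d j) (c (j + 1))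

/-- Product of the neighbouring exchanges. -/
noncomputable def cycEl (Q : QuadraticForm F V) (c d : ℕ → V) : ℕ → orthGroup Q
  | 0 => 1
  | j + 1 => cycEl Q c d j * swapEl Q c d j

variable {n : ℕ} {c d : ℕ → V} {z : V}

theorem HypSys.dc (h : HypSys Q n c d z) {i j : ℕ} (hi : i < n) (hj : j < n) :
    polB Q (d i) (c j) = if i = j then 1 else 0 := by
  rw [polB_comm, h.cd j i hj hi]
  exact if_congr eq_comm rfl rfl

theorem HypSys.swap_spec (h : HypSys Q n c d z) {j : ℕ} (hj : j + 1 < n) :
    (swapEl Q c d j).1 (c j) = c (j + 1) ∧ (swapEl Q c d j).1 (c (j + 1)) = -c j ∧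
    (swapEl Q c d j).1 (d j) = d (j + 1) ∧ (swapEl Q c d j).1 (d (j + 1)) = -d j ∧
    ∀ x, polB Q x (c j) = 0 → polB Q x (d j) = 0 → polB Q x (c (j + 1)) = 0 →
      polB Q x (d (j + 1)) = 0 → (swapEl Q c d j).1 x = x := by
  have hj' : j < n := by omega
  have hA : ∀ x, (eichler Q (d j) (c (j + 1))).1 x
      = x + polB Q x (d j) • c (j + 1) - polB Q x (c (j + 1)) • d j := fun x => by
    rw [eichler_apply (h.qd j hj') (by rw [h.dc hj' hj, if_neg (by omega)]), h.qc _ hj]; simp
  have hB : ∀ x, (eichler Q (d (j + 1)) (-c j)).1 x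
      = x - polB Q x (d (j + 1)) • c j + polB Q x (c j) • d (j + 1) := fun x => by
    rw [eichler_apply (h.qd _ hj) (by rw [map_neg, h.dc hj hj', if_neg (by omega), neg_zero]),
      qmap_neg, h.qc _ hj']
    simp [sub_eq_add_neg]
  refine ⟨?_, ?_, ?_, ?_, fun x h1 h2 h3 h4 => ?_⟩
  all_goals simp only [swapEl, orth_mul_apply, hA, hB]
  · simp [h.cc, h.cd, hj, hj']
  · simp [h.cc, h.cd, hj, hj']; abel
  · simp [h.dd, h.dc, hj, hj']
  · simp [h.dd, h.dc, hj, hj']; abel
  · simp [h1, h2, h3, h4]

theorem HypSys.cyc_spec (h : HypSys Q n c d z) : ∀ {m : ℕ}, m < n →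
    (∀ i, i < n → (cycEl Q c d m).1 (c i)
      = if i < m then c (i + 1) else if i = m then (-1 : F) ^ m • c 0 else c i) ∧
    (∀ i, i < n → (cycEl Q c d m).1 (d i)
      = if i < m then d (i + 1) else if i = m then (-1 : F) ^ m • d 0 else d i) ∧
    ∀ x, (∀ i, i < n → polB Q x (c i) = 0) → (∀ i, i < n → polB Q x (d i) = 0) →
      (cycEl Q c d m).1 x = x := by
  intro m hm
  induction m with
  | zero =>
    refine ⟨fun i hi => ?_, fun i hi => ?_, fun x _ _ => rfl⟩ <;>
      (rw [if_neg (by omega)]; split_ifs with h0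
       · subst h0; simp [cycEl]
       · rfl)
  | succ m ih =>
    obtain ⟨hc, hd, hx⟩ := ih (by omega)
    obtain ⟨s1, s2, s3, s4, s5⟩ := h.swap_spec hm
    refine ⟨fun i hi => ?_, fun i hi => ?_, fun x h1 h2 => ?_⟩
    · rw [cycEl, orth_mul_apply]
      by_cases e1 : i = m
      · subst e1; rw [s1, hc _ hm]; simp
      by_cases e2 : i = m + 1
      · subst e2; rw [s2, map_neg, hc m (by omega)]; simp [pow_succ]
      rw [s5 _ (h.cc i m hi (by omega)) (by rw [h.cd i m hi (by omega), if_neg e1])
        (h.cc i _ hi hm) (by rw [h.cd i _ hi hm, if_neg e2]), hc i hi]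
      split_ifs <;> first | rfl | omega
    · rw [cycEl, orth_mul_apply]
      by_cases e1 : i = m
      · subst e1; rw [s3, hd _ hm]; simp
      by_cases e2 : i = m + 1
      · subst e2; rw [s4, map_neg, hd m (by omega)]; simp [pow_succ]
      rw [s5 _ (by rw [h.dc hi (show m < n by omega), if_neg e1]) (h.dd i m hi (by omega))
        (by rw [h.dc hi hm, if_neg e2]) (h.dd i _ hi hm), hd i hi]
      split_ifs <;> first | rfl | omega
    · rw [cycEl, orth_mul_apply, s5 x (h1 m (by omega)) (h2 m (by omega)) (h1 _ hm) (h2 _ hm),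
        hx x h1 h2]

theorem HypSys.cyc_mem [Finite F] (h : HypSys Q n c d z) (hQ : (polB Q).Nondegenerate)
    (h5 : 5 ≤ Module.finrank F V) : ∀ {m : ℕ}, m < n → cycEl Q c d m ∈ commutator (orthGroup Q) := by
  intro m hm
  rw [commutator_eq_eichlerSub hQ h5]
  induction m with
  | zero => exact one_mem _
  | succ m ih =>
    have hA : eichler Q (d m) (c (m + 1)) ∈ eichlerSub Q :=
      eichler_mem (h.qd m (by omega)) (by rw [h.dc (by omega) hm, if_neg (by omega)])
    exact mul_mem (ih (by omega)) (mul_mem (mul_mem hA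
      (eichler_mem (h.qd _ hm) (by rw [map_neg, h.dc hm (by omega), if_neg (by omega), neg_zero]))) hA)

theorem HypSys.two_generated [Finite F] (h : HypSys Q n c d z) (h3 : 3 ≤ n)
    (hQ : (polB Q).Nondegenerate) (h5 : 5 ≤ Module.finrank F V) {u : V}
    (hcu : ∀ i, i < n → polB Q (c i) u = 0) (hdu : ∀ i, i < n → polB Q (d i) u = 0)
    (hgen : ∀ S : Subring F, Q u ∈ S → S = ⊤) (huz : polB Q u z ≠ 0)
    (hW : ∀ x, (∀ i, i < n → polB Q (c i) x = 0) → (∀ i, i < n → polB Q (d i) x = 0) →
      ∃ s t : F, x = s • u + t • z) :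
    ∃ a b : commutator (orthGroup Q), Subgroup.closure ({a, b} : Set (commutator (orthGroup Q))) = ⊤ := by
  set σ : F := (-1) ^ (n - 1) with hσdef
  have hσ : σ * σ = 1 := by rw [hσdef, ← mul_pow, neg_one_mul, neg_neg, one_pow]
  set ε := -σ with hεdef
  set v := c 0 + d 0 with hvdef
  have hv : Q v = 1 := by
    rw [hvdef, qmap_add, h.qc 0 (by omega), h.qd 0 (by omega), h.cd 0 0 (by omega) (by omega)]; simp
  set r := refl Q v * refl Q z with hrdef
  set p := cycEl Q c d (n - 1)
  set w := r * p with hwdef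
  obtain ⟨pc, pd, px⟩ := h.cyc_spec (show n - 1 < n by omega)
  have hwc : w ∈ commutator (orthGroup Q) := by
    obtain ⟨g, hg⟩ := exists_refl_conj hQ (u := v) (v := z) (by rw [hv]; exact one_ne_zero)
      (by rw [h.qz]; exact one_ne_zero) (by rw [hv, h.qz])
    refine mul_mem ?_ (h.cyc_mem hQ h5 (by omega))
    have : r = ⁅refl Q v, g⁆ := by
      rw [hrdef, commutatorElement_def, refl_inv, ← hg]; group
    rw [this, commutator_def]
    exact Subgroup.commutator_mem_commutator trivial trivial
  have rc : ∀ i, i < n → r.1 (c i) = if i = 0 then -d 0 else c i := by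
    intro i hi
    rw [hrdef, orth_mul_apply, refl_fix (h.cz i hi), refl_apply, hv, hvdef, map_add, h.cc i 0 hi (by omega),
      h.cd i 0 hi (by omega)]
    split_ifs with h0
    · subst h0; simp
    · simp
  have rd : ∀ i, i < n → r.1 (d i) = if i = 0 then -c 0 else d i := by
    intro i hi
    rw [hrdef, orth_mul_apply, refl_fix (h.dz i hi), refl_apply, hv, hvdef, map_add, h.dd i 0 hi (by omega),
      h.dc hi (show 0 < n by omega)]
    split_ifs with h0
    · subst h0; simp
    · simp
  have wc : ∀ i, i < n → w.1 (c i) = if i + 1 < n then c (i + 1) else ε • d 0 := by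
    intro i hi
    rw [hwdef, orth_mul_apply, pc i hi]
    by_cases h0 : i + 1 < n
    · rw [if_pos (by omega), if_pos h0, rc _ h0, if_neg (by omega)]
    · rw [if_neg (by omega), if_neg h0, if_pos (by omega), map_smul, rc 0 (by omega), if_pos rfl, hεdef,
        smul_neg, neg_smul]
  have wd : ∀ i, i < n → w.1 (d i) = if i + 1 < n then d (i + 1) else ε • c 0 := by
    intro i hi
    rw [hwdef, orth_mul_apply, pd i hi]
    by_cases h0 : i + 1 < n
    · rw [if_pos (by omega), if_pos h0, rd _ h0, if_neg (by omega)]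
    · rw [if_neg (by omega), if_neg h0, if_pos (by omega), map_smul, rd 0 (by omega), if_pos rfl, hεdef,
        smul_neg, neg_smul]
  have hεε : ε * ε = 1 := by rw [hεdef, neg_mul_neg, hσ]
  let e : ℕ → V := fun k => if k % (2 * n) < n then c (k % (2 * n)) else ε • d (k % (2 * n) - n)
  have hsys : CycSys Q n e ε w u := by
    refine ⟨h3, hεε, fun k => by simp [e], fun k => ?_, fun a b ha hb => ?_, fun k => ?_, fun k => ?_⟩
    · have := Nat.mod_lt k (show 0 < 2 * n by omega)
      simp only [e]; split_ifs with h0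
      · exact h.qc _ h0
      · rw [qmap_smul, h.qd _ (by omega), mul_zero]
    · simp only [e, Nat.mod_eq_of_lt ha, Nat.mod_eq_of_lt hb]
      by_cases h1 : a < n <;> by_cases h2 : b < n
      · rw [if_pos h1, if_pos h2, h.cc a b h1 h2, if_neg (by omega)]
      · rw [if_pos h1, if_neg h2, map_smul, h.cd a (b - n) h1 (by omega), smul_eq_mul]
        split_ifs <;> first | omega | simp
      · rw [if_neg h1, if_pos h2, map_smul, LinearMap.smul_apply, h.dc (show a - n < n by omega) h2, smul_eq_mul]
        split_ifs <;> first | omega | simp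
      · rw [if_neg h1, if_neg h2, map_smul, map_smul, LinearMap.smul_apply, h.dd (a - n) (b - n) (by omega) (by omega),
          if_neg (by omega)]
        simp
    · have hk := Nat.mod_lt k (show 0 < 2 * n by omega)
      have hs : (k + 1) % (2 * n) = if k % (2 * n) + 1 < 2 * n then k % (2 * n) + 1 else 0 := by
        rw [← Nat.mod_add_mod]
        split_ifs with h0
        · exact Nat.mod_eq_of_lt h0
        · rw [show k % (2 * n) + 1 = 2 * n by omega, Nat.mod_self]
      simp only [e, hs]
      by_cases h1 : k % (2 * n) < n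
      · rw [if_pos h1, wc _ h1, if_pos (show k % (2 * n) + 1 < 2 * n by omega)]
        split_ifs <;> first | omega | rfl | (rw [show k % (2 * n) + 1 - n = 0 by omega])
      · rw [if_neg h1, map_smul, wd _ (show k % (2 * n) - n < n by omega)]
        by_cases h2 : k % (2 * n) + 1 < 2 * n
        · rw [if_pos h2, if_pos (by omega), if_neg (by omega),
            show k % (2 * n) + 1 - n = k % (2 * n) - n + 1 by omega]
        · rw [if_neg h2, if_neg (by omega), if_pos (by omega), smul_smul, hεε, one_smul]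
    · have := Nat.mod_lt k (show 0 < 2 * n by omega)
      simp only [e]; split_ifs with h0
      · exact hcu _ h0
      · rw [map_smul, LinearMap.smul_apply, hdu _ (by omega), smul_zero]
  refine hsys.commutator_two_generated hQ h5 hwc hgen fun x hx => ?_
  obtain ⟨s, t, rfl⟩ := hW x (fun i hi => by
      have := hx i (by omega)
      rwa [show e i = c i by simp [e, Nat.mod_eq_of_lt (show i < 2 * n by omega), hi]] at this)
    (fun i hi => by
      have := hx (n + i) (by omega)
      rw [show e (n + i) = ε • d i by simp [e, Nat.mod_eq_of_lt (show n + i < 2 * n by omega)],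
        map_smul, LinearMap.smul_apply, smul_eq_mul] at this
      exact (mul_eq_zero.1 this).resolve_left (fun e0 => by simp [e0] at hεε))
  set U := Submodule.span F (Set.range fun j : ℕ => (w ^ j).1 u)
  have hu : u ∈ U := Submodule.subset_span ⟨0, rfl⟩
  have hwu : w.1 u ∈ U := Submodule.subset_span ⟨1, by simp⟩
  have hwu' : w.1 u = u - polB Q u z • z := by
    rw [hwdef, orth_mul_apply, px u (fun i hi => by rw [polB_comm]; exact hcu i hi)
      (fun i hi => by rw [polB_comm]; exact hdu i hi), hrdef, orth_mul_apply, refl_apply (v := z), h.qz,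
      inv_one, one_mul, refl_fix]
    simp [hvdef, polB_comm u (c 0), polB_comm u (d 0), polB_comm z (c 0), polB_comm z (d 0),
      hcu 0 (by omega), hdu 0 (by omega), h.cz 0 (by omega), h.dz 0 (by omega)]
  have hz : z = (polB Q u z)⁻¹ • (u - w.1 u) := by
    rw [hwu', sub_sub_cancel, smul_smul, inv_mul_cancel₀ huz, one_smul]
  refine U.add_mem (U.smul_mem _ hu) (U.smul_mem _ ?_)
  rw [hz]; exact U.smul_mem _ (U.sub_mem hu hwu)

end Sys

section Fields

variable {F : Type*} [Field F] [Fintype F]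

/-- A subring containing the square of a generator of the units is everything. -/
theorem subring_eq_top {ζ : Fˣ} (hζ : ∀ x : Fˣ, x ∈ Subgroup.zpowers ζ) (S : Subring F)
    (hS : (ζ : F) * ζ ∈ S) : S = ⊤ := by
  classical
  set T : Finset F := Finset.univ.filter (· ∈ S)
  have hcover : (Finset.univ : Finset F) ⊆ T ∪ (T.erase 0).image (fun x => (ζ : F) * x) := by
    intro x _
    rcases eq_or_ne x 0 with rfl | hx
    · simp [T, S.zero_mem]
    obtain ⟨k, hk⟩ := mem_powers_iff_mem_zpowers.2 (hζ (Units.mk0 x hx))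
    have hx' : x = (ζ : F) ^ k := by
      have := congrArg Units.val hk
      simpa using this.symm
    have hp : ∀ j, ((ζ : F) * ζ) ^ j ∈ S := fun j => S.pow_mem hS j
    rw [Finset.mem_union]
    rcases Nat.even_or_odd' k with ⟨j, rfl | rfl⟩
    · left; simp [T, hx', pow_mul, pow_two, hp j]
    · right
      simp only [Finset.mem_image, Finset.mem_erase, T, Finset.mem_filter, Finset.mem_univ, true_and]
      exact ⟨((ζ : F) * ζ) ^ j, ⟨pow_ne_zero _ (mul_ne_zero ζ.ne_zero ζ.ne_zero), hp j⟩, by
        rw [hx', pow_succ', pow_mul, pow_two]⟩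
  have h1 := (Finset.card_le_card hcover).trans (Finset.card_union_le _ _)
  have h2 := Finset.card_image_le (s := T.erase 0) (f := fun x => (ζ : F) * x)
  have h0 : (0 : F) ∈ T := by simp [T, S.zero_mem]
  rw [Finset.card_erase_of_mem h0] at h2
  have h3 := S.toAddSubgroup.card_mul_index
  have hT : Nat.card S.toAddSubgroup = T.card := by
    rw [Nat.card_eq_fintype_card]
    exact Fintype.card_of_subtype _ (fun x => by simp [T])
  rw [hT, Nat.card_eq_fintype_card] at h3
  have hpos : 0 < T.card := Finset.card_pos.2 ⟨0, h0⟩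
  have hidx : S.toAddSubgroup.index = 1 := by
    have h4 : S.toAddSubgroup.index < 2 := by
      by_contra hge
      have h5 : T.card * 2 ≤ T.card * S.toAddSubgroup.index := Nat.mul_le_mul_left _ (by omega)
      rw [Finset.card_univ] at h1
      omega
    have := S.toAddSubgroup.index_ne_zero_of_finite
    omega
  rw [eq_top_iff]
  intro x _
  have := AddSubgroup.index_eq_one.1 hidx
  show x ∈ S.toAddSubgroup
  rw [this]; trivial

variable (F) in
/-- A generator of the units. -/
theorem exists_unit_gen : ∃ ζ : Fˣ, ∀ x : Fˣ, x ∈ Subgroup.zpowers ζ := IsCyclic.exists_generator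

/-- Some square multiple generates the field. -/
theorem exists_gen_sq_mul {c : F} (hc : c ≠ 0) :
    ∃ s : F, s ≠ 0 ∧ ∀ S : Subring F, s * s * c ∈ S → S = ⊤ := by
  obtain ⟨ζ, hζ⟩ := exists_unit_gen F
  obtain ⟨k, hk⟩ := mem_powers_iff_mem_zpowers.2 (hζ (Units.mk0 c hc))
  have hc' : c = (ζ : F) ^ k := by
    have := congrArg Units.val hk
    simpa using this.symm
  have hz := ζ.ne_zero
  rcases Nat.even_or_odd' k with ⟨j, rfl | rfl⟩
  · refine ⟨(ζ : F) * ((ζ : F) ^ j)⁻¹, mul_ne_zero hz (inv_ne_zero (pow_ne_zero _ hz)), fun S hS => ?_⟩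
    refine subring_eq_top hζ S ?_
    convert hS using 1
    rw [hc', two_mul, pow_add]
    field_simp
  · refine ⟨((ζ : F) ^ j)⁻¹, inv_ne_zero (pow_ne_zero _ hz), fun S hS => ?_⟩
    have he : ((ζ : F) ^ j)⁻¹ * ((ζ : F) ^ j)⁻¹ * c = ζ := by
      rw [hc', two_mul, pow_succ, pow_add]
      field_simp
    rw [he] at hS
    exact subring_eq_top hζ S (S.mul_mem hS hS)

/-- A field-generating element other than one and minus one, possibly zero. -/
theorem exists_gen_avoid :
    ∃ t : F, t ≠ 1 ∧ t ≠ -1 ∧ ∀ S : Subring F, t ∈ S → S = ⊤ := by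
  obtain ⟨ζ, hζ⟩ := exists_unit_gen F
  by_cases h : (ζ : F) * ζ = 1
  · exact ⟨0, zero_ne_one, (neg_ne_zero.2 one_ne_zero).symm,
      fun S _ => subring_eq_top hζ S (h ▸ S.one_mem)⟩
  · exact ⟨ζ, fun e => h (by rw [e, one_mul]), fun e => h (by rw [e]; ring),
      fun S hS => subring_eq_top hζ S (S.mul_mem hS hS)⟩

end Fields

section Project

variable {F : Type*} [Field F] {ι : Type} [Fintype ι] [DecidableEq ι]

theorem pomega_two_generated (Q : QuadraticForm F (ι → F))
    (h : ∃ a b : commutator (orthGroup Q), Subgroup.closure ({a, b} : Set (commutator (orthGroup Q))) = ⊤) :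
    ∃ a b : Cfsg.POmega F ⇑Q, Subgroup.closure ({a, b} : Set (Cfsg.POmega F ⇑Q)) = ⊤ := by
  obtain ⟨a, b, hab⟩ := h
  let f : commutator (orthGroup Q) →* Cfsg.POmega F ⇑Q :=
    (QuotientGroup.mk' _).comp (omegaEquiv Q).symm.toMonoidHom
  have hf : Function.Surjective f :=
    (QuotientGroup.mk'_surjective _).comp (omegaEquiv Q).symm.surjective
  refine ⟨f a, f b, ?_⟩
  rw [← Set.image_pair f a b, ← MonoidHom.map_closure, hab, Subgroup.map_top_of_surjective f hf]

end Project

section Models

variable {F : Type*} [Field F] [Fintype F]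

theorem plus_two_generated (m : ℕ) (hm : 4 ≤ m) :
    ∃ a b : commutator (orthGroup (qPlus m F)), Subgroup.closure ({a, b} : Set _) = ⊤ := by
  classical
  let c : ℕ → (Fin m ⊕ Fin m → F) := fun i => if h : i < m then Pi.single (Sum.inl ⟨i, h⟩) 1 else 0
  let d : ℕ → (Fin m ⊕ Fin m → F) := fun i => if h : i < m then Pi.single (Sum.inr ⟨i, h⟩) 1 else 0
  let k : Fin m := ⟨m - 1, by omega⟩
  let ek : Fin m ⊕ Fin m → F := Pi.single (Sum.inl k) 1
  let fk : Fin m ⊕ Fin m → F := Pi.single (Sum.inr k) 1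
  obtain ⟨t, ht1, ht2, hgen⟩ := exists_gen_avoid (F := F)
  have hqd : ∀ (l : Fin m) (a b : F),
      qPlus m F (a • Pi.single (Sum.inl l) 1 + b • Pi.single (Sum.inr l) 1) = a * b := by
    intro l a b
    rw [coe_qPlus]; simp [Cfsg.quadFormPlus, Pi.single_apply]
  have hne : ∀ i (hi : i < m - 1), (⟨i, by omega⟩ : Fin m) ≠ k := fun i hi e => by
    have := congrArg Fin.val e; simp [k] at this; omega
  have hsys : HypSys (qPlus m F) (m - 1) c d (ek + fk) := by
    refine ⟨fun i hi => ?_, fun i hi => ?_, fun i j hi hj => ?_, fun i j hi hj => ?_,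
      fun i j hi hj => ?_, fun i hi => ?_, fun i hi => ?_, ?_⟩
    · simpa [c, show i < m by omega] using hqd ⟨i, by omega⟩ 1 0
    · simpa [d, show i < m by omega] using hqd ⟨i, by omega⟩ 0 1
    · simp [c, show i < m by omega, show j < m by omega, polB_qPlus, Pi.single_apply]
    · simp [d, show i < m by omega, show j < m by omega, polB_qPlus, Pi.single_apply]
    · simp [c, d, show i < m by omega, show j < m by omega, polB_qPlus, Pi.single_apply, Fin.mk.injEq, eq_comm]
    · simp [c, show i < m by omega, ek, fk, polB_qPlus, Pi.single_apply, (hne i hi).symm]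
    · simp [d, show i < m by omega, ek, fk, polB_qPlus, Pi.single_apply, (hne i hi).symm]
    · simpa [ek, fk] using hqd k 1 1
  refine hsys.two_generated (u := ek + t • fk) (by omega) (qPlus_nondeg m) ?_ ?_ ?_ ?_ ?_ ?_
  · rw [finrank_qPlus]; omega
  · intro i hi
    simp [c, show i < m by omega, ek, fk, polB_qPlus, Pi.single_apply, (hne i hi).symm]
  · intro i hi
    simp [d, show i < m by omega, ek, fk, polB_qPlus, Pi.single_apply, (hne i hi).symm]
  · intro S hS
    refine hgen S ?_
    have := hqd k 1 t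
    rw [one_smul, one_mul] at this
    rwa [this] at hS
  · simp [ek, fk, polB_qPlus, Pi.single_apply]
    exact fun e => ht2 (by linear_combination e)
  · intro x hc hd
    have h1 : t - 1 ≠ 0 := sub_ne_zero.2 ht1
    refine ⟨(x (.inr k) - x (.inl k)) / (t - 1),
      x (.inl k) - (x (.inr k) - x (.inl k)) / (t - 1), funext fun j => ?_⟩
    rcases j with j | j
    all_goals by_cases hj : j = k
    · subst hj; simp [ek, fk]
    · have := hd j.1 (by have := j.2; simp [k, Fin.ext_iff] at hj; omega)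
      simp [d, j.2, polB_qPlus, Pi.single_apply] at this
      simp [ek, fk, hj, this]
    · subst hj; simp [ek, fk]; field_simp; ring
    · have := hc j.1 (by have := j.2; simp [k, Fin.ext_iff] at hj; omega)
      simp [c, j.2, polB_qPlus, Pi.single_apply] at this
      simp [ek, fk, hj, this]

theorem odd_two_generated (h2 : (2 : F) ≠ 0) (m : ℕ) (hm : 3 ≤ m) :
    ∃ a b : commutator (orthGroup (qOdd m F)), Subgroup.closure ({a, b} : Set _) = ⊤ := by
  classical
  let c : ℕ → (Unit ⊕ (Fin m ⊕ Fin m) → F) := fun i =>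
    if h : i < m then Pi.single (Sum.inr (Sum.inl ⟨i, h⟩)) 1 else 0
  let d : ℕ → (Unit ⊕ (Fin m ⊕ Fin m) → F) := fun i =>
    if h : i < m then Pi.single (Sum.inr (Sum.inr ⟨i, h⟩)) 1 else 0
  let z : Unit ⊕ (Fin m ⊕ Fin m) → F := Pi.single (Sum.inl ()) 1
  obtain ⟨ζ, hζ⟩ := exists_unit_gen F
  have hqc : ∀ (s : Fin m ⊕ Fin m), qOdd m F (Pi.single (Sum.inr s) 1) = 0 := by
    intro s
    rw [coe_qOdd]
    rcases s with i | i <;> simp [Cfsg.quadFormOdd, Pi.single_apply]
  have hqz : qOdd m F z = 1 := by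
    rw [coe_qOdd]; simp [Cfsg.quadFormOdd, z]
  have hsys : HypSys (qOdd m F) m c d z := by
    refine ⟨fun i hi => ?_, fun i hi => ?_, fun i j hi hj => ?_, fun i j hi hj => ?_,
      fun i j hi hj => ?_, fun i hi => ?_, fun i hi => ?_, hqz⟩
    · simpa [c, hi] using hqc (.inl ⟨i, hi⟩)
    · simpa [d, hi] using hqc (.inr ⟨i, hi⟩)
    · simp [c, hi, hj, polB_qOdd, Pi.single_apply]
    · simp [d, hi, hj, polB_qOdd, Pi.single_apply]
    · simp [c, d, hi, hj, polB_qOdd, Pi.single_apply, Fin.mk.injEq, eq_comm]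
    · simp [c, z, hi, polB_qOdd, Pi.single_apply]
    · simp [d, z, hi, polB_qOdd, Pi.single_apply]
  refine hsys.two_generated (u := (ζ : F) • z) hm (qOdd_nondeg h2 m) ?_ ?_ ?_ ?_ ?_ ?_
  · rw [finrank_qOdd]; omega
  · intro i hi; rw [map_smul, hsys.cz i hi, smul_zero]
  · intro i hi; rw [map_smul, hsys.dz i hi, smul_zero]
  · intro S hS
    rw [qmap_smul, hqz, mul_one] at hS
    exact subring_eq_top hζ S hS
  · simp [polB_self, hqz, h2]
  · intro x hc hd
    refine ⟨0, x (.inl ()), funext fun j => ?_⟩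
    rcases j with j | j | j
    · simp [z]
    · have := hd j.1 j.2
      simp [d, j.2, polB_qOdd, Pi.single_apply] at this
      simp [z, this]
    · have := hc j.1 j.2
      simp [c, j.2, polB_qOdd, Pi.single_apply] at this
      simp [z, this]

theorem minus_two_generated (m : ℕ) (hm : 3 ≤ m) (a b : F)
    (hab : ∀ z₁ z₂ : F, z₁ ^ 2 + a * z₁ * z₂ + b * z₂ ^ 2 = 0 → z₁ = 0 ∧ z₂ = 0) :
    ∃ g h : commutator (orthGroup (qMinus m F a b)), Subgroup.closure ({g, h} : Set _) = ⊤ := by
  classical
  let c : ℕ → ((Fin m ⊕ Fin m) ⊕ Fin 2 → F) := fun i =>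
    if h : i < m then Pi.single (Sum.inl (Sum.inl ⟨i, h⟩)) 1 else 0
  let d : ℕ → ((Fin m ⊕ Fin m) ⊕ Fin 2 → F) := fun i =>
    if h : i < m then Pi.single (Sum.inl (Sum.inr ⟨i, h⟩)) 1 else 0
  let z : (Fin m ⊕ Fin m) ⊕ Fin 2 → F := Pi.single (Sum.inr 0) 1
  let z' : (Fin m ⊕ Fin m) ⊕ Fin 2 → F := Pi.single (Sum.inr 1) 1
  obtain ⟨x₀, hx₀⟩ : ∃ x₀ : F, 2 * x₀ + a ≠ 0 := by
    by_cases ha : a = 0
    · refine ⟨1, ?_⟩
      intro h2
      have := disc_ne_zero_of_anisotropic hab
      apply this
      rw [ha] at h2 ⊢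
      linear_combination (-2 * b) * h2
    · exact ⟨0, by simpa using ha⟩
  set c₀ : F := x₀ ^ 2 + a * x₀ + b
  have hc₀ : c₀ ≠ 0 := fun e => by
    have := hab x₀ 1 (by linear_combination e)
    exact one_ne_zero this.2
  obtain ⟨s, hs, hgen⟩ := exists_gen_sq_mul hc₀
  have hqc : ∀ (l : Fin m ⊕ Fin m), qMinus m F a b (Pi.single (Sum.inl l) 1) = 0 := by
    intro l
    rw [coe_qMinus]
    rcases l with i | i <;> simp [Cfsg.quadFormMinus, Pi.single_apply]
  have hq : ∀ α β : F, qMinus m F a b (α • z + β • z') = α ^ 2 + a * α * β + b * β ^ 2 := by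
    intro α β
    rw [coe_qMinus]; simp [Cfsg.quadFormMinus, z, z', Pi.single_apply]
  have hsys : HypSys (qMinus m F a b) m c d z := by
    refine ⟨fun i hi => ?_, fun i hi => ?_, fun i j hi hj => ?_, fun i j hi hj => ?_,
      fun i j hi hj => ?_, fun i hi => ?_, fun i hi => ?_, ?_⟩
    · simpa [c, hi] using hqc (.inl ⟨i, hi⟩)
    · simpa [d, hi] using hqc (.inr ⟨i, hi⟩)
    · simp [c, hi, hj, polB_qMinus, Pi.single_apply]
    · simp [d, hi, hj, polB_qMinus, Pi.single_apply]
    · simp [c, d, hi, hj, polB_qMinus, Pi.single_apply, Fin.mk.injEq, eq_comm]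
    · simp [c, z, hi, polB_qMinus, Pi.single_apply]
    · simp [d, z, hi, polB_qMinus, Pi.single_apply]
    · simpa using hq 1 0
  refine hsys.two_generated (u := (s * x₀) • z + s • z') hm (qMinus_nondeg m hab) ?_ ?_ ?_ ?_ ?_ ?_
  · rw [finrank_qMinus]; omega
  · intro i hi; simp [c, z, z', hi, polB_qMinus, Pi.single_apply]
  · intro i hi; simp [d, z, z', hi, polB_qMinus, Pi.single_apply]
  · intro S hS
    refine hgen S ?_
    rw [hq] at hS
    convert hS using 1; ring
  · simp [z, z', polB_qMinus, Pi.single_apply]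
    intro e
    exact hx₀ ((mul_eq_zero.1 (show s * (2 * x₀ + a) = 0 by linear_combination e)).resolve_left hs)
  · intro x hc hd
    refine ⟨x (.inr 1) / s, x (.inr 0) - x (.inr 1) * x₀, funext fun j => ?_⟩
    rcases j with (j | j) | j
    · have := hd j.1 j.2
      simp [d, j.2, polB_qMinus, Pi.single_apply] at this
      simp [z, z', this]
    · have := hc j.1 j.2
      simp [c, j.2, polB_qMinus, Pi.single_apply] at this
      simp [z, z', this]
    · fin_cases j <;> simp [z, z'] <;> field_simp <;> ring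

end Models

end H44
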