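import Cfsg.Agent.H44.TwoGenModels
import Cfsg.Agent.H48.Form

/-!
Two elements generating the symplectic group: a torus element times a transvection, and a short root element
times a monomial element (for two elements: an element of order three times a transvection, and the monomial one).
-/

set_option autoImplicit false

namespace H44.SpGen

open H48

variable {F : Type*} [Field F] {n : ℕ}

local notation "V" => (Fin n ⊕ Fin n → F)
local notation "Sp" => Matrix.symplecticGroup (Fin n) F

/-- A vector of the coordinate plane `i`. -/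
def pv (i : Fin n) (a b : F) : V := a • Pi.single (Sum.inl i) 1 + b • Pi.single (Sum.inr i) 1

theorem pv_inl (i j : Fin n) (a b : F) : pv i a b (Sum.inl j) = if j = i then a else 0 := by
  by_cases h : j = i <;> simp [pv, h]

theorem pv_inr (i j : Fin n) (a b : F) : pv i a b (Sum.inr j) = if j = i then b else 0 := by
  by_cases h : j = i <;> simp [pv, h]

theorem pv_add (i : Fin n) (a b c d : F) : pv i a b + pv i c d = pv i (a + c) (b + d) := by
  simp only [pv]; module

theorem pv_smul (i : Fin n) (t a b : F) : t • pv i a b = pv i (t * a) (t * b) := by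
  simp only [pv]; module

@[simp] theorem pv_zero (i : Fin n) : pv i (0 : F) 0 = 0 := by simp [pv]

theorem ext_pv {g h : Matrix.symplecticGroup (Fin n) F}
    (H1 : ∀ i : Fin n, g • pv i (1 : F) 0 = h • pv i (1 : F) 0)
    (H2 : ∀ i : Fin n, g • pv i (0 : F) 1 = h • pv i (0 : F) 1) :
    g = h := by
  refine Subtype.ext (Matrix.ext_of_mulVec_single fun x => ?_)
  rcases x with i | i
  · have := H1 i; simp [pv] at this; exact this
  · have := H2 i; simp [pv] at this; exact this

theorem sf_pv (x : V) (i : Fin n) (a b : F) :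
    sf x (pv i a b) = x (Sum.inr i) * a - x (Sum.inl i) * b := by
  rw [sf_apply, Finset.sum_eq_single i]
  · simp [pv_inl, pv_inr]
  · intro j _ hj; simp [pv_inl, pv_inr, hj]
  · simp

theorem single_inl (i : Fin n) : (Pi.single (Sum.inl i) 1 : V) = pv i 1 0 := by simp [pv]

theorem single_inr (i : Fin n) : (Pi.single (Sum.inr i) 1 : V) = pv i 0 1 := by simp [pv]

theorem ext_basis {g h : Sp} (H : ∀ i, g • (Pi.single i 1 : V) = h • Pi.single i 1) : g = h :=
  Subtype.ext (Matrix.ext_of_mulVec_single H)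

/-- A family with the standard Gram matrix is the image of the standard basis. -/
theorem exists_of_gram (v : Fin n ⊕ Fin n → V)
    (h : ∀ i j, sf (v i) (v j) = sf (Pi.single i (1 : F) : V) (Pi.single j 1)) :
    ∃ g : Sp, ∀ i, g • (Pi.single i 1 : V) = v i := by
  have hli : LinearIndependent F v := by
    rw [Fintype.linearIndependent_iff]
    intro a ha
    have h0 : ∀ y : V, sf a y = 0 := by
      intro y
      rw [pi_eq_sum_univ' y, map_sum]
      refine Finset.sum_eq_zero fun j _ => ?_
      have h1 := congrArg (sf · (v j)) ha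
      simp only [map_sum, LinearMap.sum_apply, map_smul, LinearMap.smul_apply, h, map_zero,
        LinearMap.zero_apply] at h1
      rw [map_smul]
      conv_lhs => rw [pi_eq_sum_univ' a]
      simp only [map_sum, LinearMap.sum_apply, map_smul, LinearMap.smul_apply, h1, smul_zero]
    exact congrFun (eq_zero_of_sf h0)
  obtain ⟨g, -, H⟩ := witt (fun i : Fin n ⊕ Fin n => (Pi.single i (1 : F) : V)) v
    (Pi.linearIndependent_single_one _ _) hli (fun i j => (h i j).symm)
  exact ⟨g, H⟩

variable [NeZero n]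

/-- The images of the basis under the cyclic monomial element. -/
def cycImg : Fin n ⊕ Fin n → V
  | Sum.inl i => if h : i.val + 1 < n then pv ⟨i.val + 1, h⟩ 1 0 else pv 0 0 1
  | Sum.inr i => if h : i.val + 1 < n then pv ⟨i.val + 1, h⟩ 0 1 else pv 0 (-1) 0

theorem exists_cyc : ∃ w : Sp, ∀ i, w • (Pi.single i 1 : V) = cycImg i := by
  refine exists_of_gram _ ?_
  rintro (i | i) (j | j) <;> simp only [cycImg, single_inl, single_inr] <;>
    by_cases hi : i.val + 1 < n <;> by_cases hj : j.val + 1 < n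
  all_goals
    have := i.2
    have := j.2
    simp [hi, hj, sf_pv, pv_inl, pv_inr, Fin.ext_iff, -Fin.val_eq_zero_iff]
    first
      | done
      | omega

/-- All multiples of the transvection along `v` lie in `K`. -/
def InT (K : Subgroup Sp) (v : V) : Prop := ∀ c : F, tv v c ∈ K

variable {K : Subgroup (Matrix.symplecticGroup (Fin n) F)}

theorem InT.smul {v : V} (h : InT K v) (a : F) : InT K (a • v) := fun c => by
  rw [tv_scale]; exact h _

theorem InT.act {v : V} (h : InT K v) {g : Sp} (hg : g ∈ K) : InT K (g • v) := fun c => by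
  rw [← tv_conj]; exact K.mul_mem (K.mul_mem hg (h c)) (K.inv_mem hg)

theorem InT.add_smul {v u : V} (h : InT K v) (hu : InT K u) (hf : sf v u ≠ 0) (t : F) :
    InT K (v + t • u) := by
  have := h.act (hu (t / sf v u))
  rwa [tv_smul, div_mul_cancel₀ _ hf] at this

theorem InT.add {v u : V} (h : InT K v) (hu : InT K u) (hf : sf v u ≠ 0) : InT K (v + u) := by
  simpa using h.add_smul hu hf 1

section End

variable (hE : ∀ i : Fin n, InT K (pv i (1 : F) 0)) (hF : ∀ i : Fin n, InT K (pv i (0 : F) 1))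

include hE hF in
theorem plane_all (i : Fin n) (a b : F) : InT K (pv i a b) := by
  by_cases ha : a = 0
  · subst ha
    simpa [pv_smul] using (hF i).smul b
  · have := ((hE i).add_smul (hF i) (by simp [sf_pv, pv_inl, pv_inr]) (b / a)).smul a
    simp only [pv_smul, pv_add] at this
    simpa [mul_div_cancel₀ _ ha] using this

include hE hF in
/-- The component in one plane can be replaced by any non-zero one. -/
theorem plane_replace {v : V} (h : InT K v) (i : Fin n)
    (hv : v (Sum.inl i) ≠ 0 ∨ v (Sum.inr i) ≠ 0) {c d : F} (hcd : c ≠ 0 ∨ d ≠ 0) :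
    InT K (v + pv i (c - v (Sum.inl i)) (d - v (Sum.inr i))) := by
  have step : ∀ {v : V}, InT K v → ∀ c d : F, v (Sum.inr i) * c - v (Sum.inl i) * d ≠ 0 →
      InT K (v + pv i (c - v (Sum.inl i)) (d - v (Sum.inr i))) := by
    intro v h c d hne
    refine h.add (plane_all hE hF i _ _) ?_
    rw [sf_pv]
    intro e; exact hne (by linear_combination e)
  by_cases hne : v (Sum.inr i) * c - v (Sum.inl i) * d = 0
  swap; · exact step h c d hne
  obtain ⟨c₀, d₀, h1, h2⟩ : ∃ c₀ d₀ : F, v (Sum.inr i) * c₀ - v (Sum.inl i) * d₀ ≠ 0 ∧ d₀ * c - c₀ * d ≠ 0 := by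
    by_cases hr : v (Sum.inr i) = 0
    · have hl : v (Sum.inl i) ≠ 0 := hv.resolve_right (fun e => e hr)
      refine ⟨0, 1, by simp [hl], ?_⟩
      simp [hr, hl] at hne
      subst hne
      simpa using hcd
    · refine ⟨1, 0, by simpa using hr, ?_⟩
      simp only [zero_mul, one_mul, zero_sub, neg_ne_zero]
      rintro rfl
      simp [hr] at hne
      subst hne
      simp at hcd
  have h3 := step (step h c₀ d₀ h1) c d (by simpa [pv_inl, pv_inr] using h2)
  rw [add_assoc, pv_add] at h3
  convert h3 using 3 <;> simp [pv_inl, pv_inr]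

include hE hF in
theorem pair_all (hP : ∀ i j : Fin n, i.val + 1 = j.val → InT K (pv i (1 : F) 0 + pv j 1 0))
    {i j : Fin n} (hij : i.val + 1 = j.val) {a b c d : F} (h1 : a ≠ 0 ∨ b ≠ 0) (h2 : c ≠ 0 ∨ d ≠ 0) :
    InT K (pv i a b + pv j c d) := by
  have hne : i ≠ j := fun e => by subst e; omega
  have h3 := plane_replace hE hF (hP i j hij) i (by simp [pv_inl, hne]) h1
  simp only [Pi.add_apply, pv_inl, pv_inr, if_pos, hne, if_false, add_zero] at h3
  rw [add_right_comm, pv_add, add_sub_cancel, add_sub_cancel] at h3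
  have h4 := plane_replace hE hF h3 j (by simp [pv_inl, hne.symm]) h2
  simp only [Pi.add_apply, pv_inl, pv_inr, if_pos, hne.symm, if_false, zero_add] at h4
  rwa [add_assoc, pv_add, add_sub_cancel, add_sub_cancel] at h4

include hE hF in
theorem all_inT (hP : ∀ i j : Fin n, i.val + 1 = j.val → InT K (pv i (1 : F) 0 + pv j 1 0)) :
    ∀ k : ℕ, ∀ v : V, v ≠ 0 → (∀ i : Fin n, k ≤ i.val → v (Sum.inl i) = 0 ∧ v (Sum.inr i) = 0) →
      InT K v := by
  intro k
  induction k with
  | zero =>
    intro v hv hs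
    refine absurd (funext fun s => ?_) hv
    rcases s with i | i
    exacts [(hs i (Nat.zero_le _)).1, (hs i (Nat.zero_le _)).2]
  | succ k ih =>
    intro v hv hs
    by_cases hkn : k < n
    swap; · exact ih v hv fun i hi => absurd i.2 (by omega)
    set j : Fin n := ⟨k, hkn⟩
    set a := v (Sum.inl j)
    set b := v (Sum.inr j)
    by_cases hp : a = 0 ∧ b = 0
    · refine ih v hv fun i hi => ?_
      by_cases hij : i = j
      · subst hij; exact hp
      · exact hs i (by simp [Fin.ext_iff, j] at hij; omega)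
    replace hp : a ≠ 0 ∨ b ≠ 0 := not_and_or.1 hp
    set x := v - pv j a b with hx
    have hxs : ∀ i : Fin n, k ≤ i.val → x (Sum.inl i) = 0 ∧ x (Sum.inr i) = 0 := by
      intro i hi
      by_cases hij : i = j
      · subst hij; simp [hx, pv_inl, pv_inr, a, b]
      · have := hs i (by simp [Fin.ext_iff, j] at hij; omega)
        simp [hx, pv_inl, pv_inr, hij, this]
    have hvx : v = x + pv j a b := by rw [hx]; abel
    by_cases hx0 : x = 0
    · rw [hvx, hx0, zero_add]; exact plane_all hE hF j a b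
    have hk : 0 < k := by
      by_contra hk0
      apply hx0
      funext s
      rcases s with i | i
      exacts [(hxs i (by omega)).1, (hxs i (by omega)).2]
    set i : Fin n := ⟨k - 1, by omega⟩
    have hij : i.val + 1 = j.val := by simp [i, j]; omega
    have hne : i ≠ j := fun e => by rw [e] at hij; omega
    have case1 : ∀ x : V, (∀ l : Fin n, k ≤ l.val → x (Sum.inl l) = 0 ∧ x (Sum.inr l) = 0) →
        (x (Sum.inl i) ≠ 0 ∨ x (Sum.inr i) ≠ 0) → ∀ a b : F, a ≠ 0 ∨ b ≠ 0 → InT K (x + pv j a b) := by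
      intro x hxs hxi a b hp
      obtain ⟨c, d, hcd, hdet⟩ : ∃ c d : F, (c ≠ 0 ∨ d ≠ 0) ∧ x (Sum.inr i) * c - x (Sum.inl i) * d ≠ 0 := by
        by_cases hr : x (Sum.inr i) = 0
        · exact ⟨0, 1, Or.inr one_ne_zero, by simpa using hxi.resolve_right (fun e => e hr)⟩
        · exact ⟨1, 0, Or.inl one_ne_zero, by simpa using hr⟩
      have hj := hxs j le_rfl
      have hsf : sf (x - pv i c d) (pv i c d + pv j a b) ≠ 0 := by
        rw [map_add, sf_pv, sf_pv]
        simp only [Pi.sub_apply, pv_inl, pv_inr, hne.symm, if_false, if_pos, hj.1, hj.2]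
        intro e; exact hdet (by linear_combination e)
      have h1 : InT K (x - pv i c d) := by
        refine ih _ (fun e => hsf (by rw [e]; simp)) fun l hl => ?_
        have hli : l ≠ i := fun e => by rw [e] at hl; simp [i] at hl; omega
        simp [pv_inl, pv_inr, hli, hxs l hl]
      have h2 := h1.add (pair_all hE hF hP hij hcd hp) hsf
      rwa [← add_assoc, sub_add_cancel] at h2
    rw [hvx]
    by_cases hxi : x (Sum.inl i) ≠ 0 ∨ x (Sum.inr i) ≠ 0
    · exact case1 x hxs hxi a b hp
    push Not at hxi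
    obtain ⟨c, d, hdet⟩ : ∃ c d : F, b * c - a * d ≠ 0 := by
      by_cases hr : b = 0
      · exact ⟨0, 1, by simpa using hp.resolve_right (fun e => e hr)⟩
      · exact ⟨1, 0, by simpa using hr⟩
    have hcd : c ≠ 0 ∨ d ≠ 0 := by
      by_contra e; push Not at e; simp [e.1, e.2] at hdet
    have hp2 : a - c ≠ 0 ∨ b - d ≠ 0 := by
      by_contra e; push Not at e
      rw [sub_eq_zero.1 e.1, sub_eq_zero.1 e.2] at hdet
      exact hdet (by ring)
    have h1 := case1 (x + pv i 1 0) (fun l hl => by
        have hli : l ≠ i := fun e => by rw [e] at hl; simp [i] at hl; omega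
        simp [pv_inl, pv_inr, hli, hxs l hl])
      (by simp [pv_inl, hxi.1]) (a - c) (b - d) hp2
    have h2 := pair_all hE hF hP hij (a := -1) (b := 0) (Or.inl (by simp)) hcd
    have hj := hxs j le_rfl
    have h3 := h1.add h2 (by
      rw [map_add, sf_pv, sf_pv]
      simp only [Pi.add_apply, pv_inl, pv_inr, hne, hne.symm, if_false, if_pos, hj.1, hj.2, hxi.2]
      intro e; exact hdet (by linear_combination e))
    convert h3 using 1
    simp only [pv]; module

end End

theorem cyc_pow_inl {w : Sp} (hw : ∀ i, w • (Pi.single i 1 : V) = cycImg i) :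
    ∀ (k : ℕ) (hk : k < n), w ^ k • pv (0 : Fin n) (1 : F) 0 = pv ⟨k, hk⟩ 1 0 := by
  intro k
  induction k with
  | zero => intro hk; rw [pow_zero, one_smul]; rfl
  | succ k ih =>
    intro hk
    rw [pow_succ', mul_smul, ih (by omega), ← single_inl, hw]
    simp [cycImg, hk]

theorem cyc_inr {w : Sp} (hw : ∀ i, w • (Pi.single i 1 : V) = cycImg i) :
    ∀ (k : ℕ) (hk : k < n), w ^ (n + k) • pv (0 : Fin n) (1 : F) 0 = pv ⟨k, hk⟩ 0 1 := by
  intro k
  induction k with
  | zero =>
    intro hk
    have hn1 : w ^ (n + 0) = w ^ (n - 1 + 1) := by congr 1; omega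
    rw [hn1, pow_succ', mul_smul,
      cyc_pow_inl hw (n - 1) (by omega), ← single_inl, hw]
    simp only [cycImg]
    rw [dif_neg (by simp; omega)]
    rfl
  | succ k ih =>
    intro hk
    rw [← Nat.add_assoc, pow_succ', mul_smul, ih (by omega), ← single_inr, hw]
    simp [cycImg, hk]

/-- The criterion: the monomial element, one long root group and one shear give everything. -/
theorem eq_top_of_mem {w g : Sp} (hw : ∀ i, w • (Pi.single i 1 : V) = cycImg i) (hwK : w ∈ K)
    (hgK : g ∈ K) {j : Fin n} (hT : InT K (pv j 1 0)) {l : Fin n} {i₁ : Fin n} (hi₁ : i₁.val = 1)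
    (hg : g • pv l (1 : F) 0 = pv 0 1 0 + pv i₁ 1 0) : K = ⊤ := by
  have h0 : InT K (pv (0 : Fin n) 1 0) := by
    have := hT.act (K.inv_mem (K.pow_mem hwK j.val))
    rwa [inv_smul_eq_iff.2 (cyc_pow_inl hw j.val j.2).symm] at this
  have hE : ∀ i : Fin n, InT K (pv i 1 0) := fun i => by
    have := h0.act (K.pow_mem hwK i.val)
    rwa [cyc_pow_inl hw i.val i.2] at this
  have hF : ∀ i : Fin n, InT K (pv i 0 1) := fun i => by
    have := h0.act (K.pow_mem hwK (n + i.val))
    rwa [cyc_inr hw i.val i.2] at this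
  have hP : ∀ i k : Fin n, i.val + 1 = k.val → InT K (pv i 1 0 + pv k 1 0) := by
    intro i k hik
    have := ((hE l).act hgK).act (K.pow_mem hwK i.val)
    rw [hg, smul_add, cyc_pow_inl hw i.val i.2] at this
    convert this using 2
    have h1 : pv i₁ (1 : F) 0 = w ^ 1 • pv (0 : Fin n) 1 0 := by
      rw [cyc_pow_inl hw 1 (hi₁ ▸ i₁.2)]; congr 1; exact Fin.ext hi₁
    rw [h1, ← mul_smul, ← pow_add, cyc_pow_inl hw (i.val + 1) (hik ▸ k.2)]
    congr 1; exact Fin.ext hik.symm
  rw [eq_top_iff, ← transGroup_eq_top, transGroup, Subgroup.closure_le, transSet_eq]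
  rintro _ ⟨v, c, rfl⟩
  rcases eq_or_ne v 0 with rfl | hv
  · rw [tv_zero_left]; exact K.one_mem
  · exact all_inT hE hF hP n v hv (fun i hi => absurd i.2 (by omega)) c

section Elements

variable (i₁ : Fin n)

/-- Images of the basis under the torus element. -/
def scaleImg (z : F) : Fin n ⊕ Fin n → V
  | Sum.inl i => pv i (if i = 0 then z else 1) 0
  | Sum.inr i => pv i 0 (if i = 0 then z⁻¹ else 1)

/-- Images of the basis under the short root element. -/
def shearImg (s : F) : Fin n ⊕ Fin n → V
  | Sum.inl i => pv i 1 0 + pv 0 (if i = i₁ then s else 0) 0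
  | Sum.inr i => pv i 0 1 + pv i₁ 0 (if i = 0 then -s else 0)

/-- Images of the basis under the element of order three. -/
def threeImg : Fin n ⊕ Fin n → V
  | Sum.inl i => if i = 0 then pv i₁ 1 0 else if i = i₁ then pv 0 1 0 + pv i₁ 1 0 else pv i 1 0
  | Sum.inr i => if i = 0 then pv 0 0 (-1) + pv i₁ 0 1 else if i = i₁ then pv 0 0 1 else pv i 0 1

theorem exists_scale {z : F} (hz : z ≠ 0) : ∃ g : Sp, ∀ i, g • (Pi.single i 1 : V) = scaleImg z i := by
  refine exists_of_gram _ ?_
  rintro (i | i) (j | j) <;> simp only [scaleImg, single_inl, single_inr] <;>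
    simp [sf_pv, pv_inl, pv_inr] <;> split_ifs <;> simp_all

theorem exists_shear (h1 : i₁ ≠ 0) (s : F) :
    ∃ g : Sp, ∀ i, g • (Pi.single i 1 : V) = shearImg i₁ s i := by
  refine exists_of_gram _ ?_
  rintro (i | i) (j | j) <;> simp only [shearImg, single_inl, single_inr] <;>
    simp [map_add, sf_pv, pv_inl, pv_inr] <;> split_ifs <;> (try subst_vars) <;> simp_all

theorem exists_three (h1 : i₁ ≠ 0) : ∃ g : Sp, ∀ i, g • (Pi.single i 1 : V) = threeImg i₁ i := by
  refine exists_of_gram _ ?_
  rintro (i | i) (j | j) <;> simp only [threeImg, single_inl, single_inr] <;>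
    split_ifs <;> simp_all [map_add, sf_pv, pv_inl, pv_inr, eq_comm]

end Elements

theorem smul_pv {g : Sp} {img : Fin n ⊕ Fin n → V} (h : ∀ i, g • (Pi.single i 1 : V) = img i)
    (i : Fin n) (a b : F) : g • pv i a b = a • img (Sum.inl i) + b • img (Sum.inr i) := by
  rw [← h, ← h]
  simp only [pv, spSmulDef, Matrix.mulVec_add, Matrix.mulVec_smul]

theorem scale_pv {D : Sp} {z : F} (hD : ∀ i, D • (Pi.single i 1 : V) = scaleImg z i) (i : Fin n) (a b : F) :
    D • pv i a b = pv i (if i = 0 then z * a else a) (if i = 0 then z⁻¹ * b else b) := by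
  rw [smul_pv hD]
  simp only [scaleImg, pv_smul, pv_add]
  congr 1 <;> split_ifs <;> ring

theorem shear_pv (i₁ : Fin n) {S : Sp} {s : F} (hS : ∀ i, S • (Pi.single i 1 : V) = shearImg i₁ s i)
    (i : Fin n) (a b : F) : S • pv i a b =
      pv i a b + pv 0 (if i = i₁ then s * a else 0) 0 + pv i₁ 0 (if i = 0 then -(s * b) else 0) := by
  rw [smul_pv hS]
  simp only [shearImg, pv]
  split_ifs <;> module

theorem conj_scale_pv {i₁ : Fin n} (h1 : i₁.val = 1) {w D : Sp} {z : F}
    (hw : ∀ i, w • (Pi.single i 1 : V) = cycImg i) (hD : ∀ i, D • (Pi.single i 1 : V) = scaleImg z i)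
    (i : Fin n) (a b : F) : (w * D * w⁻¹) • pv i a b =
      pv i (if i = i₁ then z * a else a) (if i = i₁ then z⁻¹ * b else b) := by
  have hn : 1 < n := h1 ▸ i₁.2
  have key : ∀ v : V, (w * D * w⁻¹) • (w • v) = w • (D • v) := fun v => by
    rw [mul_smul, mul_smul, inv_smul_smul]
  by_cases h0 : i = 0
  · subst h0
    have hl : (⟨n - 1, by omega⟩ : Fin n) ≠ 0 := by simp [Fin.ext_iff, -Fin.val_eq_zero_iff]; omega
    have hne : (0 : Fin n) ≠ i₁ := fun e => by rw [← e] at h1; simp at h1
    have e : pv (0 : Fin n) a b = w • pv ⟨n - 1, by omega⟩ b (-a) := by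
      rw [smul_pv hw]
      simp only [cycImg]
      rw [dif_neg (by omega), dif_neg (by omega)]
      simp only [pv]; module
    rw [if_neg hne, if_neg hne, e, key, scale_pv hD, if_neg hl, if_neg hl]
  · have hv : i.val ≠ 0 := fun e => h0 (Fin.ext (by simpa using e))
    have hi := i.2
    have hn' : i.val - 1 + 1 < n := by omega
    have he : (⟨i.val - 1 + 1, hn'⟩ : Fin n) = i := Fin.ext (by simp; omega)
    have e : ∀ a b : F, pv i a b = w • pv ⟨i.val - 1, by omega⟩ a b := fun a b => by
      rw [smul_pv hw]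
      simp only [cycImg]
      rw [dif_pos hn', dif_pos hn', he]
      simp [pv_smul, pv_add]
    rw [e, key, scale_pv hD, e]
    by_cases hi1 : i = i₁
    · have : (⟨i.val - 1, by omega⟩ : Fin n) = 0 := Fin.ext (by simp [hi1, h1])
      simp [hi1, h1]
    · have : (⟨i.val - 1, by omega⟩ : Fin n) ≠ 0 := fun e => hi1 (Fin.ext (by
        have := congrArg Fin.val e; simp at this; omega))
      simp [hi1, this]

variable [Fintype F]

theorem tv_pow (v : V) (c : F) (k : ℕ) : tv v c ^ k = tv v ((k : F) * c) := by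
  induction k with
  | zero => simp
  | succ k ih => rw [pow_succ, ih, tv_mul]; push_cast; ring_nf

theorem two_generated_large (h2n : 2 ≤ n) (hq : 2 < Fintype.card F) :
    ∃ a b : Sp, Subgroup.closure ({a, b} : Set Sp) = ⊤ := by
  classical
  set i₁ : Fin n := ⟨1, by omega⟩
  have h10 : i₁ ≠ 0 := by simp [Fin.ext_iff, i₁]
  obtain ⟨w, hw⟩ := exists_cyc (F := F) (n := n)
  obtain ⟨ζ, hζ⟩ := H44.exists_unit_gen F
  have hζ0 : (ζ : F) ≠ 0 := ζ.ne_zero
  have hζ1 : (ζ : F) ≠ 1 := by
    intro e
    have h1 : ∀ x : Fˣ, x = 1 := fun x => by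
      obtain ⟨k, hk⟩ := hζ x
      rw [← hk, show ζ = 1 from Units.ext e]; simp
    have : Subsingleton Fˣ := ⟨fun x y => by rw [h1 x, h1 y]⟩
    have := Fintype.card_le_one_iff_subsingleton.2 this
    rw [Fintype.card_units] at this
    omega
  obtain ⟨D, hD⟩ := exists_scale (n := n) hζ0
  choose S hS using exists_shear (F := F) i₁ h10
  refine ⟨D * tv (pv i₁ 1 0) 1, S 1 * w, ?_⟩
  set K := Subgroup.closure ({D * tv (pv i₁ 1 0) 1, S 1 * w} : Set Sp)
  have ha : D * tv (pv i₁ 1 0) 1 ∈ K := Subgroup.subset_closure (Or.inl rfl)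
  have hb : S 1 * w ∈ K := Subgroup.subset_closure (Or.inr rfl)
  have hDi : D • pv i₁ (1 : F) 0 = pv i₁ 1 0 := by simp [smul_pv hD, scaleImg, pv_smul, h10]
  have hcom : Commute D (tv (pv i₁ 1 0) 1) := by
    have := tv_conj D (pv i₁ (1 : F) 0) 1
    rw [hDi] at this
    exact mul_inv_eq_iff_eq_mul.1 this
  have hDpow : ∀ (k : ℕ) (i : Fin n), D ^ k • pv i (1 : F) 0 = pv i (if i = 0 then (ζ : F) ^ k else 1) 0 ∧
      D ^ k • pv i (0 : F) 1 = pv i 0 (if i = 0 then ((ζ : F) ^ k)⁻¹ else 1) := by
    intro k i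
    induction k with
    | zero => constructor <;> simp
    | succ k ih =>
      rw [pow_succ', mul_smul, ih.1, mul_smul, ih.2]
      constructor <;> simp [smul_pv hD, scaleImg, pv_smul] <;> split_ifs <;> simp [pow_succ, mul_comm]
  have hcard : (ζ : F) ^ (Fintype.card F - 1) = 1 := FiniteField.pow_card_sub_one_eq_one _ hζ0
  have hD1 : D ^ (Fintype.card F - 1) = 1 := ext_basis fun s => by
    rw [one_smul]
    rcases s with i | i
    · rw [single_inl, (hDpow _ i).1, hcard, ite_self]
    · rw [single_inr, (hDpow _ i).2, hcard, inv_one, ite_self]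
  have htK : tv (pv i₁ 1 0) 1 ∈ K := by
    have h1 := K.pow_mem ha (Fintype.card F - 1)
    rw [hcom.mul_pow, hD1, one_mul, tv_pow, Nat.cast_sub (by omega), Nat.cast_one,
      FiniteField.cast_card_eq_zero, zero_sub, mul_one, ← tv_inv] at h1
    exact K.inv_mem_iff.1 h1
  have hDK : D ∈ K := (K.mul_mem_cancel_right htK).1 ha
  -- conjugates of the short root elements
  have hSadd : ∀ s t, S s * S t = S (s + t) := fun s t =>
    ext_pv
      (fun i => by
        rw [mul_smul]
        simp only [shear_pv i₁ (hS _), smul_add]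
        by_cases hi : i = i₁ <;> simp [hi, h10, h10.symm, add_assoc, pv_add] <;> simp only [pv] <;> module)
      (fun i => by
        rw [mul_smul]
        simp only [shear_pv i₁ (hS _), smul_add]
        by_cases hi : i = 0 <;> simp [hi, h10, h10.symm, add_assoc, pv_add] <;> simp only [pv] <;> module)
  have hSinv : ∀ s, (S s)⁻¹ = S (-s) := fun s => by
    refine inv_eq_of_mul_eq_one_right ?_
    rw [hSadd, add_neg_cancel]
    exact ext_pv (fun i => by simp [shear_pv i₁ (hS _)]) (fun i => by simp [shear_pv i₁ (hS _)])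
  obtain ⟨H, hHdef⟩ : ∃ H, H = w * D * w⁻¹ := ⟨_, rfl⟩
  have hH : ∀ i a b, H • pv i a b =
      pv i (if i = i₁ then (ζ : F) * a else a) (if i = i₁ then (ζ : F)⁻¹ * b else b) := fun i a b => by
    rw [hHdef]; exact conj_scale_pv rfl hw hD i a b
  have hHS : ∀ s, H * S s = S (s / (ζ : F)) * H := fun s =>
    ext_pv
      (fun i => by
        rw [mul_smul, mul_smul]
        simp only [shear_pv i₁ (hS _), hH, smul_add]
        by_cases hi : i = i₁ <;> simp [hi, h10, h10.symm, hζ0])
      (fun i => by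
        rw [mul_smul, mul_smul]
        simp only [shear_pv i₁ (hS _), hH, smul_add]
        by_cases hi : i = i₁ <;> by_cases hi0 : i = 0 <;>
          simp [hi, hi0, h10, h10.symm, hζ0, div_eq_mul_inv, mul_comm] <;> simp_all)
  have hDS : ∀ s, D * S s = S ((ζ : F) * s) * D := fun s =>
    ext_pv
      (fun i => by
        rw [mul_smul, mul_smul]
        simp only [shear_pv i₁ (hS _), scale_pv hD, smul_add]
        by_cases hi : i = i₁ <;> simp [hi, h10, h10.symm, hζ0])
      (fun i => by
        rw [mul_smul, mul_smul]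
        simp only [shear_pv i₁ (hS _), scale_pv hD, smul_add]
        by_cases hi : i = 0 <;> simp [hi, h10, h10.symm, hζ0] <;> congr 1 <;> field_simp)
  have hDH : D * H = H * D :=
    ext_pv
      (fun i => by
        rw [mul_smul, mul_smul]
        simp only [scale_pv hD, hH]
        by_cases hi : i = i₁ <;> simp [hi, h10])
      (fun i => by
        rw [mul_smul, mul_smul]
        simp only [scale_pv hD, hH]
        by_cases hi : i = i₁ <;> simp [hi, h10])
  set c := ((ζ : F) - 1) * (1 - (ζ : F)⁻¹) with hcdef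
  have hSc : S c ∈ K := by
    have hg : S 1 * H * (S 1)⁻¹ ∈ K := by
      have : S 1 * H * (S 1)⁻¹ = (S 1 * w) * D * (S 1 * w)⁻¹ := by rw [hHdef]; group
      rw [this]; exact K.mul_mem (K.mul_mem hb hDK) (K.inv_mem hb)
    have hm := K.mul_mem (K.mul_mem (K.mul_mem hDK hg) (K.inv_mem hDK)) (K.inv_mem hg)
    have e : D * (S 1 * H * (S 1)⁻¹) * D⁻¹ * (S 1 * H * (S 1)⁻¹)⁻¹ = S c := by
      have e1 : D * (S 1 * H * (S 1)⁻¹) * D⁻¹ = S (ζ : F) * H * S (-(ζ : F)) := by
        rw [hSinv, mul_inv_eq_iff_eq_mul, ← mul_assoc, ← mul_assoc, hDS, mul_assoc (S _) D H, hDH,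
          ← mul_assoc, mul_assoc (S _ * H) D (S (-1)), hDS]
        simp [mul_assoc]
      have e2 : ∀ s, H * S s * H⁻¹ = S (s / (ζ : F)) := fun s => by rw [hHS, mul_inv_cancel_right]
      rw [e1, mul_inv_rev, mul_inv_rev, inv_inv, hSinv 1]
      calc S (ζ : F) * H * S (-(ζ : F)) * (S 1 * (H⁻¹ * S (-1)))
          = S (ζ : F) * (H * (S (-(ζ : F)) * S 1) * H⁻¹) * S (-1) := by group
        _ = S c := by
          rw [hSadd, e2, hSadd, hSadd]
          congr 1
          rw [hcdef]; field_simp; ring
    rwa [e] at hm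
  have hc : c ≠ 0 := mul_ne_zero (sub_ne_zero.2 hζ1) (sub_ne_zero.2 fun e => hζ1 (inv_eq_one.1 e.symm))
  have hS1 : S 1 ∈ K := by
    obtain ⟨k, hk⟩ := mem_powers_iff_mem_zpowers.2 (hζ (Units.mk0 c⁻¹ (inv_ne_zero hc)))
    have hk' : (ζ : F) ^ k = c⁻¹ := by simpa using congrArg Units.val hk
    have hconj : ∀ j : ℕ, D ^ j * S c = S ((ζ : F) ^ j * c) * D ^ j := by
      intro j
      induction j with
      | zero => simp
      | succ j ih => rw [pow_succ', mul_assoc, ih, ← mul_assoc, hDS, mul_assoc, pow_succ' (ζ : F), mul_assoc]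
    have := K.mul_mem (K.pow_mem hDK k) hSc
    rw [hconj, hk', inv_mul_cancel₀ hc] at this
    exact (K.mul_mem_cancel_right (K.pow_mem hDK k)).1 this
  have hwK : w ∈ K := (K.mul_mem_cancel_left hS1).1 hb
  have h0K : tv (pv (0 : Fin n) 1 0) 1 ∈ K := by
    have := K.mul_mem (K.mul_mem (K.inv_mem hwK) htK) (K.inv_mem (K.inv_mem hwK))
    rw [tv_conj, inv_smul_eq_iff.2] at this
    · exact this
    · have h := cyc_pow_inl hw 1 (by omega)
      rw [pow_one] at h; exact h.symm
  let A : AddSubgroup F :=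
    { carrier := {x | tv (pv (0 : Fin n) 1 0) x ∈ K}
      zero_mem' := by simp
      add_mem' := fun {x y} hx hy => by
        show tv _ (x + y) ∈ K
        rw [← tv_mul]; exact K.mul_mem hx hy
      neg_mem' := fun {x} hx => by
        show tv _ (-x) ∈ K
        rw [← tv_inv]; exact K.inv_mem hx }
  have hR : ∀ r : F, ∀ x ∈ A, r * x ∈ A := by
    let R : Subring F :=
      { carrier := {r | ∀ x ∈ A, r * x ∈ A}
        one_mem' := fun x hx => by rwa [one_mul]
        zero_mem' := fun x _ => by rw [zero_mul]; exact A.zero_mem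
        add_mem' := fun {r s} hr hs x hx => by rw [add_mul]; exact A.add_mem (hr x hx) (hs x hx)
        neg_mem' := fun {r} hr x hx => by rw [neg_mul]; exact A.neg_mem (hr x hx)
        mul_mem' := fun {r s} hr hs x hx => by rw [mul_assoc]; exact hr _ (hs x hx) }
    have hz : (ζ : F) * ζ ∈ R := fun x hx => by
      have := K.mul_mem (K.mul_mem hDK (show tv _ x ∈ K from hx)) (K.inv_mem hDK)
      rw [tv_conj, smul_pv hD] at this
      simp only [scaleImg, if_pos, pv_smul, one_mul, mul_zero, zero_mul, pv_add, add_zero] at this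
      rw [show pv (0 : Fin n) (ζ : F) 0 = (ζ : F) • pv 0 1 0 by rw [pv_smul, mul_one, mul_zero], tv_scale] at this
      exact this
    intro r
    have : r ∈ R := by rw [H44.subring_eq_top hζ R hz]; trivial
    exact this
  have hT : InT K (pv (0 : Fin n) 1 0) := fun x => mul_one x ▸ hR x 1 h0K
  exact eq_top_of_mem hw hwK hS1 hT (l := i₁) (i₁ := i₁) rfl (by
    rw [smul_pv (hS 1)]; simp [shearImg, pv, h10]; abel)

theorem two_generated_two (h3n : 3 ≤ n) (hq : Fintype.card F = 2) :
    ∃ a b : Sp, Subgroup.closure ({a, b} : Set Sp) = ⊤ := by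
  classical
  set i₁ : Fin n := ⟨1, by omega⟩
  set i₂ : Fin n := ⟨2, by omega⟩
  have h10 : i₁ ≠ 0 := by simp [Fin.ext_iff, i₁]
  have h20 : i₂ ≠ 0 := by simp [Fin.ext_iff, i₂]
  have h21 : i₂ ≠ i₁ := by simp [i₁, i₂]
  have hF2 : ∀ x : F, x = 0 ∨ x = 1 := by
    intro x
    by_contra h
    push Not at h
    have := Finset.card_le_univ ({0, 1, x} : Finset F)
    rw [Finset.card_insert_of_notMem (by simp [h.1.symm]), Finset.card_pair h.2.symm, hq] at this
    omega
  have h2 : (2 : F) = 0 := by
    have := FiniteField.cast_card_eq_zero F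
    rwa [hq, Nat.cast_two] at this
  have hneg : ∀ x : F, -x = x := fun x => by linear_combination (-x) * h2
  have hadd : ∀ x : F, x + x = 0 := fun x => by linear_combination x * h2
  obtain ⟨w, hw⟩ := exists_cyc (F := F) (n := n)
  obtain ⟨M, hM⟩ := exists_three (F := F) i₁ h10
  refine ⟨M * tv (pv i₂ 1 0) 1, w, ?_⟩
  set K := Subgroup.closure ({M * tv (pv i₂ 1 0) 1, w} : Set Sp)
  have ha : M * tv (pv i₂ 1 0) 1 ∈ K := Subgroup.subset_closure (Or.inl rfl)
  have hwK : w ∈ K := Subgroup.subset_closure (Or.inr rfl)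
  have hM2 : M • pv i₂ (1 : F) 0 = pv i₂ 1 0 := by simp [smul_pv hM, threeImg, h20, h21]
  have hcom : Commute M (tv (pv i₂ 1 0) 1) := by
    have := tv_conj M (pv i₂ (1 : F) 0) 1
    rw [hM2] at this
    exact mul_inv_eq_iff_eq_mul.1 this
  have hM3 : M ^ 3 = 1 := by
    have hone : ∀ i : Fin n, i ≠ 0 → i ≠ i₁ → ∀ a b : F, M • pv i a b = pv i a b := fun i h1 h2 a b => by
      rw [smul_pv hM]; simp [threeImg, h1, h2, pv_smul, pv_add]
    have hz : ∀ a b : F, M • pv (0 : Fin n) a b = pv 0 0 (-b) + pv i₁ a b := fun a b => by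
      rw [smul_pv hM]; simp only [threeImg, if_pos, pv]; module
    have hi : ∀ a b : F, M • pv i₁ a b = pv 0 a b + pv i₁ a 0 := fun a b => by
      rw [smul_pv hM]; simp only [threeImg, if_neg h10, if_pos, pv]; module
    have key : ∀ i : Fin n, ∀ a b : F, M ^ 3 • pv i a b = pv i a b := fun i a b => by
      rw [pow_three, mul_smul, mul_smul]
      by_cases e0 : i = 0
      · subst e0
        simp only [hz, hi, smul_add, hneg]
        simp only [pv]
        match_scalars <;> grind
      by_cases e1 : i = i₁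
      · subst e1
        simp only [hz, hi, smul_add, hneg]
        simp only [pv]
        match_scalars <;> grind
      rw [hone i e0 e1, hone i e0 e1, hone i e0 e1]
    exact ext_pv (fun i => by rw [key, one_smul]) (fun i => by rw [key, one_smul])
  have htK : tv (pv i₂ 1 0) 1 ∈ K := by
    have h1 := K.pow_mem ha 3
    rw [hcom.mul_pow, hM3, one_mul, tv_pow, mul_one,
      show ((3 : ℕ) : F) = 1 by push_cast; linear_combination h2] at h1
    exact h1
  have hMK : M ∈ K := (K.mul_mem_cancel_right htK).1 ha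
  have hT : InT K (pv i₂ 1 0) := fun x => by
    rcases hF2 x with rfl | rfl
    · simp
    · exact htK
  exact eq_top_of_mem hw hwK hMK hT (l := i₁) (i₁ := i₁) rfl (by
    rw [smul_pv hM]; simp [threeImg, h10])

omit [NeZero n] in
/-- The projective symplectic group is two-generated. -/
theorem psp_two_generated (hn : 2 ≤ n) (h : n = 2 → 2 < Fintype.card F) :
    ∃ a b : Cfsg.PSp n F, Subgroup.closure ({a, b} : Set (Cfsg.PSp n F)) = ⊤ := by
  haveI : NeZero n := ⟨by omega⟩
  obtain ⟨a, b, hab⟩ : ∃ a b : Sp, Subgroup.closure ({a, b} : Set Sp) = ⊤ := by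
    by_cases hq : 2 < Fintype.card F
    · exact two_generated_large hn hq
    · have := Fintype.one_lt_card (α := F)
      exact two_generated_two (by rcases Nat.lt_or_ge 2 n with h' | h'
                                  · omega
                                  · exact absurd (h (by omega)) hq) (by omega)
  let f : Sp →* Cfsg.PSp n F := QuotientGroup.mk' _
  refine ⟨f a, f b, ?_⟩
  rw [← Set.image_pair f a b, ← MonoidHom.map_closure, hab,
    Subgroup.map_top_of_surjective f (QuotientGroup.mk'_surjective _)]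

end H44.SpGen
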