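import Cfsg.Agent.H44.SkewFrame
import Cfsg.Agent.H55.SimClassify
import Cfsg.Agent.H48.Form

/-!
Classes of elements of order `p` in symplectic groups in odd characteristic `p`.
-/

set_option autoImplicit false

namespace H44.UnipSp

open Matrix H44.SkewFrame

variable {F : Type*} [Field F]

/-- Alternating forms on spaces of the same dimension are strictly congruent. -/
theorem strict_alt {ι κ : Type} [Fintype ι] [DecidableEq ι] [Fintype κ] [DecidableEq κ] (h2 : (2 : F) ≠ 0)
    {S : Matrix ι ι F} {T : Matrix κ κ F} (hS : Sᵀ = -S) (hT : Tᵀ = -T) (hS0 : S.det ≠ 0) (hT0 : T.det ≠ 0)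
    (hcard : Fintype.card ι = Fintype.card κ) : ∃ P : Matrix ι κ F, Pᵀ * S * P = T := by
  obtain ⟨r, hr⟩ := H55.even_card_of_skew h2 hS hS0
  have hsymp : ∀ {τ : Type} [Fintype τ] [DecidableEq τ] {A : Matrix τ τ F}, Aᵀ = -A → A.det ≠ 0 →
      Cfsg.Geo.IsSymplecticForm fun u v : τ → F => u ⬝ᵥ A *ᵥ v := by
    intro τ _ _ A hA hA0
    have hsk : ∀ u v, u ⬝ᵥ A *ᵥ v = -(v ⬝ᵥ A *ᵥ u) := fun u v => by
      rw [dotProduct_mulVec, dotProduct_comm, ← mulVec_transpose, hA, neg_mulVec, dotProduct_neg]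
    have hnd : ∀ v, (∀ x, x ⬝ᵥ A *ᵥ v = 0) → v = 0 := fun v hv =>
      Matrix.eq_zero_of_mulVec_eq_zero hA0 (funext fun i => by simpa using hv (Pi.single i 1))
    refine ⟨⟨fun x y v => add_dotProduct _ _ _, fun c x v => smul_dotProduct _ _ _,
      fun v x y => by rw [mulVec_add, dotProduct_add],
      fun c v x => by rw [mulVec_smul, dotProduct_smul, smul_eq_mul]⟩,
      hsk, fun v => ?_, fun v hv => ⟨?_, ?_⟩⟩
    · have := hsk v v
      exact (mul_eq_zero.1 (by linear_combination this : (2 : F) * (v ⬝ᵥ A *ᵥ v) = 0)).resolve_left h2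
    · by_contra! h
      exact hv (hnd v h)
    · by_contra! h
      exact hv (hnd v fun x => by rw [hsk]; simp [h x])
  obtain ⟨ψ, hψ⟩ := H47.exists_symp_coords (m := r) (by omega) (hsymp hS hS0)
  obtain ⟨φ, hφ⟩ := H47.exists_symp_coords (m := r) (by omega) (hsymp hT hT0)
  obtain ⟨P, -, -, -, hP⟩ := H55.strict_of_linearEquiv (S := S) (M := T) (ψ.trans φ.symm) fun u v => by
    rw [← hφ, LinearEquiv.trans_apply, LinearEquiv.trans_apply, LinearEquiv.apply_symm_apply,
      LinearEquiv.apply_symm_apply, hψ]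
  exact ⟨Pᵀ, by rw [transpose_transpose, hP]⟩

/-- The class of a block: dimension, parity and discriminant. -/
theorem strict_block [Fintype F] (hodd : Odd (Fintype.card F)) {ι κ : Type} [Fintype ι] [DecidableEq ι]
    [Fintype κ] [DecidableEq κ] (k : ℕ) {S : Matrix ι ι F} {T : Matrix κ κ F}
    (hS : Sᵀ = (-1 : F) ^ (k + 1) • S) (hT : Tᵀ = (-1 : F) ^ (k + 1) • T) (hS0 : S.det ≠ 0) (hT0 : T.det ≠ 0)
    (hcard : Fintype.card ι = Fintype.card κ) (hd : Odd k → IsSquare (S.det * T.det)) :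
    ∃ P : Matrix ι κ F, Pᵀ * S * P = T := by
  rcases Nat.even_or_odd k with hk | hk
  · rw [(hk.add_one).neg_one_pow, neg_one_smul] at hS hT
    exact strict_alt (H55.two_ne_of_odd hodd) hS hT hS0 hT0 hcard
  · rw [(hk.add_one).neg_one_pow, one_smul] at hS hT
    obtain ⟨P, -, -, -, hP⟩ := H55.strict_of_det hodd hS hT hS0 hT0 hcard (hd hk)
    exact ⟨Pᵀ, by rw [transpose_transpose, hP]⟩

section Blocks

variable {ι : Type} [Fintype ι] [DecidableEq ι] {h : ι → ℕ} {G : Matrix ι ι F}

theorem blk_transpose {V : Type*} [AddCommGroup V] [Module F V] {B : LinearMap.BilinForm F V}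
    {N : Module.End F V} (hd : SkewData B N) {n : ℕ} {x : ι → V} (hf : Frame B N n h G x) (k : ℕ) :
    (blk h G k)ᵀ = (-1 : F) ^ (k + 1) • blk h G k := by
  ext a b
  simp only [transpose_apply, blk, Matrix.of_apply, Matrix.smul_apply, smul_eq_mul]
  rw [hf.symm hd a.1 b.1, a.2]

theorem blk_det_ne_zero (hblock : ∀ a b, h a ≠ h b → G a b = 0) (hG : IsUnit G) (k : ℕ) :
    (blk h G k).det ≠ 0 := by
  rw [← isUnit_iff_ne_zero, ← Matrix.isUnit_iff_isUnit_det, ← Matrix.mulVec_injective_iff_isUnit]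
  intro c d hcd
  rw [← sub_eq_zero]
  let v : ι → F := fun a => if ha : h a = k then (c - d) ⟨a, ha⟩ else 0
  have hv : G *ᵥ v = G *ᵥ 0 := by
    rw [mulVec_zero]
    funext b
    by_cases hb : h b = k
    · have h0 : (blk h G k *ᵥ (c - d)) ⟨b, hb⟩ = 0 := by
        rw [mulVec_sub, Pi.sub_apply, sub_eq_zero]; exact congrFun hcd _
      rw [Pi.zero_apply, ← h0, mulVec, mulVec, dotProduct, dotProduct,
        ← Finset.sum_filter_of_ne (p := fun a => h a = k) (fun a _ ha => by
          by_contra e; exact ha (by simp [v, e])),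
        Finset.sum_subtype (p := fun a => h a = k) _ (fun a => by simp)]
      exact Finset.sum_congr rfl fun a _ => by simp [v, blk, a.2]
    · refine Finset.sum_eq_zero fun a _ => ?_
      by_cases ha : h a = k
      · exact mul_eq_zero_of_left (hblock b a fun e => hb (e.trans ha)) _
      · exact mul_eq_zero_of_right _ (by simp [v, ha])
  have := Matrix.mulVec_injective_iff_isUnit.2 hG hv
  exact funext fun a => by simpa [v, a.2] using congrFun this a.1

/-- Bringing the blocks of a frame into a given shape. -/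
theorem frame_of_blocks {V : Type*} [AddCommGroup V] [Module F V] [FiniteDimensional F V]
    {B : LinearMap.BilinForm F V}
    {N : Module.End F V} (hd : SkewData B N) {n : ℕ} {x : ι → V} (hf : Frame B N n h G x)
    {r : Fin n → ℕ} (hr : ∀ k : Fin n, Fintype.card {a // h a = (k : ℕ)} = r k)
    (H : ∀ k : Fin n, Matrix (Fin (r k)) (Fin (r k)) F) (hH : ∀ k, (H k).det ≠ 0)
    (hP : ∀ k : Fin n, ∃ P : Matrix {a // h a = (k : ℕ)} (Fin (r k)) F, Pᵀ * blk h G k * P = H k) :
    ∃ y, Frame B N n (fun p : (k : Fin n) × Fin (r k) => (p.1 : ℕ)) (blockDiagonal' H) y := by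
  choose P hP using hP
  let Q : Matrix ι ((k : Fin n) × Fin (r k)) F := Matrix.of fun a p =>
    if ha : h a = (p.1 : ℕ) then P p.1 ⟨a, ha⟩ p.2 else 0
  have hQ : Qᵀ * G * Q = blockDiagonal' H := by
    refine Matrix.ext fun p p' => ?_
    rw [Matrix.mul_assoc, Matrix.mul_apply,
      ← Finset.sum_filter_of_ne (p := fun a => h a = (p.1 : ℕ)) (fun a _ ha => by
        by_contra e; exact ha (by simp [Q, e])),
      Finset.sum_subtype (p := fun a => h a = (p.1 : ℕ)) _ (fun a => by simp)]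
    obtain ⟨k, i⟩ := p
    obtain ⟨k', i'⟩ := p'
    dsimp only
    by_cases hk : k = k'
    · subst hk
      rw [blockDiagonal'_apply_eq, ← hP k, Matrix.mul_assoc, Matrix.mul_apply]
      refine Finset.sum_congr rfl fun a _ => ?_
      rw [Matrix.mul_apply, Matrix.mul_apply,
        ← Finset.sum_filter_of_ne (p := fun a => h a = (k : ℕ)) (fun a' _ ha => by
          by_contra e; exact ha (by simp [Q, e])),
        Finset.sum_subtype (p := fun a => h a = (k : ℕ)) _ (fun a => by simp)]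
      simp only [Q, blk, Matrix.of_apply, transpose_apply, dif_pos a.2]
      exact congrArg _ (Finset.sum_congr rfl fun a' _ => by rw [dif_pos a'.2])
    · rw [blockDiagonal'_apply_ne _ _ _ hk]
      refine Finset.sum_eq_zero fun a _ => mul_eq_zero_of_right _ ?_
      rw [Matrix.mul_apply]
      refine Finset.sum_eq_zero fun a' _ => ?_
      by_cases ha' : h a' = (k' : ℕ)
      · rw [hf.block a.1 a' (by rw [a.2, ha']; exact fun e => hk (Fin.ext e))]; simp
      · simp [Q, ha']
  have hU : IsUnit (blockDiagonal' H) :=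
    IsUnit.of_mul_eq_one (blockDiagonal' fun k => (H k)⁻¹) (by
      rw [← blockDiagonal'_mul, ← blockDiagonal'_one]
      exact congrArg _ (funext fun k => Matrix.mul_nonsing_inv _ (isUnit_iff_ne_zero.2 (hH k))))
  have h1 := hf.change hd (fun p : (k : Fin n) × Fin (r k) => (p.1 : ℕ)) Q
    (fun a p ha => dif_neg ha) (hQ ▸ hU) (fun p => p.1.2) (by
      rw [hf.card, Fintype.sum_sigma, ← Finset.sum_fiberwise_of_maps_to
        (t := (Finset.univ : Finset (Fin n))) (g := fun a => (⟨h a, hf.lt a⟩ : Fin n)) (fun a _ => Finset.mem_univ _)]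
      refine Finset.sum_congr rfl fun k _ => ?_
      rw [Finset.sum_congr rfl (g := fun _ => (k : ℕ) + 1) fun a ha => by
        rw [← (Finset.mem_filter.1 ha).2]]
      simp [Fin.ext_iff, ← hr k, Fintype.card_subtype])
  rw [hQ] at h1
  exact ⟨_, h1⟩

end Blocks

section Cayley

variable {p : ℕ} [Fact p.Prime] [CharP F p] {m : ℕ}

local notation "Vm" => (Fin m ⊕ Fin m → F)
local notation "Spm" => Matrix.symplecticGroup (Fin m) F
local notation "Mat" => Matrix (Fin m ⊕ Fin m) (Fin m ⊕ Fin m) F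

/-- The Cayley transform. -/
noncomputable def cay (g : Spm) : Matrix (Fin m ⊕ Fin m) (Fin m ⊕ Fin m) F :=
  ((g : Mat) - 1) * ((g : Mat) + 1)⁻¹

theorem natCast_mat : (p : Mat) = 0 := by
  rw [← map_natCast (algebraMap F Mat), CharP.cast_eq_zero, map_zero]

theorem add_pow_p {A B : Mat} (h : Commute A B) : (A + B) ^ p = A ^ p + B ^ p := by
  obtain ⟨r, hr⟩ := h.exists_add_pow_prime_eq (Fact.out : p.Prime)
  rw [hr, natCast_mat, Matrix.zero_mul, Matrix.zero_mul, Matrix.zero_mul, add_zero]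

theorem sub_pow_p (hp : p ≠ 2) {A B : Mat} (h : Commute A B) : (A - B) ^ p = A ^ p - B ^ p := by
  rw [sub_eq_add_neg, add_pow_p h.neg_right, ((Fact.out : p.Prime).odd_of_ne_two hp).neg_pow, ← sub_eq_add_neg]

theorem sub_one_pow (hp : p ≠ 2) {g : Spm} (hg : g ^ p = 1) : ((g : Mat) - 1) ^ p = 0 := by
  rw [sub_pow_p hp (Commute.one_right _), one_pow, ← SubmonoidClass.coe_pow, hg]
  exact sub_self _

theorem isUnit_add_one (hp : p ≠ 2) {g : Spm} (hg : g ^ p = 1) :
    IsUnit (((g : Mat) + 1).det) := by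
  have h2 : (2 : F) ≠ 0 := Ring.two_ne_zero (by rwa [ringChar.eq F p])
  rw [← Matrix.isUnit_iff_isUnit_det,
    show (g : Mat) + 1 = (2 : F) • 1 + ((g : Mat) - 1) by rw [two_smul]; abel]
  have hn : IsNilpotent ((g : Mat) - 1) := ⟨p, sub_one_pow hp hg⟩
  refine hn.isUnit_add_left_of_commute ?_ ((Commute.one_right _).smul_right _)
  rw [Matrix.isUnit_iff_isUnit_det, det_smul, det_one, mul_one]
  exact (isUnit_iff_ne_zero.2 h2).pow _

theorem cay_mul (hp : p ≠ 2) {g : Spm} (hg : g ^ p = 1) :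
    cay g * ((g : Mat) + 1) = (g : Mat) - 1 := by
  rw [cay, Matrix.mul_assoc, Matrix.nonsing_inv_mul _ (isUnit_add_one hp hg), Matrix.mul_one]

theorem commute_cay (hp : p ≠ 2) {g : Spm} (hg : g ^ p = 1) : Commute (g : Mat) (cay g) := by
  have hu := isUnit_add_one hp hg
  have h1 : Commute (g : Mat) ((g : Mat) + 1)⁻¹ := by
    calc (g : Mat) * ((g : Mat) + 1)⁻¹
        = ((g : Mat) + 1)⁻¹ * (((g : Mat) + 1) * (g : Mat)) *
          ((g : Mat) + 1)⁻¹ := by
          rw [← Matrix.mul_assoc, Matrix.nonsing_inv_mul _ hu, Matrix.one_mul]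
      _ = ((g : Mat) + 1)⁻¹ * (g : Mat) := by
          rw [Matrix.add_mul, Matrix.one_mul, ← Matrix.mul_one (g : Mat), Matrix.mul_one
            (g : Mat), show (g : Mat) * g + g = g * (g + 1) by
              rw [Matrix.mul_add, Matrix.mul_one],
            Matrix.mul_assoc, Matrix.mul_assoc, Matrix.mul_nonsing_inv _ hu, Matrix.mul_one]
  exact ((Commute.refl _).sub_right (Commute.one_right _)).mul_right h1

theorem cay_pow (hp : p ≠ 2) {g : Spm} (hg : g ^ p = 1) : cay g ^ p = 0 := by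
  have hc : Commute ((g : Mat) + 1) (cay g) := (commute_cay hp hg).add_left (Commute.one_left _)
  have h1 : cay g ^ p * ((g : Mat) + 1) ^ p = 0 := by
    rw [← hc.symm.mul_pow, cay_mul hp hg, sub_one_pow hp hg]
  have hu : IsUnit (((g : Mat) + 1) ^ p) :=
    ((Matrix.isUnit_iff_isUnit_det _).2 (isUnit_add_one hp hg)).pow p
  exact hu.mul_left_eq_zero.1 h1

theorem mul_one_sub_cay (hp : p ≠ 2) {g : Spm} (hg : g ^ p = 1) :
    (g : Mat) * (1 - cay g) = 1 + cay g := by
  have h1 := cay_mul hp hg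
  rw [Matrix.mul_add, Matrix.mul_one, ← (commute_cay hp hg).eq, eq_sub_iff_add_eq] at h1
  rw [Matrix.mul_sub, Matrix.mul_one]
  linear_combination (norm := abel) -h1

/-- The endomorphism attached to an element of order `p`. -/
noncomputable def cayEnd (g : Spm) : Module.End F Vm := Matrix.toLin' (cay g)

theorem skewData (hp : p ≠ 2) {g : Spm} (hg : g ^ p = 1) : SkewData H48.sf (cayEnd g) := by
  refine ⟨H48.sf_self, fun x hx => H48.eq_zero_of_sf hx, fun x y => ?_⟩
  let G : Mat := (g : Mat)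
  have hu : IsUnit (G + 1) := (Matrix.isUnit_iff_isUnit_det _).2 (isUnit_add_one hp hg)
  obtain ⟨a, rfl⟩ : ∃ a, (G + 1) *ᵥ a = x := (Matrix.mulVec_surjective_iff_isUnit.2 hu) x
  obtain ⟨b, rfl⟩ : ∃ b, (G + 1) *ᵥ b = y := (Matrix.mulVec_surjective_iff_isUnit.2 hu) y
  have e : ∀ v, cayEnd g ((G + 1) *ᵥ v) = G *ᵥ v - v := fun v => by
    rw [cayEnd, Matrix.toLin'_apply, mulVec_mulVec, cay_mul hp hg, sub_mulVec, one_mulVec]
  have hiso : ∀ u v : Vm, H48.sf (G *ᵥ u) (G *ᵥ v) = H48.sf u v := H48.mem_symplectic_iff.1 g.2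
  rw [e, e, add_mulVec, add_mulVec, one_mulVec, one_mulVec]
  simp only [map_add, map_sub, LinearMap.add_apply, LinearMap.sub_apply, hiso]
  ring

theorem cayEnd_pow (hp : p ≠ 2) {g : Spm} (hg : g ^ p = 1) (v : Vm) : (cayEnd g ^ p) v = 0 := by
  rw [cayEnd, ← Matrix.toLin'_pow, cay_pow hp hg, map_zero, LinearMap.zero_apply]

theorem isUnit_one_sub {M : Matrix (Fin m ⊕ Fin m) (Fin m ⊕ Fin m) F} (h : M ^ p = 0) : IsUnit (1 - M) :=
  IsNilpotent.isUnit_one_sub ⟨p, h⟩

/-- Isometric transforms come from conjugate elements. -/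
theorem isConj_of_equiv (hp : p ≠ 2) {g g' : Spm} (hg : g ^ p = 1) (hg' : g' ^ p = 1) (φ : Vm ≃ₗ[F] Vm)
    (hB : ∀ u v, H48.sf (φ u) (φ v) = H48.sf u v) (hN : ∀ u, φ (cayEnd g u) = cayEnd g' (φ u)) :
    IsConj g g' := by
  let A : Mat := LinearMap.toMatrix' (φ : Vm →ₗ[F] Vm)
  have hA : ∀ u, A *ᵥ u = φ u := fun u => LinearMap.toMatrix'_mulVec _ u
  have hmem : A ∈ Spm := H48.mem_symplectic_iff.2 fun u v => by rw [hA, hA, hB]
  have hAN : A * cay g = cay g' * A := Matrix.ext_iff_mulVec.2 fun u => by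
    rw [← mulVec_mulVec, ← mulVec_mulVec, hA, hA]
    simpa [cayEnd] using hN u
  have key : A * (g : Mat) = (g' : Mat) * A := by
    apply (isUnit_one_sub (cay_pow hp hg)).mul_right_cancel
    rw [Matrix.mul_assoc, mul_one_sub_cay hp hg, Matrix.mul_add, Matrix.mul_one, hAN, Matrix.mul_assoc,
      Matrix.mul_sub, Matrix.mul_one, hAN, show A - cay g' * A = (1 - cay g') * A by
        rw [Matrix.sub_mul, Matrix.one_mul],
      ← Matrix.mul_assoc, mul_one_sub_cay hp hg', Matrix.add_mul, Matrix.one_mul]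
  refine isConj_iff.2 ⟨⟨A, hmem⟩, mul_inv_eq_iff_eq_mul.2 (Subtype.ext ?_)⟩
  exact key

/-- Frames move along conjugation. -/
theorem frame_of_isConj (hp : p ≠ 2) {g g' : Spm} (hg : g ^ p = 1) (hg' : g' ^ p = 1) (h : IsConj g g')
    {n : ℕ} {ι : Type} [Fintype ι] [DecidableEq ι] {e : ι → ℕ} {G : Matrix ι ι F} {x : ι → Vm}
    (hf : Frame H48.sf (cayEnd g) n e G x) : ∃ y, Frame H48.sf (cayEnd g') n e G y := by
  obtain ⟨c, rfl⟩ := isConj_iff.1 h
  let C : Mat := (c : Mat)
  have hC : C * cay g = cay (c * g * c⁻¹) * C := by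
    have h3 : (c : Mat) * (g : Mat) = ((c * g * c⁻¹ : Spm) : Mat) * C := by
      rw [← Submonoid.coe_mul, ← Submonoid.coe_mul, inv_mul_cancel_right]
    apply ((Matrix.isUnit_iff_isUnit_det _).2 (isUnit_add_one hp hg)).mul_right_cancel
    rw [Matrix.mul_assoc, cay_mul hp hg, Matrix.mul_assoc, Matrix.mul_add, Matrix.mul_one, Matrix.mul_sub,
      Matrix.mul_one, h3, show ((c * g * c⁻¹ : Spm) : Mat) * C + C =
        (((c * g * c⁻¹ : Spm) : Mat) + 1) * C by rw [Matrix.add_mul, Matrix.one_mul],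
      ← Matrix.mul_assoc, cay_mul hp hg', Matrix.sub_mul, Matrix.one_mul]
  have hpow : ∀ (j : ℕ) (v : Vm), C *ᵥ (cayEnd g ^ j) v = (cayEnd (c * g * c⁻¹) ^ j) (C *ᵥ v) := by
    intro j
    induction j with
    | zero => intro v; rfl
    | succ j ih =>
      intro v
      rw [pow_succ', pow_succ', Module.End.mul_apply, Module.End.mul_apply, ← ih]
      simp only [cayEnd, Matrix.toLin'_apply, mulVec_mulVec, hC]
  have hiso : ∀ u v : Vm, H48.sf (C *ᵥ u) (C *ᵥ v) = H48.sf u v := H48.mem_symplectic_iff.1 c.2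
  exact ⟨fun a => C *ᵥ x a, hf.lt, fun a => by rw [← hpow, hf.kill, mulVec_zero],
    fun a b j => by rw [← hpow, hiso, hf.pair], hf.block, hf.unit, hf.card⟩

/-- Skew data with `N ^ p = 0` occur in the symplectic group. -/
theorem exists_elt (hp : p ≠ 2) {V : Type*} [AddCommGroup V] [Module F V] [FiniteDimensional F V]
    {B : LinearMap.BilinForm F V} {N : Module.End F V} (hd : SkewData B N) (hN : ∀ v, (N ^ p) v = 0)
    (hdim : Module.finrank F V = 2 * m) {n : ℕ} {ι : Type} [Fintype ι] [DecidableEq ι] {e : ι → ℕ}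
    {G : Matrix ι ι F} {x : ι → V} (hf : Frame B N n e G x) :
    ∃ g : Spm, g ^ p = 1 ∧ ∃ y, Frame H48.sf (cayEnd g) n e G y := by
  have h2 : (2 : F) ≠ 0 := Ring.two_ne_zero (by rwa [ringChar.eq F p])
  let b := Module.finBasisOfFinrankEq F V hdim
  obtain ⟨ψ, hψ⟩ := H47.exists_symp_coords (m := m) (ι := Fin (2 * m))
    (f := fun u v => B (b.equivFun.symm u) (b.equivFun.symm v)) (Fintype.card_fin _) (by
    refine ⟨⟨fun x y v => by simp only [map_add, LinearMap.add_apply], fun c x v => by simp only [map_smul, LinearMap.smul_apply, smul_eq_mul],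
      fun v x y => by simp only [map_add], fun c v x => by simp only [map_smul, smul_eq_mul]⟩,
      fun u v => hd.swap _ _, fun v => hd.alt _, fun v hv => ⟨?_, ?_⟩⟩
    · by_contra! h
      exact hv (b.equivFun.symm.map_eq_zero_iff.1 (hd.nondeg _ fun y => by
        have := h (b.equivFun y)
        rw [LinearEquiv.symm_apply_apply] at this
        rw [hd.swap, this, neg_zero]))
    · by_contra! h
      exact hv (b.equivFun.symm.map_eq_zero_iff.1 (hd.nondeg _ fun y => by
        have := h (b.equivFun y)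
        rwa [LinearEquiv.symm_apply_apply] at this)))
  let φ : V ≃ₗ[F] Vm := b.equivFun.trans ψ
  have hφ : ∀ u v, H48.sf (φ u) (φ v) = B u v := fun u v => by
    show Cfsg.sympForm m F (ψ (b.equivFun u)) (ψ (b.equivFun v)) = _
    rw [hψ]
    simp
  let M : Mat := LinearMap.toMatrix' (φ.conj N)
  have hM : Matrix.toLin' M = φ.conj N := Matrix.toLin'_toMatrix' _
  have hMp : M ^ p = 0 := by
    apply Matrix.toLin'.injective
    rw [Matrix.toLin'_pow, hM, map_zero]
    refine LinearMap.ext fun v => ?_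
    rw [show φ.conj N ^ p = φ.conj (N ^ p) from (map_pow φ.conjRingEquiv N p).symm]
    simp [LinearEquiv.conj_apply, hN]
  have hskew : ∀ u v, H48.sf (M *ᵥ u) v = -H48.sf u (M *ᵥ v) := fun u v => by
    have e : ∀ w, M *ᵥ w = φ (N (φ.symm w)) := fun w => by
      rw [← Matrix.toLin'_apply, hM]; rfl
    conv_lhs => rw [e, ← φ.apply_symm_apply v, hφ, hd.skew, ← hφ, φ.apply_symm_apply, ← e]
  obtain ⟨u, hu⟩ := isUnit_one_sub hMp
  let W : Mat := (↑u⁻¹ : Mat)
  let A : Mat := (1 + M) * W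
  have hW : (1 - M) * W = 1 := by rw [← hu]; exact Units.mul_inv u
  have hW' : W * (1 - M) = 1 := by rw [← hu]; exact Units.inv_mul u
  have hmem : A ∈ Spm := H48.mem_symplectic_iff.2 fun a c => by
    have e : ∀ a, (1 + M) *ᵥ (W *ᵥ a) = A *ᵥ a ∧ (1 - M) *ᵥ (W *ᵥ a) = a := fun a =>
      ⟨mulVec_mulVec _ _ _, by rw [mulVec_mulVec, hW, one_mulVec]⟩
    conv_rhs => rw [← (e a).2, ← (e c).2]
    rw [← (e a).1, ← (e c).1]
    simp only [add_mulVec, sub_mulVec, one_mulVec, map_add, map_sub, LinearMap.add_apply, LinearMap.sub_apply,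
      hskew]
    ring
  have hc : Commute (1 + M) W := by
    have h0 : Commute (1 + M) (u : Mat) := by
      rw [hu]; exact ((Commute.one_left _).add_left (((Commute.one_right _).sub_right (Commute.refl M))))
    exact h0.units_inv_right
  have hg : (⟨A, hmem⟩ : Spm) ^ p = 1 := by
    refine Subtype.ext ?_
    rw [SubmonoidClass.coe_pow, OneMemClass.coe_one]
    show ((1 + M) * W) ^ p = 1
    rw [hc.mul_pow, add_pow_p (Commute.one_left M), one_pow, hMp, add_zero, Matrix.one_mul]
    have h1 : (1 - M) ^ p = 1 := by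
      rw [sub_pow_p hp (Commute.one_left M), one_pow, hMp, sub_zero]
    have h3 : Commute (1 - M) W := by rw [Commute, SemiconjBy, hW, hW']
    calc W ^ p = (1 - M) ^ p * W ^ p := by rw [h1, Matrix.one_mul]
      _ = 1 := by rw [← h3.mul_pow, hW, one_pow]
  refine ⟨⟨A, hmem⟩, hg, fun a => φ (x a), hf.lt, fun a => ?_, fun a c j => ?_, hf.block, hf.unit,
    φ.finrank_eq ▸ hf.card⟩
  all_goals
    have hcay : cayEnd (⟨A, hmem⟩ : Spm) = φ.conj N := by
      rw [← hM, cayEnd]
      congr 1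
      apply ((Matrix.isUnit_iff_isUnit_det _).2 (isUnit_add_one hp hg)).mul_right_cancel
      rw [cay_mul hp hg]
      show (1 + M) * W - 1 = M * ((1 + M) * W + 1)
      have e1 : W = 1 + M * W := by
        rw [Matrix.sub_mul, Matrix.one_mul, sub_eq_iff_eq_add] at hW; exact hW
      rw [Matrix.add_mul, Matrix.one_mul, Matrix.mul_add, Matrix.mul_add, Matrix.mul_one]
      have e2 : M * W = M + M * (M * W) := by
        conv_lhs => rw [e1, Matrix.mul_add, Matrix.mul_one]
      linear_combination (norm := abel) e1 + e2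
    have hpow : ∀ j v, (cayEnd (⟨A, hmem⟩ : Spm) ^ j) (φ v) = φ ((N ^ j) v) := fun j v => by
      rw [hcay, show φ.conj N ^ j = φ.conj (N ^ j) from (map_pow φ.conjRingEquiv N j).symm]
      simp [LinearEquiv.conj_apply]
  · rw [hpow, hf.kill, map_zero]
  · rw [hpow, hφ, hf.pair]

end Cayley

section Count

open scoped Classical

variable [Fintype F]

/-- The partitions with parts at most `p` and even multiplicities of odd parts, with signs on even parts. -/
abbrev Theta (p m : ℕ) : Type :=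
  (μ : {μ : Nat.Partition (2 * m) // (∀ a ∈ μ.parts, a ≤ p) ∧ ∀ j : ℕ, Odd j → Even (μ.parts.count j)}) ×
    ({j // j ∈ μ.1.parts.toFinset.filter (fun j : ℕ => Even j)} → Bool)

/-- Multiplicity of the blocks of height `k`. -/
def mult {p m : ℕ} (θ : Theta p m) (k : Fin p) : ℕ := θ.1.1.parts.count ((k : ℕ) + 1)

theorem sum_mult {p m : ℕ} (θ : Theta p m) :
    ∑ q : (k : Fin p) × Fin (mult θ k), ((q.1 : ℕ) + 1) = 2 * m := by
  rw [Fintype.sum_sigma]
  simp only [Finset.sum_const, Finset.card_univ, Fintype.card_fin, smul_eq_mul]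
  calc ∑ k : Fin p, mult θ k * ((k : ℕ) + 1)
      = ∑ j ∈ (Finset.univ : Finset (Fin p)).image (fun k : Fin p => (k : ℕ) + 1),
          θ.1.1.parts.count j * j := by
        rw [Finset.sum_image fun a _ b _ e => Fin.ext (by simpa using e)]; rfl
    _ = ∑ j ∈ θ.1.1.parts.toFinset, θ.1.1.parts.count j * j := by
        refine (Finset.sum_subset (fun j hj => ?_) (fun j _ hj => ?_)).symm
        · rw [Multiset.mem_toFinset] at hj
          have h1 := θ.1.2.1 j hj
          have h2 := θ.1.1.parts_pos hj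
          exact Finset.mem_image.2 ⟨⟨j - 1, by omega⟩, Finset.mem_univ _, by simp; omega⟩
        · rw [Multiset.count_eq_zero.2 fun hm => hj (Multiset.mem_toFinset.2 hm), Nat.zero_mul]
    _ = θ.1.1.parts.sum := by
        conv_rhs => rw [Finset.sum_multiset_count θ.1.1.parts]
        simp
    _ = 2 * m := θ.1.1.parts_sum

/-- The sign of the blocks of height `k`. -/
def sgn {p m : ℕ} (θ : Theta p m) (k : ℕ) : Bool :=
  if hk : k + 1 ∈ θ.1.1.parts.toFinset.filter (fun j : ℕ => Even j) then θ.2 ⟨k + 1, hk⟩ else false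

/-- The canonical blocks. -/
theorem exists_blocks {p m : ℕ} (δ : F) (hδ : δ ≠ 0) (θ : Theta p m) :
    ∃ H : ∀ k : Fin p, Matrix (Fin (mult θ k)) (Fin (mult θ k)) F,
      (∀ k, (H k)ᵀ = (-1 : F) ^ ((k : ℕ) + 1) • H k) ∧ (∀ k, (H k).det ≠ 0) ∧
      (∀ k : Fin p, Even (k : ℕ) → ∀ i, H k i i = 0) ∧
      (∀ k : Fin p, Odd (k : ℕ) → mult θ k ≠ 0 → (H k).det = if sgn θ k then δ else 1) := by
  suffices ∀ k : Fin p, ∃ H : Matrix (Fin (mult θ k)) (Fin (mult θ k)) F,
      Hᵀ = (-1 : F) ^ ((k : ℕ) + 1) • H ∧ H.det ≠ 0 ∧ (Even (k : ℕ) → ∀ i, H i i = 0) ∧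
        (Odd (k : ℕ) → mult θ k ≠ 0 → H.det = if sgn θ k then δ else 1) by
    choose H h1 h2 h3 h4 using this
    exact ⟨H, h1, h2, h3, h4⟩
  intro k
  rcases Nat.even_or_odd (k : ℕ) with hk | hk
  · obtain ⟨r, hr⟩ := θ.1.2.2 ((k : ℕ) + 1) hk.add_one
    let e : Fin r ⊕ Fin r ≃ Fin (mult θ k) := finSumFinEquiv.trans (finCongr hr.symm)
    refine ⟨(Matrix.J (Fin r) F).submatrix e.symm e.symm, ?_, ?_, fun _ i => ?_,
      fun h => absurd hk (Nat.not_even_iff_odd.2 h)⟩
    · rw [transpose_submatrix, Matrix.J_transpose, hk.add_one.neg_one_pow, neg_one_smul]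
      rfl
    · rw [det_submatrix_equiv_self]; exact H55.det_J_ne_zero r
    · rw [submatrix_apply]
      rcases e.symm i with a | a <;> simp [Matrix.J]
  · refine ⟨diagonal fun i => if (i : ℕ) = 0 ∧ sgn θ k then δ else 1, ?_, ?_,
      fun h => absurd h (Nat.not_even_iff_odd.2 hk), fun _ hne => ?_⟩
    · rw [diagonal_transpose, hk.add_one.neg_one_pow, one_smul]
    · rw [det_diagonal, Finset.prod_ne_zero_iff]
      intro i _
      split_ifs <;> simp [hδ]
    · rw [det_diagonal, Finset.prod_eq_single (⟨0, Nat.pos_of_ne_zero hne⟩ : Fin (mult θ k))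
        (fun i _ hi => if_neg fun e => hi (Fin.ext e.1)) (by simp)]
      simp

/-- Classes of elements killed by `p` biject with the signed partitions. -/
theorem exists_bijection {p : ℕ} [Fact p.Prime] [CharP F p] (hp : p ≠ 2) (m : ℕ) :
    Nat.card {C : ConjClasses ↥(Matrix.symplecticGroup (Fin m) F) // ∃ g, ConjClasses.mk g = C ∧ g ^ p = 1} =
      Nat.card (Theta p m) := by
  classical
  have hc2 : ringChar F ≠ 2 := by rwa [ringChar.eq F p]
  have h2 : (2 : F) ≠ 0 := Ring.two_ne_zero hc2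
  have hodd : Odd (Fintype.card F) := Nat.odd_iff.2 (FiniteField.odd_card_of_char_ne_two hc2)
  obtain ⟨δ, hδsq⟩ := FiniteField.exists_nonsquare hc2
  have hδ : δ ≠ 0 := fun e => hδsq (e ▸ IsSquare.zero)
  choose H hHt hH0 hHd hHs using fun θ : Theta p m => exists_blocks δ hδ θ
  have hex : ∀ θ : Theta p m, ∃ g : Matrix.symplecticGroup (Fin m) F, g ^ p = 1 ∧
      ∃ y, Frame H48.sf (cayEnd g) p (fun q : (k : Fin p) × Fin (mult θ k) => (q.1 : ℕ))
        (blockDiagonal' (H θ)) y := by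
    intro θ
    have hU : IsUnit (blockDiagonal' (H θ)) :=
      IsUnit.of_mul_eq_one (blockDiagonal' fun k => (H θ k)⁻¹) (by
        rw [← blockDiagonal'_mul, ← blockDiagonal'_one]
        exact congrArg _ (funext fun k => Matrix.mul_nonsing_inv _ (isUnit_iff_ne_zero.2 (hH0 θ k))))
    obtain ⟨B, N, x, hd, hf⟩ := exists_model (n := p) (fun q : (k : Fin p) × Fin (mult θ k) => (q.1 : ℕ))
      (blockDiagonal' (H θ)) (fun q => q.1.2)
      (fun q q' hq => blockDiagonal'_apply_ne _ _ _ fun e => hq (by rw [e])) hU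
      (fun q q' => by
        obtain ⟨k, i⟩ := q
        obtain ⟨k', i'⟩ := q'
        by_cases hk : k = k'
        · subst hk
          rw [blockDiagonal'_apply_eq, blockDiagonal'_apply_eq]
          exact congrFun (congrFun (hHt θ k) i) i'
        · rw [blockDiagonal'_apply_ne _ _ _ hk, blockDiagonal'_apply_ne _ _ _ (Ne.symm hk), mul_zero])
      (fun q hq => by rw [blockDiagonal'_apply_eq]; exact hHd θ q.1 hq q.2)
    refine exists_elt hp hd (fun v => ?_) (by rw [hf.card]; exact sum_mult θ) hf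
    rw [← (hf.basis hd).sum_repr v, map_sum]
    refine Finset.sum_eq_zero fun q _ => ?_
    rw [map_smul, hf.basis_apply hd, ← Module.End.mul_apply, ← pow_add,
      pow_kill (hf.kill q.1) (by have := hf.lt q.1; omega), smul_zero]
  choose g hg y hy using hex
  symm
  refine Nat.card_congr (Equiv.ofBijective (fun θ => ⟨ConjClasses.mk (g θ), g θ, rfl, hg θ⟩) ⟨?_, ?_⟩)
  · intro θ θ' he
    have hconj : IsConj (g θ) (g θ') := ConjClasses.mk_eq_mk_iff_isConj.1 (congrArg Subtype.val he)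
    obtain ⟨z, hz⟩ := frame_of_isConj hp (hg θ) (hg θ') hconj (hy θ)
    have hd := skewData hp (hg θ')
    have hcard : ∀ (θ : Theta p m) (k : Fin p),
        Fintype.card {a : (k : Fin p) × Fin (mult θ k) // (a.1 : ℕ) = (k : ℕ)} = mult θ k := fun θ k => by
      rw [Fintype.card_congr (β := Fin (mult θ k))
        { toFun := fun a => Fin.cast (by rw [Fin.ext a.2]) a.1.2
          invFun := fun i => ⟨⟨k, i⟩, rfl⟩
          left_inv := by rintro ⟨⟨k', i⟩, h⟩; obtain rfl := Fin.ext h; rfl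
          right_inv := fun i => rfl }, Fintype.card_fin]
    have hmult : ∀ k : Fin p, mult θ k = mult θ' k ∧
        (Odd (k : ℕ) → IsSquare ((H θ k).det * (H θ' k).det)) := by
      intro k
      have hdet : ∀ (θ : Theta p m), (blk (fun q : (k : Fin p) × Fin (mult θ k) => (q.1 : ℕ))
          (blockDiagonal' (H θ)) k).det = (H θ k).det := fun θ => by
        let e : Fin (mult θ k) ≃ {a : (k : Fin p) × Fin (mult θ k) // (a.1 : ℕ) = (k : ℕ)} :=
          { toFun := fun i => ⟨⟨k, i⟩, rfl⟩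
            invFun := fun a => Fin.cast (by rw [Fin.ext a.2]) a.1.2
            left_inv := fun i => rfl
            right_inv := by rintro ⟨⟨k', i⟩, h⟩; obtain rfl := Fin.ext h; rfl }
        rw [← det_submatrix_equiv_self e]
        congr 1
        ext i j
        simp [blk, e, blockDiagonal'_apply_eq]
      obtain ⟨C, hC⟩ := hz.exists_congr hd (hy θ') k
      obtain ⟨C', hC'⟩ := (hy θ').exists_congr hd hz k
      have hle : ∀ (θ θ' : Theta p m) (C : Matrix {a : (k : Fin p) × Fin (mult θ k) // (a.1 : ℕ) = (k : ℕ)}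
          {a : (k : Fin p) × Fin (mult θ' k) // (a.1 : ℕ) = (k : ℕ)} F),
          Cᵀ * blk (fun q : (k : Fin p) × Fin (mult θ k) => (q.1 : ℕ)) (blockDiagonal' (H θ)) k * C =
            blk (fun q : (k : Fin p) × Fin (mult θ' k) => (q.1 : ℕ)) (blockDiagonal' (H θ')) k →
          mult θ' k ≤ mult θ k := fun θ θ' C hC => by
        have h1 : (blk (fun q : (k : Fin p) × Fin (mult θ' k) => (q.1 : ℕ)) (blockDiagonal' (H θ')) k).rank ≤
            Fintype.card {a : (k : Fin p) × Fin (mult θ k) // (a.1 : ℕ) = (k : ℕ)} := by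
          rw [← hC]
          exact (Matrix.rank_mul_le_right _ _).trans (Matrix.rank_le_card_height _)
        rw [Matrix.rank_of_isUnit _ ((Matrix.isUnit_iff_isUnit_det _).2 (isUnit_iff_ne_zero.2
          (by rw [hdet]; exact hH0 θ' k))), hcard, hcard] at h1
        exact h1
      have heq := le_antisymm (hle θ' θ C' hC') (hle θ θ' C hC)
      refine ⟨heq, fun _ => ?_⟩
      let e := Fintype.equivOfCardEq (α := {a : (k : Fin p) × Fin (mult θ' k) // (a.1 : ℕ) = (k : ℕ)})
        (β := {a : (k : Fin p) × Fin (mult θ k) // (a.1 : ℕ) = (k : ℕ)}) (by rw [hcard, hcard, heq])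
      have h1 := congrArg Matrix.det hC
      rw [hdet θ'] at h1
      have h3 : (C.submatrix e id).det * (H θ k).det * (C.submatrix e id).det = (H θ' k).det := by
        rw [← hdet θ, ← det_submatrix_equiv_self e (blk _ _ _), ← h1,
          ← Matrix.det_transpose (C.submatrix e id), ← det_mul, Matrix.det_transpose, ← det_mul,
          transpose_submatrix, submatrix_mul_equiv, submatrix_mul_equiv, submatrix_id_id]
      rw [← h3]
      exact ⟨(H θ k).det * (C.submatrix e id).det, by ring⟩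
    have hparts : θ.1 = θ'.1 := by
      refine Subtype.ext (Nat.Partition.ext (Multiset.ext.2 fun j => ?_))
      by_cases hj : 1 ≤ j ∧ j ≤ p
      · have := (hmult ⟨j - 1, by omega⟩).1
        simp only [mult] at this
        rwa [show j - 1 + 1 = j by omega] at this
      · rw [Multiset.count_eq_zero.2 fun hm => hj ⟨θ.1.1.parts_pos hm, θ.1.2.1 j hm⟩,
          Multiset.count_eq_zero.2 fun hm => hj ⟨θ'.1.1.parts_pos hm, θ'.1.2.1 j hm⟩]
    obtain ⟨μ, ε⟩ := θ
    obtain ⟨μ', ε'⟩ := θ'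
    obtain rfl : μ = μ' := hparts
    refine Sigma.ext rfl (heq_of_eq (funext fun ⟨j, hj⟩ => ?_))
    have hj1 := Finset.mem_filter.1 hj
    have hjm : j ∈ μ.1.parts := Multiset.mem_toFinset.1 hj1.1
    obtain ⟨i, rfl⟩ : ∃ i, j = i + 1 := ⟨j - 1, by have := μ.1.parts_pos hjm; omega⟩
    have hi : i < p := μ.2.1 _ hjm
    have hio : Odd i := by
      rcases Nat.even_or_odd i with he | ho
      · exact absurd hj1.2 (Nat.not_even_iff_odd.2 he.add_one)
      · exact ho
    have hne : ∀ ε : _ → Bool, mult (⟨μ, ε⟩ : Theta p m) ⟨i, hi⟩ ≠ 0 := fun ε => by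
      simp only [mult]
      exact (Multiset.count_pos.2 hjm).ne'
    have hsq := (hmult ⟨i, hi⟩).2 hio
    rw [hHs _ ⟨i, hi⟩ hio (hne ε), hHs _ ⟨i, hi⟩ hio (hne ε')] at hsq
    simp only [sgn, dif_pos hj] at hsq
    cases hε : ε ⟨i + 1, hj⟩ <;> cases hε' : ε' ⟨i + 1, hj⟩ <;> simp [hε, hε', hδsq] at hsq ⊢
  · rintro ⟨_, u, rfl, hu⟩
    have hd := skewData hp hu
    obtain ⟨ι, _, _, h, G, x, hf⟩ := exists_frame h2 p _ H48.sf (cayEnd u) hd (cayEnd_pow hp hu)
    let parts : Multiset ℕ := Finset.univ.val.map fun a : ι => h a + 1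
    have hcount : ∀ k, parts.count (k + 1) = Fintype.card {a : ι // h a = k} := fun k => by
      rw [Fintype.card_subtype, Multiset.count_map, Finset.card_def, Finset.filter_val]
      refine congrArg _ (Multiset.filter_congr fun a _ => ?_)
      omega
    have hsum : parts.sum = 2 * m := by
      rw [← show Module.finrank F (Fin m ⊕ Fin m → F) = 2 * m by simp; omega, hf.card]
      rfl
    have hpos : ∀ {i : ℕ}, i ∈ parts → 0 < i := fun hi => by
      obtain ⟨a, -, rfl⟩ := Multiset.mem_map.1 hi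
      omega
    have hle : ∀ a ∈ parts, a ≤ p := fun i hi => by
      obtain ⟨a, -, rfl⟩ := Multiset.mem_map.1 hi
      exact hf.lt a
    have heven : ∀ j : ℕ, Odd j → Even (parts.count j) := fun j hj => by
      obtain ⟨k, rfl⟩ : ∃ k, j = k + 1 := ⟨j - 1, by have := hj.pos; omega⟩
      rw [hcount]
      have hk : Even k := by rwa [Nat.odd_add_one, Nat.not_odd_iff_even] at hj
      refine H55.even_card_of_skew h2 (A := blk h G k) ?_ (blk_det_ne_zero hf.block hf.unit k)
      rw [blk_transpose hd hf, hk.add_one.neg_one_pow, neg_one_smul]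
    let θ : Theta p m := ⟨⟨⟨parts, fun hi => hpos hi, hsum⟩, hle, heven⟩,
      fun j => decide (¬ IsSquare (blk h G (j.1 - 1)).det)⟩
    refine ⟨θ, Subtype.ext (ConjClasses.mk_eq_mk_iff_isConj.2 ?_)⟩
    have hr : ∀ k : Fin p, Fintype.card {a // h a = (k : ℕ)} = mult θ k := fun k => (hcount k).symm
    obtain ⟨z, hz⟩ := frame_of_blocks hd hf hr (H θ) (hH0 θ) (fun k => by
      refine strict_block hodd k (blk_transpose hd hf k) (hHt θ k) (blk_det_ne_zero hf.block hf.unit k)
        (hH0 θ k) (by rw [hr, Fintype.card_fin]) (fun hk => ?_)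
      by_cases h0 : mult θ k = 0
      · have e1 : IsEmpty {a // h a = (k : ℕ)} := Fintype.card_eq_zero_iff.1 ((hr k).trans h0)
        have e2 : IsEmpty (Fin (mult θ k)) := by rw [h0]; infer_instance
        rw [det_isEmpty, det_isEmpty, one_mul]; exact IsSquare.one
      · rw [hHs θ k hk h0]
        have hmem : (k : ℕ) + 1 ∈ parts.toFinset.filter (fun j : ℕ => Even j) :=
          Finset.mem_filter.2 ⟨Multiset.mem_toFinset.2 (Multiset.count_pos.1 (Nat.pos_of_ne_zero h0)),
            hk.add_one⟩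
        have hs : sgn θ k = decide (¬ IsSquare (blk h G k).det) := by
          rw [sgn, dif_pos hmem]
          show decide (¬ IsSquare (blk h G ((k : ℕ) + 1 - 1)).det) = _
          rw [Nat.add_sub_cancel]
        rw [hs]
        by_cases hsq : IsSquare (blk h G k).det
        · simp [hsq]
        · simp only [hsq, not_false_eq_true, decide_true, if_true]
          refine (quadraticChar_one_iff_isSquare (mul_ne_zero (blk_det_ne_zero hf.block hf.unit k) hδ)).1 ?_
          rw [map_mul, quadraticChar_neg_one_iff_not_isSquare.2 hsq, quadraticChar_neg_one_iff_not_isSquare.2 hδsq]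
          norm_num)
    obtain ⟨φ, hB, hN⟩ := (hy θ).exists_equiv (skewData hp (hg θ)) hd hz
    exact isConj_of_equiv hp (hg θ) hu φ hB hN

theorem card_theta (p m : ℕ) : Nat.card (Theta p m) =
    ∑ μ ∈ Finset.univ.filter (fun μ : Nat.Partition (2 * m) => (∀ a ∈ μ.parts, a ≤ p) ∧
      ∀ j : ℕ, Odd j → Even (μ.parts.count j)), 2 ^ ((μ.parts.toFinset.filter (fun j : ℕ => Even j)).card) := by
  classical
  rw [Nat.card_eq_fintype_card, Fintype.card_sigma]
  simp only [Fintype.card_fun, Fintype.card_bool, Fintype.card_coe]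
  exact (Finset.sum_subtype _ (fun μ => by simp)
    (fun μ : Nat.Partition (2 * m) => 2 ^ ((μ.parts.toFinset.filter (fun j : ℕ => Even j)).card))).symm

/-- Classes of elements of order `p`. -/
theorem card_order_p {p : ℕ} [Fact p.Prime] [CharP F p] (hp : p ≠ 2) (m : ℕ) :
    Nat.card {C : ConjClasses ↥(Matrix.symplecticGroup (Fin m) F) // ∃ g, ConjClasses.mk g = C ∧ orderOf g = p} =
      Nat.card (Theta p m) - 1 := by
  classical
  haveI : Fintype (ConjClasses ↥(Matrix.symplecticGroup (Fin m) F)) := Fintype.ofFinite _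
  rw [← exists_bijection (F := F) hp m, Nat.card_eq_fintype_card, Nat.card_eq_fintype_card, Fintype.card_subtype,
    Fintype.card_subtype,
    ← Finset.card_erase_of_mem (a := ConjClasses.mk (1 : ↥(Matrix.symplecticGroup (Fin m) F)))
      (Finset.mem_filter.2 ⟨Finset.mem_univ _, 1, rfl, one_pow p⟩)]
  refine congrArg Finset.card (Finset.ext fun C => ?_)
  simp only [Finset.mem_filter, Finset.mem_univ, true_and, Finset.mem_erase]
  constructor
  · rintro ⟨g, rfl, hg⟩
    refine ⟨fun e => ?_, g, rfl, hg ▸ pow_orderOf_eq_one g⟩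
    rw [isConj_one_left.1 (ConjClasses.mk_eq_mk_iff_isConj.1 e), orderOf_one] at hg
    exact (Fact.out : p.Prime).one_lt.ne hg
  · rintro ⟨hne, g, rfl, hg⟩
    exact ⟨g, rfl, orderOf_eq_prime hg fun e => hne (by rw [e])⟩

end Count

end H44.UnipSp
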